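import Mathlib

/-!
Arithmetic of the dimensions of invariant subspaces.
-/

set_option autoImplicit false

namespace H44.Elu

/-- Sufficiency for totally isotropic subspaces. -/
theorem arith_TI {n b c s m D1 D2 S1 S : ℕ} (hb : 0 < b) (hD : D1 + D2 = n) (hc : c ∣ D2) (hS1 : S1 ≤ 1)
    (hml : 2 * (m % b) ≤ n % c)
    (hcase : (c = 2 * b ∧ S = 0 ∧ 2 * m ≤ n) ∨ (c = b ∧ S = s * b ∧ s + 2 * (m / b) ≤ n / b)) :
    ∀ K1 K : ℕ, D1 ≤ 2 * K1 + S1 → D2 ≤ 2 * (K * b) + S → ∃ u k, u ≤ K1 ∧ k ≤ K ∧ u + k * b = m := by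
  intro K1 K h1 h2
  have hnD : n % c ≤ D1 := by
    obtain ⟨A, rfl⟩ := hc
    rw [← hD, Nat.add_mul_mod_self_left]
    exact Nat.mod_le _ _
  have hmd := Nat.mod_add_div m b
  by_cases hK : m / b ≤ K
  · refine ⟨m % b, m / b, by omega, hK, ?_⟩
    rw [mul_comm]; exact hmd
  · have hKm : K * b ≤ m := (Nat.mul_le_mul_right b (by omega : K ≤ m / b)).trans (Nat.div_mul_le_self m b)
    refine ⟨m - K * b, K, ?_, le_rfl, by omega⟩
    rcases hcase with ⟨-, rfl, h3⟩ | ⟨hcb, rfl, h3⟩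
    · omega
    · subst hcb
      have h4 := Nat.mul_le_mul_right c h3
      rw [add_mul, mul_assoc] at h4
      have h5 := Nat.div_mul_le_self n c
      have h6 := Nat.mod_add_div n c
      rw [mul_comm c (n / c)] at h6
      have h7 : m / c * c = m - m % c := by rw [mul_comm]; omega
      omega

/-- Necessity from the element moving as much as possible. -/
theorem arith_TI_dim {b c m u k D1 : ℕ} (h : u + k * b = m) (hu : 2 * u ≤ D1) (hD : D1 ≤ c) :
    2 * (m % b) ≤ c := by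
  have : m % b ≤ u := by rw [← h, Nat.add_mul_mod_self_right]; exact Nat.mod_le _ _
  omega

/-- Necessity from an element with many odd multiplicities. -/
theorem arith_TI_mult {n b m s : ℕ} (hb : 0 < b) (hs : 0 < s) (hbm : b ≤ m) (hmn : 2 * m ≤ n)
    (hlt : n / b < s + 2 * (m / b)) :
    ∃ A o, 1 ≤ o ∧ o ≤ A ∧ o ≤ s ∧ Even (A - o) ∧ A * b ≤ n ∧ n < 2 * m + o * b := by
  have h1 : 1 ≤ m / b := Nat.div_pos hbm hb
  have h2 : 2 * (m / b) ≤ n / b := by
    rw [Nat.le_div_iff_mul_le hb]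
    have := Nat.div_mul_le_self m b
    nlinarith
  have h3 := Nat.div_mul_le_self n b
  have h4 : n < (n / b + 1) * b := by
    have := Nat.mod_add_div n b
    have := Nat.mod_lt n hb
    nlinarith
  have h5 := Nat.div_mul_le_self m b
  by_cases hsN : s ≤ n / b
  · refine ⟨s + 2 * ((n / b - s) / 2), s, hs, by omega, le_rfl, ⟨(n / b - s) / 2, by omega⟩, ?_, ?_⟩
    · exact le_trans (Nat.mul_le_mul_right b (by omega)) h3
    · have : n / b + 1 ≤ s + 2 * (m / b) := hlt
      nlinarith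
  · refine ⟨n / b, n / b, by omega, le_rfl, by omega, ⟨0, by omega⟩, h3, ?_⟩
    nlinarith

/-- A multiple of `c` just below `n` forces `b ≤ m`. -/
theorem le_of_count {n b c m j : ℕ} (hj : c ∣ j) (hjn : j ≤ n) (hjm : n < j + 2 * m)
    (hml : 2 * (m % b) ≤ n % c) : b ≤ m := by
  by_contra hlt
  rw [Nat.mod_eq_of_lt (not_le.1 hlt)] at hml
  obtain ⟨a, rfl⟩ := hj
  have h1 := Nat.mod_add_div n c
  by_cases hc : c = 0
  · subst hc; simp at *; omega
  have h2 : a ≤ n / c := (Nat.le_div_iff_mul_le (Nat.pos_of_ne_zero hc)).2 (by rwa [mul_comm])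
  have := Nat.mul_le_mul_left c h2
  omega

/-- The same for nondegenerate subspaces. -/
theorem le_of_count_nd {n c m j : ℕ} (hj : c ∣ j) (hjn : j ≤ n) (hjm : n < j + m)
    (hml : m % c ≤ n % c) : c ≤ m := by
  by_contra hlt
  rw [Nat.mod_eq_of_lt (not_le.1 hlt)] at hml
  obtain ⟨a, rfl⟩ := hj
  have h1 := Nat.mod_add_div n c
  by_cases hc : c = 0
  · subst hc; simp at *
  have h2 : a ≤ n / c := (Nat.le_div_iff_mul_le (Nat.pos_of_ne_zero hc)).2 (by rwa [mul_comm])
  have := Nat.mul_le_mul_left c h2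
  omega

/-- Sufficiency for nondegenerate subspaces. -/
theorem arith_nd {n c m D1 D2 : ℕ} (hD : D1 + D2 = n) (hc : c ∣ D2) (hmn : m ≤ n) (h : m % c ≤ n % c) :
    ∃ e k, e ≤ D1 ∧ k * c ≤ D2 ∧ e + k * c = m := by
  obtain ⟨A, rfl⟩ := hc
  have hnD : n % c ≤ D1 := by
    rw [← hD, Nat.add_mul_mod_self_left]
    exact Nat.mod_le _ _
  by_cases hA : m / c ≤ A
  · refine ⟨m % c, m / c, by omega, ?_, by rw [mul_comm]; exact Nat.mod_add_div m c⟩
    rw [mul_comm c A]; exact Nat.mul_le_mul_right c hA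
  · have hAm : A * c ≤ m := (Nat.mul_le_mul_right c (by omega : A ≤ m / c)).trans (Nat.div_mul_le_self m c)
    exact ⟨m - A * c, A, by rw [mul_comm c A] at hD; omega, by rw [mul_comm], by omega⟩

/-- Necessity for nondegenerate subspaces. -/
theorem arith_nd_dim {c m e k D1 : ℕ} (h : e + k * c = m) (he : e ≤ D1) : m % c ≤ D1 := by
  rw [← h, Nat.add_mul_mod_self_right]
  exact (Nat.mod_le _ _).trans he

end H44.Elu
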