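import Mathlib

/-!
Reflexive sesquilinear forms and invariant subspaces of their isometries.
-/

set_option autoImplicit false

open Polynomial Module

namespace H44.Elu

variable {F : Type*} [Field F] {V : Type*} [AddCommGroup V] [Module F V] {σ : F →+* F}

/-- An `ε`-hermitian form with respect to the involution `σ`. -/
structure Herm (B : V →ₗ[F] V →ₛₗ[σ] F) (ε : F) : Prop where
  swap : ∀ u v, B v u = ε * σ (B u v)
  invol : ∀ a, σ (σ a) = a

/-- The map preserves the form. -/
def Iso (B : V →ₗ[F] V →ₛₗ[σ] F) (T : Module.End F V) : Prop := ∀ u v, B (T u) (T v) = B u v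

/-- The orthogonal subspace. -/
def orth (B : V →ₗ[F] V →ₛₗ[σ] F) (W : Submodule F V) : Submodule F V where
  carrier := {u | ∀ w ∈ W, B u w = 0}
  add_mem' ha hb w hw := by rw [map_add, LinearMap.add_apply, ha w hw, hb w hw, add_zero]
  zero_mem' w _ := by rw [map_zero, LinearMap.zero_apply]
  smul_mem' c u hu w hw := by rw [map_smul, LinearMap.smul_apply, hu w hw, smul_zero]

/-- The form vanishes on the subspace. -/
def TI (B : V →ₗ[F] V →ₛₗ[σ] F) (W : Submodule F V) : Prop := ∀ u ∈ W, ∀ v ∈ W, B u v = 0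

/-- The form is nondegenerate on the subspace. -/
def NdOn (B : V →ₗ[F] V →ₛₗ[σ] F) (W : Submodule F V) : Prop :=
  ∀ u ∈ W, (∀ v ∈ W, B u v = 0) → u = 0

variable {B : V →ₗ[F] V →ₛₗ[σ] F} {ε : F} {T : Module.End F V}

theorem mem_orth {W : Submodule F V} {u : V} : u ∈ orth B W ↔ ∀ w ∈ W, B u w = 0 := Iff.rfl

theorem Herm.refl (hB : Herm B ε) {u v : V} (h : B u v = 0) : B v u = 0 := by
  rw [hB.swap, h, map_zero, mul_zero]

theorem Herm.surj (hB : Herm B ε) : Function.Surjective σ := fun a => ⟨σ a, hB.invol a⟩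

theorem TI.mono {U W : Submodule F V} (h : TI B W) (hUW : U ≤ W) : TI B U :=
  fun u hu v hv => h u (hUW hu) v (hUW hv)

theorem ti_bot : TI B (⊥ : Submodule F V) := fun u hu v _ => by
  rw [(Submodule.mem_bot F).1 hu, map_zero, LinearMap.zero_apply]

theorem ndOn_bot : NdOn B (⊥ : Submodule F V) := fun _ hu _ => (Submodule.mem_bot F).1 hu

theorem TI.sup (hB : Herm B ε) {U W : Submodule F V} (hU : TI B U) (hW : TI B W)
    (hUW : W ≤ orth B U) : TI B (U ⊔ W) := by
  intro a ha b hb
  obtain ⟨u, hu, w, hw, rfl⟩ := Submodule.mem_sup.1 ha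
  obtain ⟨u', hu', w', hw', rfl⟩ := Submodule.mem_sup.1 hb
  simp [hU u hu u' hu', hW w hw w' hw', hUW hw u' hu', hB.refl (hUW hw' u hu)]

theorem NdOn.sup (hB : Herm B ε) {U W : Submodule F V} (hU : NdOn B U) (hW : NdOn B W)
    (hUW : W ≤ orth B U) : NdOn B (U ⊔ W) := by
  intro a ha h
  obtain ⟨u, hu, w, hw, rfl⟩ := Submodule.mem_sup.1 ha
  have h1 : u = 0 := hU u hu fun v hv => by
    have := h v (Submodule.mem_sup_left hv)
    rwa [map_add, LinearMap.add_apply, hUW hw v hv, add_zero] at this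
  have h2 : w = 0 := hW w hw fun v hv => by
    have := h v (Submodule.mem_sup_right hv)
    rwa [map_add, LinearMap.add_apply, hB.refl (hUW hv u hu), zero_add] at this
  rw [h1, h2, add_zero]

theorem disjoint_of_orth {U W : Submodule F V} (hU : NdOn B U) (hUW : W ≤ orth B U) : U ⊓ W = ⊥ :=
  (Submodule.eq_bot_iff _).2 fun u hu => hU u hu.1 (hUW hu.2)

theorem ti_inf_orth (U : Submodule F V) : TI B (U ⊓ orth B U) := fun _ hu v hv => hu.2 v hv.1

theorem ndOn_iff {U : Submodule F V} : NdOn B U ↔ U ⊓ orth B U = ⊥ :=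
  ⟨fun h => (Submodule.eq_bot_iff _).2 fun u hu => h u hu.1 hu.2,
    fun h u hu hv => (Submodule.eq_bot_iff _).1 h u ⟨hu, hv⟩⟩

section dims

variable [FiniteDimensional F V]

theorem finrank_orth_inf (hB : Herm B ε) {U W : Submodule F V} (hW : NdOn B W) (hUW : U ≤ W) :
    finrank F U + finrank F ↥(W ⊓ orth B U) = finrank F W := by
  classical
  let c := Module.finBasis F U
  let Φ : V →ₗ[F] Fin (finrank F U) → F :=
    { toFun := fun u j => B u (c j)
      map_add' := fun a b => funext fun j => by simp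
      map_smul' := fun a b => funext fun j => by simp }
  have hker : LinearMap.ker (Φ.domRestrict W) = (W ⊓ orth B U).comap W.subtype := by
    ext u
    simp only [LinearMap.mem_ker, LinearMap.domRestrict_apply, Submodule.mem_comap, Submodule.coe_subtype,
      Submodule.mem_inf, SetLike.coe_mem, true_and]
    refine ⟨fun h x hx => ?_, fun h => funext fun j => h _ (c j).2⟩
    have hx' : x = ∑ j, c.repr ⟨x, hx⟩ j • (c j : V) := by
      conv_lhs => rw [show x = U.subtype ⟨x, hx⟩ from rfl, ← c.sum_repr ⟨x, hx⟩, map_sum]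
      rfl
    rw [hx', map_sum]
    refine Finset.sum_eq_zero fun j _ => ?_
    have hj : B (u : V) (c j : V) = 0 := congrFun h j
    rw [LinearMap.map_smulₛₗ, hj, smul_zero]
  have hsurj : LinearMap.range (Φ.domRestrict W) = ⊤ := by
    by_contra hne
    obtain ⟨ψ, hψ0, hψ⟩ := Submodule.exists_dual_map_eq_bot_of_lt_top (lt_top_iff_ne_top.mpr hne) inferInstance
    choose d hd using fun j => hB.surj (ψ (Pi.single j 1))
    have hz : (∑ j, d j • (c j : V)) = 0 := by
      refine hW _ (sum_mem fun j _ => Submodule.smul_mem _ _ (hUW (c j).2)) fun u hu => hB.refl ?_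
      have h0 : ψ (Φ u) = 0 := by
        have : ψ (Φ.domRestrict W ⟨u, hu⟩) ∈ Submodule.map ψ (LinearMap.range (Φ.domRestrict W)) :=
          Submodule.mem_map_of_mem ⟨⟨u, hu⟩, rfl⟩
        rwa [hψ, Submodule.mem_bot] at this
      rw [← h0, map_sum, LinearMap.pi_apply_eq_sum_univ ψ]
      refine Finset.sum_congr rfl fun j _ => ?_
      rw [LinearMap.map_smulₛₗ, hd, smul_eq_mul, smul_eq_mul, mul_comm]
      congr 2
      ext k
      simp [Pi.single_apply, eq_comm]
    have hz' : (∑ j, d j • c j) = 0 := Subtype.ext (by simpa [map_sum] using hz)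
    have h0 := Fintype.linearIndependent_iff.1 c.linearIndependent d hz'
    refine hψ0 (LinearMap.pi_ext' fun j => LinearMap.ext_ring ?_)
    simp [← hd j, h0 j]
  have h := LinearMap.finrank_range_add_finrank_ker (Φ.domRestrict W)
  rw [hker, hsurj, finrank_top, finrank_fin_fun,
    (Submodule.comapSubtypeEquivOfLe (inf_le_left : W ⊓ orth B U ≤ W)).finrank_eq] at h
  exact h

theorem sup_orth_inf (hB : Herm B ε) {U W : Submodule F V} (hW : NdOn B W) (hU : NdOn B U) (hUW : U ≤ W) :
    U ⊔ W ⊓ orth B U = W := by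
  refine Submodule.eq_of_le_of_finrank_eq (sup_le hUW inf_le_left) ?_
  have h := Submodule.finrank_sup_add_finrank_inf_eq U (W ⊓ orth B U)
  rw [disjoint_of_orth hU inf_le_right, finrank_bot, add_zero, finrank_orth_inf hB hW hUW] at h
  exact h

theorem ndOn_orth_inf (hB : Herm B ε) {U W : Submodule F V} (hW : NdOn B W) (hU : NdOn B U) (hUW : U ≤ W) :
    NdOn B (W ⊓ orth B U) := by
  intro u hu h
  refine hW u hu.1 fun v hv => ?_
  rw [← sup_orth_inf hB hW hU hUW] at hv
  obtain ⟨a, ha, b, hb, rfl⟩ := Submodule.mem_sup.1 hv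
  rw [map_add, hu.2 a ha, h b hb, add_zero]

theorem finrank_sup_orth {U W : Submodule F V} (hU : NdOn B U) (hUW : W ≤ orth B U) :
    finrank F ↥(U ⊔ W) = finrank F U + finrank F W := by
  have h := Submodule.finrank_sup_add_finrank_inf_eq U W
  rwa [disjoint_of_orth hU hUW, finrank_bot, add_zero] at h

/-- A totally isotropic subspace of a nondegenerate space has at most half its dimension. -/
theorem two_mul_le_of_TI (hB : Herm B ε) {U W : Submodule F V} (hW : NdOn B W) (hUW : U ≤ W) (hU : TI B U) :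
    2 * finrank F U ≤ finrank F W := by
  have h := finrank_orth_inf hB hW hUW
  have : finrank F U ≤ finrank F ↥(W ⊓ orth B U) := Submodule.finrank_mono (le_inf hUW fun u hu v hv => hU u hu v hv)
  omega

end dims

/-! ### The isometry -/

theorem map_le_iff {W : Submodule F V} : W.map T ≤ W ↔ ∀ w ∈ W, T w ∈ W := Submodule.map_le_iff_le_comap

theorem inv_inf {U W : Submodule F V} (hU : U.map T ≤ U) (hW : W.map T ≤ W) : (U ⊓ W).map T ≤ U ⊓ W :=
  (Submodule.map_inf_le _).trans (inf_le_inf hU hW)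

theorem inv_sup {U W : Submodule F V} (hU : U.map T ≤ U) (hW : W.map T ≤ W) : (U ⊔ W).map T ≤ U ⊔ W := by
  rw [Submodule.map_sup]; exact sup_le_sup hU hW

theorem inv_pow {W : Submodule F V} (hW : W.map T ≤ W) (k : ℕ) : ∀ w ∈ W, (T ^ k) w ∈ W := by
  induction k with
  | zero => exact fun w hw => hw
  | succ k ih => intro w hw; rw [pow_succ', Module.End.mul_apply]; exact hW ⟨_, ih w hw, rfl⟩

theorem inv_aeval {W : Submodule F V} (hW : W.map T ≤ W) (P : F[X]) : ∀ w ∈ W, aeval T P w ∈ W := by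
  induction P using Polynomial.induction_on' with
  | add p q hp hq => intro w hw; rw [map_add]; exact W.add_mem (hp w hw) (hq w hw)
  | monomial n a =>
    intro w hw
    rw [← C_mul_X_pow_eq_monomial, map_mul, aeval_C, map_pow, aeval_X, Module.End.mul_apply,
      Module.algebraMap_end_apply]
    exact W.smul_mem _ (inv_pow hW n w hw)

theorem inv_ker_aeval (P : F[X]) : (LinearMap.ker (aeval T P)).map T ≤ LinearMap.ker (aeval T P) := by
  refine map_le_iff.2 fun w hw => ?_
  rw [LinearMap.mem_ker] at hw ⊢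
  have hc : aeval T P * T = T * aeval T P := by
    conv_lhs => arg 2; rw [← aeval_X (R := F) T]
    conv_rhs => arg 1; rw [← aeval_X (R := F) T]
    rw [← map_mul, ← map_mul, mul_comm]
  rw [← Module.End.mul_apply, hc, Module.End.mul_apply, hw, map_zero]

theorem Iso.injective (hI : Iso B T) (hnd : NdOn B (⊤ : Submodule F V)) : Function.Injective T := by
  rw [injective_iff_map_eq_zero]
  intro u hu
  exact hnd u trivial fun v _ => by rw [← hI u v, hu, map_zero, LinearMap.zero_apply]

theorem Iso.pow (hI : Iso B T) (k : ℕ) : Iso B (T ^ k) := by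
  induction k with
  | zero => exact fun _ _ => rfl
  | succ k ih => intro u v; rw [pow_succ', Module.End.mul_apply, Module.End.mul_apply, hI, ih]

theorem inv_orth [FiniteDimensional F V] (hI : Iso B T) (hinj : Function.Injective T) {W : Submodule F V}
    (hW : W.map T ≤ W) : (orth B W).map T ≤ orth B W := by
  refine map_le_iff.2 fun u hu w hw => ?_
  have he : W.map T = W := Submodule.eq_of_le_of_finrank_eq hW
    (Submodule.equivMapOfInjective T hinj W).finrank_eq.symm
  rw [← he] at hw
  obtain ⟨w', hw', rfl⟩ := hw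
  rw [hI]; exact hu w' hw'

/-- An invariant complement. -/
theorem exists_inv_compl (hss : T.IsSemisimple) {U W : Submodule F V} (hU : U.map T ≤ U) (hW : W.map T ≤ W)
    (hUW : U ≤ W) : ∃ C ≤ W, C.map T ≤ C ∧ U ⊔ C = W ∧ U ⊓ C = ⊥ := by
  obtain ⟨Q, hQ, hcompl⟩ := Module.End.isSemisimple_iff.1 hss U
    ((Module.End.mem_invtSubmodule T).2 (Submodule.map_le_iff_le_comap.1 hU))
  refine ⟨Q ⊓ W, inf_le_right,
    inv_inf (Submodule.map_le_iff_le_comap.2 ((Module.End.mem_invtSubmodule T).1 hQ)) hW, ?_, ?_⟩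
  · rw [← sup_inf_assoc_of_le Q hUW, hcompl.sup_eq_top, top_inf_eq]
  · rw [← inf_assoc, hcompl.inf_eq_bot, bot_inf_eq]

/-- The invariant subspace generated by a vector. -/
noncomputable def cyc (T : Module.End F V) (v : V) : Submodule F V :=
  LinearMap.range ((LinearMap.applyₗ v).comp (aeval T).toLinearMap : F[X] →ₗ[F] V)

theorem mem_cyc {v w : V} : w ∈ cyc T v ↔ ∃ P : F[X], aeval T P v = w := Iff.rfl

theorem self_mem_cyc (v : V) : v ∈ cyc T v := ⟨1, by simp⟩

theorem inv_cyc (v : V) : (cyc T v).map T ≤ cyc T v := by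
  refine map_le_iff.2 ?_
  rintro _ ⟨P, rfl⟩
  exact ⟨X * P, by simp⟩

theorem cyc_le {W : Submodule F V} (hW : W.map T ≤ W) {v : V} (hv : v ∈ W) : cyc T v ≤ W := by
  rintro _ ⟨P, rfl⟩
  exact inv_aeval hW P v hv

theorem finrank_cyc_le [FiniteDimensional F V] {v : V} {P : F[X]} (hP : P ≠ 0) (hv : aeval T P v = 0) :
    finrank F (cyc T v) ≤ P.natDegree := by
  have hle : cyc T v ≤ (degreeLT F P.natDegree).map ((LinearMap.applyₗ v).comp (aeval T).toLinearMap) := by
    rintro _ ⟨A, rfl⟩
    refine ⟨A % P, ?_, ?_⟩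
    · rw [SetLike.mem_coe, mem_degreeLT, ← degree_eq_natDegree hP]
      exact EuclideanDomain.mod_lt A hP
    · conv_rhs => rw [← EuclideanDomain.div_add_mod A P, mul_comm P]
      simp [hv]
  refine (Submodule.finrank_mono hle).trans ((Submodule.finrank_map_le _ _).trans (le_of_eq ?_))
  rw [(degreeLTEquiv F P.natDegree).finrank_eq, Module.finrank_fin_fun]

end H44.Elu
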