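import Mathlib
import Cfsg.Agent.H44.Elu.Space
import Cfsg.Agent.H38.WittHerm

/-!
Kernels of irreducible polynomials in isometries whose inverse is a Frobenius power.
-/

set_option autoImplicit false

open Polynomial Module

namespace H44.Elu

variable {F : Type*} [Field F] {V : Type*} [AddCommGroup V] [Module F V] {σ : F →+* F}
  {B : V →ₗ[F] V →ₛₗ[σ] F} {ε : F} {T : Module.End F V}

/-- The inverse of `T` is its `Q1`-th power and `σ` is the `Q1`-th power map. -/
structure SelfP (σ : F →+* F) (T : Module.End F V) (p Q1 : ℕ) : Prop where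
  charP : CharP F p
  prime : p.Prime
  pow : ∃ e, Q1 = p ^ e
  inv : T ^ (Q1 + 1) = 1
  frob : ∀ a, σ a = a ^ Q1

theorem aeval_adjoint {S S' : Module.End F V} (h : ∀ u v, B (S u) v = B u (S' v)) (hB : Herm B ε) (P : F[X]) :
    ∀ u v, B (aeval S P u) v = B u (aeval S' (P.map σ) v) := by
  induction P using Polynomial.induction_on' with
  | add p q hp hq => intro u v; simp [hp, hq]
  | monomial n a =>
    have hpow : ∀ k u v, B ((S ^ k) u) v = B u ((S' ^ k) v) := by
      intro k
      induction k with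
      | zero => intro u v; rfl
      | succ k ih => intro u v; rw [pow_succ', Module.End.mul_apply, h, ih, ← Module.End.mul_apply, ← pow_succ]
    intro u v
    simp only [← C_mul_X_pow_eq_monomial, Polynomial.map_mul, map_C, Polynomial.map_pow, map_X, map_mul, aeval_C,
      map_pow, aeval_X, Module.End.mul_apply, Module.algebraMap_end_apply, map_smul, LinearMap.smul_apply, hpow,
      LinearMap.map_smulₛₗ, hB.invol]

/-- Frobenius powers of polynomials. -/
theorem map_expand_pow {p : ℕ} (hp : p.Prime) [CharP F p] {Q1 e : ℕ} (hQ : Q1 = p ^ e) (hσ : ∀ a, σ a = a ^ Q1)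
    (P : F[X]) : expand F Q1 (P.map σ) = P ^ Q1 := by
  haveI := Fact.mk hp
  have hh : σ = iterateFrobenius F p e := RingHom.ext fun a => by rw [hσ, iterateFrobenius_def, hQ]
  rw [← map_expand, hh, hQ]
  exact map_iterateFrobenius_expand p P e

theorem SelfP.aeval_eq {p Q1 : ℕ} (hS : SelfP σ T p Q1) (P : F[X]) :
    aeval (T ^ Q1) (P.map σ) = aeval T P ^ Q1 := by
  haveI := hS.charP
  obtain ⟨e, he⟩ := hS.pow
  rw [← Polynomial.expand_aeval, map_expand_pow hS.prime he hS.frob, map_pow]

theorem SelfP.adjoint {p Q1 : ℕ} (hS : SelfP σ T p Q1) (hB : Herm B ε) (hI : Iso B T) (P : F[X]) (u v : V) :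
    B (aeval T P u) v = B u ((aeval T P ^ Q1) v) := by
  rw [← hS.aeval_eq]
  refine aeval_adjoint (fun a b => ?_) hB P u v
  conv_lhs => rw [show b = (T ^ (Q1 + 1)) b from by rw [hS.inv]; rfl, pow_succ', Module.End.mul_apply]
  exact hI _ _

/-- `T` squared has no fixed vectors, unless `σ` is not the identity. -/
def NZ (σ : F →+* F) (T : Module.End F V) (W : Submodule F V) : Prop :=
  σ ≠ RingHom.id F ∨ ∀ v ∈ W, T (T v) = v → v = 0

/-- In the kernel of an irreducible polynomial of degree less than the dimension there is a nonzero totally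
isotropic invariant subspace. -/
theorem exists_TI_top [FiniteDimensional F V] [Finite F] (hB : Herm B ε) (hI : Iso B T) {p Q1 : ℕ}
    (hS : SelfP σ T p Q1) (hnz : NZ σ T ⊤) {P : F[X]} (hP : Irreducible P) (hPT : aeval T P = 0)
    (hlt : P.natDegree < finrank F V) :
    ∃ U : Submodule F V, U ≠ ⊥ ∧ U.map T ≤ U ∧ TI B U := by
  classical
  haveI := hS.charP
  haveI := Fact.mk hS.prime
  obtain ⟨e, he⟩ := hS.pow
  haveI : Fact (Irreducible P) := ⟨hP⟩
  let K := AdjoinRoot P
  haveI : Module.Finite F K := (AdjoinRoot.powerBasis hP.ne_zero).finite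
  haveI : Finite K := Module.finite_of_finite F
  haveI : CharP K p := charP_of_injective_algebraMap (algebraMap F K).injective p
  haveI : Nontrivial V := Module.nontrivial_of_finrank_pos (R := F) (by omega)
  let φ : K →ₐ[F] Module.End F V := Ideal.Quotient.liftₐ _ (aeval T) (fun a ha => by
    obtain ⟨b, rfl⟩ := Ideal.mem_span_singleton.1 ha
    rw [map_mul, hPT, zero_mul])
  have hφmk : ∀ A : F[X], φ (AdjoinRoot.mk P A) = aeval T A := fun A => Ideal.Quotient.lift_mk _ _ _
  have hφinj : Function.Injective φ := φ.toRingHom.injective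
  let bar : K →+* K := iterateFrobenius K p e
  have hbar : ∀ x, bar x = x ^ Q1 := fun x => by rw [he]; rfl
  have hbaralg : ∀ a, bar (algebraMap F K a) = algebraMap F K (σ a) := fun a => by
    rw [hbar, ← map_pow, hS.frob]
  have hadj : ∀ (x : K) (u v : V), B (φ x u) v = B u (φ (bar x) v) := by
    intro x u v
    obtain ⟨A, rfl⟩ := AdjoinRoot.mk_surjective x
    rw [hbar, map_pow, hφmk]
    exact hS.adjoint hB hI A u v
  have hroot : φ (AdjoinRoot.root P) = T := (hφmk X).trans (aeval_X T)
  have hbb : ∀ x, bar (bar x) = x := by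
    have hinv : (AdjoinRoot.root P : K) ^ (Q1 + 1) = 1 := hφinj (by rw [map_pow, hroot, hS.inv, map_one])
    let bb : K →ₐ[F] K := { bar.comp bar with
      commutes' := fun a => by
        show bar (bar (algebraMap F K a)) = _
        rw [hbaralg, hbaralg, hB.invol] }
    have : bb = AlgHom.id F K := AdjoinRoot.algHom_ext (by
      show bar (bar (AdjoinRoot.root P)) = AdjoinRoot.root P
      have h1 : (AdjoinRoot.root P : K) * AdjoinRoot.root P ^ Q1 = 1 := by rw [← pow_succ']; exact hinv
      rw [hbar, hbar, eq_inv_of_mul_eq_one_right h1, _root_.inv_pow, eq_inv_of_mul_eq_one_right h1, inv_inv])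
    exact fun x => DFunLike.congr_fun this x
  have hbne : bar ≠ RingHom.id K := by
    intro hid
    rcases hnz with hσ | hT2
    · refine hσ (RingHom.ext fun a => (algebraMap F K).injective ?_)
      rw [← hbaralg, hid]; rfl
    · obtain ⟨v, hv⟩ := exists_ne (0 : V)
      refine hv (hT2 v trivial ?_)
      have h2 : (AdjoinRoot.root P : K) ^ 2 = 1 := by
        have h3 : (AdjoinRoot.root P : K) ^ (Q1 + 1) = 1 := hφinj (by rw [map_pow, hroot, hS.inv, map_one])
        rwa [pow_succ, ← hbar, hid, RingHom.id_apply, ← pow_two] at h3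
      have := congrArg φ h2
      rw [map_pow, map_one, hroot, pow_two] at this
      exact LinearMap.congr_fun this v
  -- the orbit map of a vector
  let L : V → K →ₗ[F] V := fun u => (LinearMap.applyₗ u).comp φ.toLinearMap
  have hLinv : ∀ u, (LinearMap.range (L u)).map T ≤ LinearMap.range (L u) := by
    intro u
    refine map_le_iff.2 ?_
    rintro _ ⟨x, rfl⟩
    exact ⟨AdjoinRoot.root P * x, by simp [L, map_mul, hroot]⟩
  have hLTI : ∀ u, (∀ x, B (φ x u) u = 0) → TI B (LinearMap.range (L u)) := by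
    rintro u hu _ ⟨x, rfl⟩ _ ⟨y, rfl⟩
    show B (φ x u) (φ y u) = 0
    rw [← hbb y, ← hadj, ← Module.End.mul_apply, ← map_mul]
    exact hu _
  have hLne : ∀ u, u ≠ 0 → LinearMap.range (L u) ≠ ⊥ := fun u hu h => hu ((Submodule.mem_bot F).1
    (h ▸ ⟨1, by simp [L]⟩))
  obtain ⟨u, hu⟩ := exists_ne (0 : V)
  by_cases hlam : ∀ x, B (φ x u) u = 0
  · exact ⟨_, hLne u hu, hLinv u, hLTI u hlam⟩
  -- a second vector orthogonal to the orbit of the first
  let bK := (AdjoinRoot.powerBasis hP.ne_zero).basis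
  have hdimK : finrank F K = P.natDegree := by
    rw [(AdjoinRoot.powerBasis hP.ne_zero).finrank, AdjoinRoot.powerBasis_dim]
  let Ψ : V →ₗ[F] Fin (AdjoinRoot.powerBasis hP.ne_zero).dim → F :=
    { toFun := fun w j => B w (φ (bK j) u)
      map_add' := fun a b => funext fun j => by simp
      map_smul' := fun a b => funext fun j => by simp }
  obtain ⟨w, hw, hw0⟩ := Submodule.exists_mem_ne_zero_of_ne_bot
    (LinearMap.ker_ne_bot_of_finrank_lt (f := Ψ) (by
      rw [finrank_fin_fun, AdjoinRoot.powerBasis_dim]; exact hlt))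
  have hperp : ∀ x, B w (φ x u) = 0 := fun x => by
    rw [← bK.sum_repr x, map_sum, LinearMap.sum_apply, map_sum]
    refine Finset.sum_eq_zero fun j _ => ?_
    have hj : B w (φ (bK j) u) = 0 := congrFun (LinearMap.mem_ker.1 hw) j
    rw [map_smul, LinearMap.smul_apply, LinearMap.map_smulₛₗ, hj, smul_zero]
  by_cases hmu : ∀ x, B (φ x w) w = 0
  · exact ⟨_, hLne w hw0, hLinv w, hLTI w hmu⟩
  let lam : K →ₗ[F] F :=
    { toFun := fun x => B (φ x u) u, map_add' := fun a b => by simp, map_smul' := fun a b => by simp }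
  let mu : K →ₗ[F] F :=
    { toFun := fun x => B (φ x w) w, map_add' := fun a b => by simp, map_smul' := fun a b => by simp }
  let θ : K →ₗ[F] Dual F K :=
    { toFun := fun c => mu.comp (LinearMap.mulLeft F c)
      map_add' := fun a b => LinearMap.ext fun x => by simp [add_mul]
      map_smul' := fun a b => LinearMap.ext fun x => by simp }
  have hθ : Function.Injective θ := by
    rw [injective_iff_map_eq_zero]
    intro c hc
    by_contra hc0
    refine hmu fun x => ?_
    have := LinearMap.congr_fun hc (c⁻¹ * x)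
    simpa [θ, mu, ← mul_assoc, mul_inv_cancel₀ hc0] using this
  obtain ⟨c, hc⟩ := (LinearMap.injective_iff_surjective_of_finrank_eq_finrank
    (Subspace.dual_finrank_eq).symm).1 hθ lam
  have hc' : ∀ x, B (φ (c * x) w) w = B (φ x u) u := fun x => LinearMap.congr_fun hc x
  have hswap : ∀ (x : K) (z : V), B (φ (bar x) z) z = ε * σ (B (φ x z) z) := fun x z => by
    rw [hB.swap z, hadj x z z]
  have hcc : bar c = c := by
    refine hθ (LinearMap.ext fun y => ?_)
    show B (φ (bar c * y) w) w = B (φ (c * y) w) w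
    conv_lhs => rw [← hbb y, ← map_mul, hswap]
    rw [hc', ← hswap, hbb, ← hc']
  obtain ⟨a, ha⟩ := H38.exists_norm_eq hbne hbb (μ := -c) (by rw [map_neg, hcc])
  let v := u + φ a w
  have hcross : ∀ x y : K, B (φ x u) (φ y w) = 0 := fun x y => by
    rw [hB.swap]
    have h1 : B (φ y w) (φ x u) = 0 := by
      rw [hadj, ← Module.End.mul_apply, ← map_mul]; exact hperp _
    rw [h1, map_zero, mul_zero]
  refine ⟨_, hLne v fun hv => hlam fun x => ?_, hLinv v, hLTI v fun x => ?_⟩
  · have hu' : u = - φ a w := eq_neg_of_add_eq_zero_left hv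
    nth_rewrite 2 [hu']
    rw [map_neg, hcross, neg_zero]
  · show B (φ x (u + φ a w)) (u + φ a w) = 0
    rw [map_add (φ x), map_add B, LinearMap.add_apply, map_add, map_add, hcross x a,
      ← Module.End.mul_apply, ← map_mul]
    have h1 : B (φ (x * a) w) u = 0 := by
      have := hcross 1 (x * a)
      rw [map_one, Module.End.one_apply] at this
      exact hB.refl this
    have h2 : B (φ (x * a) w) (φ a w) = B (φ (-c * x) w) w := by
      rw [← ha]
      nth_rewrite 2 [← hbb a]
      rw [← hadj, ← Module.End.mul_apply, ← map_mul, mul_assoc, mul_comm x a]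
    rw [h1, h2, neg_mul, map_neg, LinearMap.neg_apply, map_neg, LinearMap.neg_apply, hc']
    ring

/-- The inverse of `T` on the subspace is its `Q1`-th power and `σ` is the `Q1`-th power map. -/
structure SelfPOn (σ : F →+* F) (T : Module.End F V) (p Q1 : ℕ) (W : Submodule F V) : Prop where
  charP : CharP F p
  prime : p.Prime
  pow : ∃ e, Q1 = p ^ e
  inv : ∀ v ∈ W, (T ^ (Q1 + 1)) v = v
  frob : ∀ a, σ a = a ^ Q1

theorem SelfPOn.mono {p Q1 : ℕ} {U W : Submodule F V} (h : SelfPOn σ T p Q1 W) (hUW : U ≤ W) :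
    SelfPOn σ T p Q1 U :=
  ⟨h.charP, h.prime, h.pow, fun v hv => h.inv v (hUW hv), h.frob⟩

/-- The form restricted to a subspace. -/
def resB (B : V →ₗ[F] V →ₛₗ[σ] F) (W : Submodule F V) : W →ₗ[F] W →ₛₗ[σ] F where
  toFun a := (B (a : V)).comp W.subtype
  map_add' a b := LinearMap.ext fun x => by simp
  map_smul' a b := LinearMap.ext fun x => by simp

/-- The map restricted to an invariant subspace. -/
def resT (T : Module.End F V) {W : Submodule F V} (hW : W.map T ≤ W) : Module.End F W :=
  T.restrict (map_le_iff.1 hW)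

theorem aeval_resT {W : Submodule F V} (hW : W.map T ≤ W) (P : F[X]) :
    ∀ x : W, ((aeval (resT T hW) P x : W) : V) = aeval T P (x : V) := by
  induction P using Polynomial.induction_on with
  | C a => intro x; simp [Module.algebraMap_end_apply]
  | add p q hp hq => intro x; simp [hp x, hq x]
  | monomial n a ih =>
    intro x
    rw [pow_succ, ← mul_assoc, map_mul (aeval (resT T hW)), map_mul (aeval T), aeval_X, aeval_X,
      Module.End.mul_apply, Module.End.mul_apply, ih]
    rfl

theorem resT_pow {W : Submodule F V} (hW : W.map T ≤ W) (k : ℕ) (x : W) :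
    (((resT T hW ^ k) x : W) : V) = (T ^ k) (x : V) := by
  simpa using aeval_resT hW (X ^ k) x

theorem Herm.res (hB : Herm B ε) (W : Submodule F V) : Herm (resB B W) ε := ⟨fun _ _ => hB.swap _ _, hB.invol⟩

theorem Iso.res (hI : Iso B T) {W : Submodule F V} (hW : W.map T ≤ W) : Iso (resB B W) (resT T hW) :=
  fun _ _ => hI _ _

theorem SelfPOn.res {p Q1 : ℕ} {W : Submodule F V} (hS : SelfPOn σ T p Q1 W) (hW : W.map T ≤ W) :
    SelfP σ (resT T hW) p Q1 :=
  ⟨hS.charP, hS.prime, hS.pow, LinearMap.ext fun x => Subtype.ext ((resT_pow hW _ x).trans (hS.inv _ x.2)), hS.frob⟩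

theorem SelfPOn.adjoint {p Q1 : ℕ} {W : Submodule F V} (hS : SelfPOn σ T p Q1 W) (hB : Herm B ε) (hI : Iso B T)
    (hW : W.map T ≤ W) (P : F[X]) {u v : V} (hu : u ∈ W) (hv : v ∈ W) :
    B (aeval T P u) v = B u ((aeval T P ^ Q1) v) := by
  have h := (hS.res hW).adjoint (hB.res W) (hI.res hW) P ⟨u, hu⟩ ⟨v, hv⟩
  rw [← map_pow] at h ⊢
  rw [← aeval_resT hW P ⟨u, hu⟩, ← aeval_resT hW (P ^ Q1) ⟨v, hv⟩]
  exact h

/-- The same inside an invariant subspace. -/
theorem exists_TI_killed [FiniteDimensional F V] [Finite F] (hB : Herm B ε) (hI : Iso B T) {p Q1 : ℕ}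
    {R : Submodule F V} (hS : SelfPOn σ T p Q1 R) (hR : R.map T ≤ R) (hnz : NZ σ T R) {P : F[X]} (hP : Irreducible P)
    (hPT : R ≤ LinearMap.ker (aeval T P)) (hlt : P.natDegree < finrank F R) :
    ∃ U ≤ R, U ≠ ⊥ ∧ U.map T ≤ U ∧ TI B U := by
  obtain ⟨U, hU0, hU, hUT⟩ := exists_TI_top (hB.res R) (hI.res hR) (hS.res hR)
    (hnz.imp_right fun h x _ hx => Subtype.ext (h x x.2 (congrArg Subtype.val hx))) hP
    (LinearMap.ext fun x => Subtype.ext (by rw [aeval_resT]; exact LinearMap.mem_ker.1 (hPT x.2))) hlt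
  refine ⟨U.map R.subtype, Submodule.map_subtype_le R U,
    fun h => hU0 (Submodule.map_injective_of_injective R.subtype_injective (by rw [h, Submodule.map_bot])), ?_, ?_⟩
  · refine map_le_iff.2 ?_
    rintro _ ⟨x, hx, rfl⟩
    exact ⟨resT T hR x, hU ⟨x, hx, rfl⟩, rfl⟩
  · rintro _ ⟨x, hx, rfl⟩ _ ⟨y, hy, rfl⟩
    exact hUT x hx y hy

end H44.Elu
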