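import Mathlib
import Cfsg.Agent.H44.Elu.Field
import Cfsg.Agent.H46.ElusiveLin

/-!
Totally isotropic and nondegenerate invariant subspaces of a nondegenerate invariant subspace in which all
invariant subspaces have dimension divisible by a fixed number.
-/

set_option autoImplicit false

open Polynomial Module

namespace H44.Elu

variable {F : Type*} [Field F] {V : Type*} [AddCommGroup V] [Module F V] {σ : F →+* F}
  {B : V →ₗ[F] V →ₛₗ[σ] F} {ε : F} {T : Module.End F V}

/-- A nondegenerate invariant subspace killed by `g` whose invariant subspaces have dimension divisible by `b`,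
the degree bound for the irreducible factors of `g`. -/
structure Part (B : V →ₗ[F] V →ₛₗ[σ] F) (T : Module.End F V) (W : Submodule F V) (b : ℕ) (g : F[X]) : Prop where
  inv : W.map T ≤ W
  nd : NdOn B W
  g0 : g ≠ 0
  kill : W ≤ LinearMap.ker (aeval T g)
  deg : ∀ P : F[X], Irreducible P → P ∣ g → P.natDegree ≤ b
  dvd : ∀ N ≤ W, N.map T ≤ N → b ∣ finrank F N

variable {W : Submodule F V} {b : ℕ} {g : F[X]}

theorem Part.mono (hp : Part B T W b g) {N : Submodule F V} (hNW : N ≤ W) (hN : N.map T ≤ N) (hn : NdOn B N) :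
    Part B T N b g :=
  ⟨hN, hn, hp.g0, hNW.trans hp.kill, hp.deg, fun M hM => hp.dvd M (hM.trans hNW)⟩

variable [FiniteDimensional F V]

theorem Part.exists_min (hp : Part B T W b g) {N : Submodule F V} (hNW : N ≤ W) (hN : N.map T ≤ N) (h0 : N ≠ ⊥) :
    ∃ v ∈ N, v ≠ 0 ∧ cyc T v ≤ N ∧ finrank F (cyc T v) = b ∧
      ∃ P : F[X], Irreducible P ∧ P ∣ g ∧ aeval T P v = 0 ∧ P.natDegree = b := by
  obtain ⟨v, hv, hv0⟩ := Submodule.exists_mem_ne_zero_of_ne_bot h0
  obtain ⟨w, hw, hw0, P, hP, hPg, hPw⟩ :=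
    H46.Elusive.exists_killed_factor T N hN g hp.g0 v hv hv0 (LinearMap.mem_ker.1 (hp.kill (hNW hv)))
  have hle := cyc_le hN hw
  have h1 := finrank_cyc_le hP.ne_zero hPw
  have h2 := hp.deg P hP hPg
  have h3 : 0 < finrank F (cyc T w) := Nat.pos_of_ne_zero fun h => hw0 <| by
    have := self_mem_cyc (T := T) w
    rwa [Submodule.finrank_eq_zero.1 h, Submodule.mem_bot] at this
  have h4 := Nat.le_of_dvd h3 (hp.dvd _ (hle.trans hNW) (inv_cyc w))
  exact ⟨w, hw, hw0, hle, by omega, P, hP, hPg, hPw, by omega⟩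

/-- Invariant subspaces of all possible smaller dimensions. -/
theorem Part.exists_sub (hp : Part B T W b g) (hss : T.IsSemisimple) {U : Submodule F V} (hUW : U ≤ W)
    (hU : U.map T ≤ U) : ∀ k, k * b ≤ finrank F U → ∃ N ≤ U, N.map T ≤ N ∧ finrank F N = k * b := by
  intro k
  induction k with
  | zero => exact fun _ => ⟨⊥, bot_le, by simp, by simp⟩
  | succ k ih =>
    intro hk
    rw [Nat.succ_mul] at hk
    obtain ⟨N, hNU, hN, hNd⟩ := ih (by omega)
    rcases Nat.eq_zero_or_pos b with hb | hb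
    · exact ⟨N, hNU, hN, by rw [hNd, hb]; simp⟩
    obtain ⟨C, hCU, hC, hsup, hinf⟩ := exists_inv_compl hss hN hU hNU
    have hdim := Submodule.finrank_sup_add_finrank_inf_eq N C
    rw [hsup, hinf, finrank_bot, add_zero, hNd] at hdim
    obtain ⟨v, -, -, hvC, hvd, -⟩ := hp.exists_min (hCU.trans hUW) hC fun h => by
      rw [h, finrank_bot] at hdim; omega
    refine ⟨N ⊔ cyc T v, sup_le hNU (hvC.trans hCU), inv_sup hN (inv_cyc v), ?_⟩
    have h := Submodule.finrank_sup_add_finrank_inf_eq N (cyc T v)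
    rw [show N ⊓ cyc T v = ⊥ from le_bot_iff.1 ((inf_le_inf_left N hvC).trans hinf.le), finrank_bot, add_zero,
      hNd, hvd] at h
    rw [h, Nat.succ_mul]

/-- A largest totally isotropic invariant subspace and an invariant complement without such subspaces. -/
theorem exists_residual (hB : Herm B ε) (hI : Iso B T) (hinj : Function.Injective T) (hss : T.IsSemisimple)
    (hW : W.map T ≤ W) (hWn : NdOn B W) :
    ∃ U C : Submodule F V, U ≤ W ∧ U.map T ≤ U ∧ TI B U ∧ C ≤ W ∧ C.map T ≤ C ∧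
      finrank F W = 2 * finrank F U + finrank F C ∧
      ∀ N ≤ C, N.map T ≤ N → TI B N → N = ⊥ := by
  classical
  let P : ℕ → Prop := fun n => ∃ U : Submodule F V, U ≤ W ∧ U.map T ≤ U ∧ TI B U ∧ finrank F U = n
  obtain ⟨U, hUW, hU, hUT, hUd⟩ : P (Nat.findGreatest P (finrank F W)) :=
    Nat.findGreatest_spec (Nat.zero_le _) ⟨⊥, bot_le, by simp, ti_bot, finrank_bot F V⟩
  have hO : (W ⊓ orth B U).map T ≤ W ⊓ orth B U := inv_inf hW (inv_orth hI hinj hU)
  obtain ⟨C, hCO, hC, hsup, hinf⟩ := exists_inv_compl hss hU hO (le_inf hUW fun u hu v hv => hUT u hu v hv)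
  refine ⟨U, C, hUW, hU, hUT, hCO.trans inf_le_left, hC, ?_, fun N hNC hN hNT => ?_⟩
  · have h1 := finrank_orth_inf hB hWn hUW
    have h2 := Submodule.finrank_sup_add_finrank_inf_eq U C
    rw [hsup, hinf, finrank_bot] at h2
    omega
  · by_contra hN0
    have hUN : TI B (U ⊔ N) := hUT.sup hB hNT ((hNC.trans hCO).trans inf_le_right)
    have hd := Submodule.finrank_sup_add_finrank_inf_eq U N
    rw [show U ⊓ N = ⊥ from le_bot_iff.1 ((inf_le_inf_left U hNC).trans hinf.le), finrank_bot, add_zero] at hd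
    have hpos : 0 < finrank F N := Nat.pos_of_ne_zero fun h => hN0 (Submodule.finrank_eq_zero.1 h)
    have hle : U ⊔ N ≤ W := sup_le hUW ((hNC.trans hCO).trans inf_le_left)
    have := Nat.le_findGreatest (P := P) (Submodule.finrank_mono hle)
      ⟨U ⊔ N, hle, inv_sup hU hN, hUN, rfl⟩
    omega

/-- An invariant subspace without totally isotropic invariant subspaces is small. -/
theorem finrank_le_of_no_TI [Finite F] (hB : Herm B ε) (hI : Iso B T) {p Q1 : ℕ} :
    ∀ g : F[X], g ≠ 0 → ∀ C : Submodule F V, C.map T ≤ C → C ≤ LinearMap.ker (aeval T g) →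
      SelfPOn σ T p Q1 C → NZ σ T C → (∀ N ≤ C, N.map T ≤ N → TI B N → N = ⊥) →
      finrank F C ≤ g.natDegree := by
  intro g
  refine UniqueFactorizationMonoid.induction_on_prime g ?_ ?_ ?_
  · intro h; exact absurd rfl h
  · intro x hx _ C _ hk _ _ _
    have : C = ⊥ := (Submodule.eq_bot_iff _).2 fun v hv => by
      obtain ⟨y, hy⟩ := hx.exists_left_inv
      have h2 := congrArg (fun P => aeval T P v) hy
      simp only [map_mul, Module.End.mul_apply, LinearMap.mem_ker.1 (hk hv), map_zero, map_one,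
        Module.End.one_apply] at h2
      exact h2.symm
    rw [this, finrank_bot]; exact Nat.zero_le _
  · intro a pr ha hpr ih _ C hC hk hS hnz hno
    let R := C ⊓ LinearMap.ker (aeval T pr)
    let I := C.map (aeval T pr)
    have hIC : I ≤ C := by rintro _ ⟨x, hx, rfl⟩; exact inv_aeval hC pr x hx
    have hIinv : I.map T ≤ I := by
      refine map_le_iff.2 ?_
      rintro _ ⟨x, hx, rfl⟩
      refine ⟨T x, hC ⟨x, hx, rfl⟩, ?_⟩
      have hc : aeval T pr * T = T * aeval T pr := by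
        conv_lhs => arg 2; rw [← aeval_X (R := F) T]
        conv_rhs => arg 1; rw [← aeval_X (R := F) T]
        rw [← map_mul, ← map_mul, mul_comm]
      exact LinearMap.congr_fun hc x
    have h1 : finrank F I ≤ a.natDegree := ih ha I hIinv (by
        rintro _ ⟨x, hx, rfl⟩
        rw [LinearMap.mem_ker, ← Module.End.mul_apply, ← map_mul, mul_comm]
        exact LinearMap.mem_ker.1 (hk hx))
      (hS.mono hIC) (hnz.imp_right fun h v hv => h v (hIC hv)) (fun N hN => hno N (hN.trans hIC))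
    have h2 : finrank F R ≤ pr.natDegree := by
      by_contra hlt
      obtain ⟨N, hNR, hN0, hN, hNT⟩ := exists_TI_killed hB hI (hS.mono inf_le_left)
        (inv_inf hC (inv_ker_aeval pr)) (hnz.imp_right fun h v hv => h v hv.1) hpr.irreducible inf_le_right
        (not_le.1 hlt)
      exact hN0 (hno N (hNR.trans inf_le_left) hN hNT)
    have h3 := LinearMap.finrank_range_add_finrank_ker ((aeval T pr).domRestrict C)
    rw [LinearMap.range_domRestrict] at h3
    have h4 : LinearMap.ker ((aeval T pr).domRestrict C) = R.comap C.subtype := by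
      ext x; simp [R]
    rw [h4, (Submodule.comapSubtypeEquivOfLe (inf_le_left : R ≤ C)).finrank_eq] at h3
    rw [natDegree_mul hpr.ne_zero ha]
    simp only [R, I] at h1 h2 h3
    omega

/-- No invariant subspace of dimension `b` is nondegenerate. -/
def NoNd (B : V →ₗ[F] V →ₛₗ[σ] F) (T : Module.End F V) (W : Submodule F V) (b : ℕ) : Prop :=
  ∀ N ≤ W, N.map T ≤ N → finrank F N = b → ¬ NdOn B N

/-- Without small nondegenerate invariant subspaces there is a totally isotropic invariant half. -/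
theorem Part.exists_half (hp : Part B T W b g) (hB : Herm B ε) (hI : Iso B T) (hinj : Function.Injective T)
    (hss : T.IsSemisimple) (hno : NoNd B T W b) :
    ∃ U ≤ W, U.map T ≤ U ∧ TI B U ∧ finrank F W = 2 * finrank F U := by
  obtain ⟨U, C, hUW, hU, hUT, hCW, hC, hd, hC0⟩ := exists_residual hB hI hinj hss hp.inv hp.nd
  by_cases h : C = ⊥
  · exact ⟨U, hUW, hU, hUT, by rw [hd, h, finrank_bot, add_zero]⟩
  obtain ⟨v, -, hv0, hvC, hvd, -⟩ := hp.exists_min hCW hC h
  refine absurd (ndOn_iff.2 (hC0 _ (inf_le_left.trans hvC) (inv_inf (inv_cyc v) (inv_orth hI hinj (inv_cyc v)))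
    (ti_inf_orth _))) (hno _ (hvC.trans hCW) (inv_cyc v) hvd)

/-- A totally isotropic invariant subspace extends to a nondegenerate invariant subspace of twice the dimension. -/
theorem exists_double (hB : Herm B ε) (hI : Iso B T) (hinj : Function.Injective T) (hss : T.IsSemisimple)
    (hW : W.map T ≤ W) (hWn : NdOn B W) {U : Submodule F V} (hUW : U ≤ W) (hU : U.map T ≤ U) (hUT : TI B U) :
    ∃ D ≤ W, D.map T ≤ D ∧ NdOn B D ∧ finrank F D = 2 * finrank F U := by
  have hO : (W ⊓ orth B U).map T ≤ W ⊓ orth B U := inv_inf hW (inv_orth hI hinj hU)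
  obtain ⟨C, hCW, hC, hsup, hinf⟩ := exists_inv_compl hss hO hW inf_le_left
  have hd := Submodule.finrank_sup_add_finrank_inf_eq (W ⊓ orth B U) C
  rw [hsup, hinf, finrank_bot, add_zero] at hd
  have hd' := finrank_orth_inf hB hWn hUW
  have hUC : U ⊓ C = ⊥ := le_bot_iff.1 (le_trans (inf_le_inf_right C
    (le_inf hUW (show U ≤ orth B U from fun u hu v hv => hUT u hu v hv))) hinf.le)
  refine ⟨U ⊔ C, sup_le hUW hCW, inv_sup hU hC, ?_, ?_⟩
  · intro a ha h
    obtain ⟨u, hu, c, hc, rfl⟩ := Submodule.mem_sup.1 ha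
    have hc0 : c = 0 := (Submodule.eq_bot_iff _).1 hinf c ⟨⟨hCW hc, fun v hv => by
      have := h v (Submodule.mem_sup_left hv)
      rwa [map_add, LinearMap.add_apply, hUT u hu v hv, zero_add] at this⟩, hc⟩
    rw [hc0, add_zero] at h ⊢
    refine hWn u (hUW hu) fun v hv => ?_
    rw [← hsup] at hv
    obtain ⟨x, hx, y, hy, rfl⟩ := Submodule.mem_sup.1 hv
    rw [map_add, hB.refl (hx.2 u hu), h y (Submodule.mem_sup_right hy), add_zero]
  · have h := Submodule.finrank_sup_add_finrank_inf_eq U C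
    rw [hUC, finrank_bot] at h
    omega

/-- An invariant subspace is its part in the kernel of `P` plus a part orthogonal to the kernel. -/
theorem exists_ker_split (hB : Herm B ε) (hI : Iso B T) (hss : T.IsSemisimple) (hW : W.map T ≤ W) {p Q1 : ℕ}
    (hS : SelfPOn σ T p Q1 W) (P : F[X]) {U : Submodule F V} (hUW : U ≤ W) (hU : U.map T ≤ U) :
    ∃ C ≤ U ⊓ orth B (W ⊓ LinearMap.ker (aeval T P)), C.map T ≤ C ∧
      U ⊓ LinearMap.ker (aeval T P) ⊔ C = U ∧ U ⊓ LinearMap.ker (aeval T P) ⊓ C = ⊥ := by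
  obtain ⟨C, hCU, hC, hsup, hinf⟩ := exists_inv_compl hss (inv_inf hU (inv_ker_aeval P)) hU inf_le_left
  refine ⟨C, le_inf hCU fun y hy u hu => ?_, hC, hsup, hinf⟩
  -- the complement is the image of `P`
  obtain ⟨z, hz⟩ : ∃ z : C, aeval (resT T hC) P z = ⟨y, hy⟩ := by
    refine (LinearMap.injective_iff_surjective.1 ?_) _
    rw [injective_iff_map_eq_zero]
    intro z hz
    refine Subtype.ext ((Submodule.eq_bot_iff _).1 hinf (z : V) ⟨⟨hCU z.2, ?_⟩, z.2⟩)
    rw [SetLike.mem_coe, LinearMap.mem_ker, ← aeval_resT hC, hz]; rfl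
  have hz' : aeval T P (z : V) = y := by rw [← aeval_resT hC, hz]
  rw [← hz', hS.adjoint hB hI hW P (hUW (hCU z.2)) hu.1]
  have hQ1 : Q1 ≠ 0 := by
    obtain ⟨e, he⟩ := hS.pow
    rw [he]; exact pow_ne_zero _ hS.prime.ne_zero
  obtain ⟨k, hk⟩ := Nat.exists_eq_succ_of_ne_zero hQ1
  rw [hk, pow_succ, Module.End.mul_apply, LinearMap.mem_ker.1 hu.2, map_zero, map_zero]

theorem ndOn_ker (hB : Herm B ε) (hI : Iso B T) (hss : T.IsSemisimple) (hW : W.map T ≤ W) (hWn : NdOn B W)
    {p Q1 : ℕ} (hS : SelfPOn σ T p Q1 W) (P : F[X]) : NdOn B (W ⊓ LinearMap.ker (aeval T P)) := by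
  obtain ⟨C, hC, -, hsup, -⟩ := exists_ker_split hB hI hss hW hS P le_rfl hW
  intro u hu h
  refine hWn u hu.1 fun w hw => ?_
  rw [← hsup] at hw
  obtain ⟨x, hx, y, hy, rfl⟩ := Submodule.mem_sup.1 hw
  rw [map_add, h x hx, hB.refl ((hC hy).2 u hu), add_zero]

/-- Self-paired case: a nondegenerate invariant subspace of dimension `b`. -/
theorem Part.exists_block (hp : Part B T W b g) (hB : Herm B ε) (hI : Iso B T) (hinj : Function.Injective T)
    (hss : T.IsSemisimple) {p Q1 : ℕ} (hS : SelfPOn σ T p Q1 W)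
    (halt : σ ≠ RingHom.id F ∨ (ε = -1 ∧ ∀ v ∈ W, T (T v) = v → v = 0)) (hW0 : W ≠ ⊥) :
    ∃ D ≤ W, D.map T ≤ D ∧ NdOn B D ∧ finrank F D = b := by
  obtain ⟨v₀, hv₀, hv₀0, -, -, P, hP, hPg, hPv, hPd⟩ := hp.exists_min le_rfl hp.inv hW0
  let R := W ⊓ LinearMap.ker (aeval T P)
  have hR : R.map T ≤ R := inv_inf hp.inv (inv_ker_aeval P)
  have hRn : NdOn B R := ndOn_ker hB hI hss hp.inv hp.nd hS P
  -- some vector is not killed by all the forms `B (A(T) v) v`
  obtain ⟨v, hv, A, hA⟩ : ∃ v ∈ R, ∃ A : F[X], B (aeval T A v) v ≠ 0 := by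
    by_contra hall
    push Not at hall
    have hpol : ∀ (A : F[X]) (u w : V), u ∈ R → w ∈ R → B (aeval T A u) w + B (aeval T A w) u = 0 := by
      intro A u w hu hw
      have h1 := hall _ (R.add_mem hu hw) A
      simp only [map_add, LinearMap.add_apply, hall u hu A, hall w hw A, zero_add, add_zero] at h1
      rw [← h1]; ring
    refine hv₀0 (hRn v₀ ⟨hv₀, hPv⟩ fun w hw => ?_)
    have halt' : σ ≠ RingHom.id F ∨ ((∀ a, σ a = a) ∧ ε = -1 ∧ ∀ v ∈ W, T (T v) = v → v = 0) := by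
      by_cases hid : σ = RingHom.id F
      · exact Or.inr ⟨fun a => DFunLike.congr_fun hid a, halt.resolve_left fun h => h hid⟩
      · exact Or.inl hid
    rcases halt' with hσ | ⟨hid, hε, hT2⟩
    · obtain ⟨a, ha⟩ : ∃ a, σ a ≠ a := by
        by_contra hh
        push Not at hh
        exact hσ (RingHom.ext hh)
      have h1 := hpol 1 v₀ w ⟨hv₀, hPv⟩ hw
      have h2 := hpol 1 (a • v₀) w (R.smul_mem a ⟨hv₀, hPv⟩) hw
      simp only [map_one, Module.End.one_apply, map_smul, LinearMap.smul_apply, LinearMap.map_smulₛₗ,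
        smul_eq_mul] at h1 h2
      have h3 : (a - σ a) * B v₀ w = 0 := by linear_combination h2 - σ a * h1
      exact (mul_eq_zero.1 h3).resolve_left (sub_ne_zero.2 (Ne.symm ha))
    · -- alternating: the form `B (T u) w` is alternating, so `T ^ 2 = 1`
      exfalso
      refine hv₀0 (hT2 v₀ hv₀ (sub_eq_zero.1 (hRn _ (R.sub_mem (hR ⟨_, hR ⟨_, ⟨hv₀, hPv⟩, rfl⟩, rfl⟩) ⟨hv₀, hPv⟩) fun w hw => ?_)))
      have hw' : T w ∈ R := hR ⟨_, hw, rfl⟩
      -- it suffices to pair with the image of `T`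
      obtain ⟨w', hw'', rfl⟩ : ∃ w' ∈ R, T w' = w := by
        have he : R.map T = R := Submodule.eq_of_le_of_finrank_eq hR
          (Submodule.equivMapOfInjective T hinj R).finrank_eq.symm
        rw [← he] at hw; exact hw
      have h1 := hpol X v₀ w' ⟨hv₀, hPv⟩ hw''
      simp only [aeval_X] at h1
      rw [map_sub, LinearMap.sub_apply, hI, hB.swap (T w') v₀, hid, hε]
      linear_combination h1
  have hcyc : cyc T v ≤ W := cyc_le hp.inv hv.1
  have hne : v ≠ 0 := fun h => hA (by rw [h]; simp)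
  have hle := finrank_cyc_le hP.ne_zero (LinearMap.mem_ker.1 hv.2)
  have hpos : 0 < finrank F (cyc T v) := Nat.pos_of_ne_zero fun h => hne <| by
    have := self_mem_cyc (T := T) v
    rwa [Submodule.finrank_eq_zero.1 h, Submodule.mem_bot] at this
  have hd : finrank F (cyc T v) = b := by
    have := Nat.le_of_dvd hpos (hp.dvd _ hcyc (inv_cyc v)); omega
  refine ⟨cyc T v, hcyc, inv_cyc v, ndOn_iff.2 ?_, hd⟩
  have hN : (cyc T v ⊓ orth B (cyc T v)).map T ≤ cyc T v ⊓ orth B (cyc T v) :=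
    inv_inf (inv_cyc v) (inv_orth hI hinj (inv_cyc v))
  by_contra h0
  have heq := Submodule.eq_of_le_of_finrank_le (inf_le_left : cyc T v ⊓ orth B (cyc T v) ≤ cyc T v) (by
    rw [hd]
    exact Nat.le_of_dvd (Nat.pos_of_ne_zero fun h => h0 (Submodule.finrank_eq_zero.1 h))
      (hp.dvd _ (inf_le_left.trans hcyc) hN))
  exact hA ((inf_eq_left.1 heq) (show aeval T A v ∈ cyc T v from ⟨A, rfl⟩) v (self_mem_cyc v))

/-- The invariant subspaces of a nondegenerate invariant subspace. -/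
structure Shape (B : V →ₗ[F] V →ₛₗ[σ] F) (T : Module.End F V) (W : Submodule F V) (b c S : ℕ) : Prop where
  dvd : ∀ N ≤ W, N.map T ≤ N → b ∣ finrank F N
  nd_dvd : ∀ N ≤ W, N.map T ≤ N → NdOn B N → c ∣ finrank F N
  ti : ∃ K, finrank F W ≤ 2 * (K * b) + S ∧
    ∀ k ≤ K, ∃ U ≤ W, U.map T ≤ U ∧ TI B U ∧ finrank F U = k * b
  ndsub : ∀ k, k * c ≤ finrank F W → ∃ D ≤ W, D.map T ≤ D ∧ NdOn B D ∧ finrank F D = k * c

theorem Part.ti_of (hp : Part B T W b g) (hss : T.IsSemisimple) {U : Submodule F V} (hUW : U ≤ W)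
    (hU : U.map T ≤ U) (hUT : TI B U) {S : ℕ} (h : finrank F W ≤ 2 * finrank F U + S) :
    ∃ K, finrank F W ≤ 2 * (K * b) + S ∧ ∀ k ≤ K, ∃ U ≤ W, U.map T ≤ U ∧ TI B U ∧ finrank F U = k * b := by
  obtain ⟨K, hK⟩ := hp.dvd U hUW hU
  refine ⟨K, by rw [mul_comm K b, ← hK]; exact h, fun k hk => ?_⟩
  obtain ⟨N, hNU, hN, hNd⟩ := hp.exists_sub hss hUW hU k (by rw [hK, mul_comm b]; exact Nat.mul_le_mul_right b hk)
  exact ⟨N, hNU.trans hUW, hN, hUT.mono hNU, hNd⟩

/-- The self-paired case. -/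
theorem Part.shape_self [Finite F] (hp : Part B T W b g) (hB : Herm B ε) (hI : Iso B T) (hinj : Function.Injective T)
    (hss : T.IsSemisimple) {p Q1 : ℕ} (hS : SelfPOn σ T p Q1 W)
    (halt : σ ≠ RingHom.id F ∨ (ε = -1 ∧ ∀ v ∈ W, T (T v) = v → v = 0)) (hb : 0 < b) :
    Shape B T W b b g.natDegree := by
  refine ⟨hp.dvd, fun N hN hNi _ => hp.dvd N hN hNi, ?_, fun k => ?_⟩
  · obtain ⟨U, C, hUW, hU, hUT, hCW, hC, hd, hC0⟩ := exists_residual hB hI hinj hss hp.inv hp.nd
    refine hp.ti_of hss hUW hU hUT ?_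
    rw [hd]
    exact Nat.add_le_add_left (finrank_le_of_no_TI hB hI g hp.g0 C hC (hCW.trans hp.kill) (hS.mono hCW)
      (halt.imp_right fun h v hv => h.2 v (hCW hv)) hC0) _
  induction k with
  | zero => exact fun _ => ⟨⊥, bot_le, by simp, ndOn_bot, by simp⟩
  | succ k ih =>
    intro hk
    rw [Nat.succ_mul] at hk
    obtain ⟨D, hDW, hD, hDn, hDd⟩ := ih (by omega)
    have hRn := ndOn_orth_inf hB hp.nd hDn hDW
    have hRi := inv_inf hp.inv (inv_orth hI hinj hD)
    have hRd := finrank_orth_inf hB hp.nd hDW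
    obtain ⟨E, hER, hE, hEn, hEd⟩ := (hp.mono inf_le_left hRi hRn).exists_block hB hI hinj hss
      (hS.mono inf_le_left) (halt.imp_right fun h => ⟨h.1, fun v hv => h.2 v hv.1⟩) fun h => by
        rw [h, finrank_bot] at hRd; omega
    have hEO : E ≤ orth B D := hER.trans inf_le_right
    exact ⟨D ⊔ E, sup_le hDW (hER.trans inf_le_left), inv_sup hD hE, hDn.sup hB hEn hEO,
      by rw [finrank_sup_orth hDn hEO, hDd, hEd, Nat.succ_mul]⟩

/-- The case without nondegenerate invariant subspaces of dimension `b`. -/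
theorem Part.shape_pair (hp : Part B T W b g) (hB : Herm B ε) (hI : Iso B T) (hinj : Function.Injective T)
    (hss : T.IsSemisimple) (hno : NoNd B T W b) : Shape B T W b (2 * b) 0 := by
  obtain ⟨U, hUW, hU, hUT, hd⟩ := hp.exists_half hB hI hinj hss hno
  refine ⟨hp.dvd, fun N hN hNi hNn => ?_, hp.ti_of hss hUW hU hUT (by omega), fun k hk => ?_⟩
  · obtain ⟨U', hU'N, hU', -, hd'⟩ := (hp.mono hN hNi hNn).exists_half hB hI hinj hss
      fun M hM => hno M (hM.trans hN)
    rw [hd']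
    exact mul_dvd_mul_left 2 (hp.dvd _ (hU'N.trans hN) hU')
  · obtain ⟨U', hU'U, hU', hU'd⟩ := hp.exists_sub hss hUW hU k (by rw [mul_left_comm] at hk; omega)
    obtain ⟨D, hDW, hD, hDn, hDd⟩ :=
      exists_double hB hI hinj hss hp.inv hp.nd (hU'U.trans hUW) hU' (hUT.mono hU'U)
    exact ⟨D, hDW, hD, hDn, by rw [hDd, hU'd, mul_left_comm]⟩

end H44.Elu
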