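import Mathlib
import Cfsg.Agent.H44.Elu.Blocks

/-!
Kernels of odd multiplicity bound the totally isotropic invariant subspaces.
-/

set_option autoImplicit false

open Polynomial Module

namespace H44.Elu

variable {F : Type*} [Field F] {V : Type*} [AddCommGroup V] [Module F V] {σ : F →+* F}
  {B : V →ₗ[F] V →ₛₗ[σ] F} {ε : F} {T : Module.End F V}

/-- Each irreducible polynomial of odd multiplicity costs `b` dimensions. -/
theorem two_mul_add_le [FiniteDimensional F V] (hB : Herm B ε) (hI : Iso B T) (hinj : Function.Injective T)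
    (hss : T.IsSemisimple) {p Q1 b : ℕ} {g : F[X]} (S : Finset F[X]) :
    ∀ W : Submodule F V, Part B T W b g → SelfPOn σ T p Q1 W →
      (∀ P ∈ S, Irreducible P ∧ P.Monic ∧ ∃ μ, Odd μ ∧ finrank F ↥(W ⊓ LinearMap.ker (aeval T P)) = μ * b) →
      ∀ U ≤ W, U.map T ≤ U → TI B U → 2 * finrank F U + S.card * b ≤ finrank F W := by
  classical
  induction S using Finset.induction_on with
  | empty => intro W hp _ _ U hUW _ hUT; simpa using two_mul_le_of_TI hB hp.nd hUW hUT
  | @insert P S hPS ih =>
    intro W hp hS hmult U hUW hU hUT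
    let R := W ⊓ LinearMap.ker (aeval T P)
    have hR : R.map T ≤ R := inv_inf hp.inv (inv_ker_aeval P)
    have hRn : NdOn B R := ndOn_ker hB hI hss hp.inv hp.nd hS P
    let W' := W ⊓ orth B R
    have hW'i : W'.map T ≤ W' := inv_inf hp.inv (inv_orth hI hinj hR)
    have hWd := finrank_orth_inf hB hp.nd (inf_le_left : R ≤ W)
    obtain ⟨C, hC, hCi, hsup, hinf⟩ := exists_ker_split hB hI hss hp.inv hS P hUW hU
    have hCW' : C ≤ W' := le_inf ((hC.trans inf_le_left).trans hUW) (hC.trans inf_le_right)
    have hmult' : ∀ P' ∈ S, Irreducible P' ∧ P'.Monic ∧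
        ∃ μ, Odd μ ∧ finrank F ↥(W' ⊓ LinearMap.ker (aeval T P')) = μ * b := by
      intro P' hP'
      obtain ⟨hirr, hmon, μ, hμ, hμd⟩ := hmult P' (Finset.mem_insert_of_mem hP')
      obtain ⟨hirrP, hmonP, -⟩ := hmult P (Finset.mem_insert_self _ _)
      refine ⟨hirr, hmon, μ, hμ, ?_⟩
      have hle : W ⊓ LinearMap.ker (aeval T P') ≤ orth B R := by
        obtain ⟨C', hC', -, hsup', -⟩ :=
          exists_ker_split hB hI hss hp.inv hS P (U := W ⊓ LinearMap.ker (aeval T P')) inf_le_left
            (inv_inf hp.inv (inv_ker_aeval P'))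
        rw [← hsup']
        refine sup_le (fun x hx => ?_) (hC'.trans inf_le_right)
        have hne : P ≠ P' := fun h => hPS (h ▸ hP')
        obtain ⟨u, w, huw⟩ := (hirrP.coprime_iff_not_dvd).2 fun h =>
          hne (eq_of_monic_of_associated hmonP hmon (hirrP.associated_of_dvd hirr h))
        have h2 := congrArg (fun A => aeval T A x) huw
        simp only [map_add, map_mul, LinearMap.add_apply, Module.End.mul_apply, LinearMap.mem_ker.1 hx.2,
          LinearMap.mem_ker.1 hx.1.2, map_zero, add_zero, map_one, Module.End.one_apply] at h2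
        rw [← h2]; exact zero_mem _
      rw [show W' ⊓ LinearMap.ker (aeval T P') = W ⊓ LinearMap.ker (aeval T P') from
        le_antisymm (inf_le_inf_right _ inf_le_left) (le_inf (le_inf inf_le_left hle) inf_le_right), hμd]
    have h1 := ih W' (hp.mono inf_le_left hW'i (ndOn_orth_inf hB hp.nd hRn inf_le_left)) (hS.mono inf_le_left)
      hmult' C hCW' hCi (hUT.mono (hC.trans inf_le_left))
    obtain ⟨-, -, μ, hμ, hμd⟩ := hmult P (Finset.mem_insert_self _ _)
    let U1 := U ⊓ LinearMap.ker (aeval T P)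
    have hU1R : U1 ≤ R := inf_le_inf_right _ hUW
    obtain ⟨k, hk⟩ := hp.dvd U1 (inf_le_left.trans hUW) (inv_inf hU (inv_ker_aeval P))
    have h2 := two_mul_le_of_TI hB hRn hU1R (hUT.mono inf_le_left)
    have h3 := Submodule.finrank_sup_add_finrank_inf_eq U1 C
    rw [hsup, hinf, finrank_bot, add_zero, hk] at h3
    rw [hk, show finrank F R = μ * b from hμd] at h2
    rw [Finset.card_insert_of_notMem hPS, add_one_mul]
    have h4 : 2 * (b * k) + b ≤ μ * b := by
      rcases Nat.eq_zero_or_pos b with rfl | hb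
      · simp
      have h5 : 2 * k ≤ μ := Nat.le_of_mul_le_mul_left (by linarith : b * (2 * k) ≤ b * μ) hb
      have h6 : 2 * k + 1 ≤ μ := by obtain ⟨l, rfl⟩ := hμ; omega
      have := Nat.mul_le_mul_left b h6
      linarith
    rw [show finrank F R = μ * b from hμd] at hWd
    simp only [W', R] at h1 hWd h2
    omega

end H44.Elu
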