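import Mathlib
import Cfsg.Agent.H48.Split
import Cfsg.Agent.H48.Count
import Cfsg.Agent.H50.Decomp
import Cfsg.Agent.H50.Count

/-!
Divisors of the number of nondegenerate subspaces.
-/

set_option autoImplicit false

open Matrix Module

namespace H44.Elu

/-- Orbit and stabilizer. -/
theorem card_fibres {G : Type*} [Group G] [Finite G] {Ω : Type*} (f : G → Ω) (hs : Function.Surjective f)
    (S : Subgroup G) (hf : ∀ g h, f g = f h ↔ g⁻¹ * h ∈ S) : Nat.card G = Nat.card Ω * Nat.card S := by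
  rw [Subgroup.card_eq_card_quotient_mul_card_subgroup S]
  congr 1
  refine Nat.card_congr (Equiv.ofBijective (Quotient.lift f fun a b h => (hf a b).2 (QuotientGroup.leftRel_apply.1 h))
    ⟨?_, fun ω => ?_⟩)
  · rintro ⟨a⟩ ⟨b⟩ h
    exact Quotient.sound (QuotientGroup.leftRel_apply.2 ((hf a b).1 h))
  · obtain ⟨g, hg⟩ := hs ω
    exact ⟨Quotient.mk'' g, hg⟩

/-- A prime dividing a count bounded by a product of powers and differences. -/
theorem exists_factor {r q E X Y : ℕ} (hr : r.Prime) (hrq : ¬ r ∣ q) {s : Finset ℕ} {f : ℕ → ℕ}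
    (h : X * Y = q ^ E * ∏ i ∈ s, f i) (hX : r ∣ X) : ∃ i ∈ s, r ∣ f i := by
  have h1 : r ∣ q ^ E * ∏ i ∈ s, f i := h ▸ dvd_mul_of_dvd_left hX Y
  rcases hr.dvd_mul.1 h1 with h2 | h2
  · exact absurd (hr.dvd_of_dvd_pow h2) hrq
  · exact (Prime.dvd_finsetProd_iff hr.prime _).1 h2

section sp

open H48

variable {F : Type*} [Field F] [Fintype F]

theorem count_nd_sp {d k : ℕ} (hk : k ≤ d) :
    ∃ Y, Nat.card {W : Submodule F (Fin d ⊕ Fin d → F) // finrank F W = 2 * k ∧
        ∀ u ∈ W, u ≠ 0 → ∃ v ∈ W, Cfsg.sympForm d F u v ≠ 0} * Y =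
      Fintype.card F ^ (d ^ 2) * ∏ i ∈ Finset.Ico (d - k) d, (Fintype.card F ^ (2 * (i + 1)) - 1) := by
  classical
  have hnd : ∀ W : Submodule F (Fin d ⊕ Fin d → F),
      (∀ u ∈ W, (∀ v ∈ W, sf u v = 0) → u = 0) ↔ ∀ u ∈ W, u ≠ 0 → ∃ v ∈ W, Cfsg.sympForm d F u v ≠ 0 :=
    fun W => forall₂_congr fun u _ => by
      constructor
      · intro h hu
        by_contra hh
        push Not at hh
        exact hu (h hh)
      · intro h hv
        by_contra hu
        obtain ⟨v, hv', hne⟩ := h hu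
        exact hne (hv v hv')
  let p₀ : Fin k ⊕ Fin k → (Fin d ⊕ Fin d → F) := fun a => Pi.single (Sum.map (Fin.castLE hk) (Fin.castLE hk) a) 1
  have hp₀ : IsHyp sf p₀ := fun a b => by
    show sf (Pi.single _ 1) (Pi.single _ 1) = _
    rw [sf_def, mulVec_single_one, single_dotProduct, one_mul]
    rcases a with a | a <;> rcases b with b | b <;>
      simp [Matrix.J, Matrix.one_apply, (Fin.castLE_injective hk).eq_iff]
  let W₀ := Submodule.span F (Set.range p₀)
  have hW₀d : finrank F W₀ = 2 * k := by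
    rw [finrank_span_eq_card hp₀.linearIndependent, Fintype.card_sum, Fintype.card_fin, two_mul]
  have hW₀n : ∀ u ∈ W₀, (∀ v ∈ W₀, sf u v = 0) → u = 0 := by
    intro u hu h
    obtain ⟨c, rfl⟩ := (Submodule.mem_span_range_iff_exists_fun F).1 hu
    have h1 : projMat p₀ *ᵥ (colMat p₀ *ᵥ c) = 0 := projMat_mulVec_eq_zero.2 fun a => sf_eq_zero_comm (by
      rw [colMat_mulVec]
      exact h _ (Submodule.subset_span ⟨a, rfl⟩))
    rw [mulVec_mulVec, projMat_mul_colMat hp₀, one_mulVec] at h1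
    rw [h1]
    simp
  set S := Cfsg.stabilizing (Cfsg.spToMat d F) (W₀ : Set (Fin d ⊕ Fin d → F))
  let img : Matrix.symplecticGroup (Fin d) F → Submodule F (Fin d ⊕ Fin d → F) := fun g => W₀.map (g.1).mulVecLin
  have himg : ∀ g v, v ∈ img g ↔ g⁻¹ • v ∈ W₀ := fun g v => by
    refine ⟨?_, fun h => ⟨_, h, smul_inv_smul g v⟩⟩
    rintro ⟨x, hx, rfl⟩
    show g⁻¹ • (g • x) ∈ W₀
    rwa [inv_smul_smul]
  have hinj : ∀ g : Matrix.symplecticGroup (Fin d) F, Function.Injective (g.1).mulVecLin := fun g =>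
    MulAction.injective g
  let f : Matrix.symplecticGroup (Fin d) F → {W : Submodule F (Fin d ⊕ Fin d → F) // finrank F W = 2 * k ∧
      ∀ u ∈ W, u ≠ 0 → ∃ v ∈ W, Cfsg.sympForm d F u v ≠ 0} := fun g => ⟨img g,
    (Submodule.equivMapOfInjective _ (hinj g) W₀).finrank_eq.symm.trans hW₀d, (hnd _).1 (by
      rintro _ ⟨x, hx, rfl⟩ h
      rw [hW₀n x hx fun y hy => by
        rw [← sf_smul_smul g x y]
        exact h _ ⟨y, hy, rfl⟩, map_zero])⟩
  have hs : Function.Surjective f := by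
    rintro ⟨W, hWd, hWn⟩
    obtain ⟨r, p, hp, hspan, hr⟩ := exists_hyp_basis W ((hnd W).2 hWn)
    obtain rfl : r = k := by omega
    obtain ⟨g, -, hg⟩ := witt p₀ p hp₀.linearIndependent hp.linearIndependent
      (fun i j => (hp₀ i j).trans (hp i j).symm)
    refine ⟨g, Subtype.ext ?_⟩
    show W₀.map (g.1).mulVecLin = W
    rw [Submodule.map_span, ← Set.range_comp, ← hspan]
    congr 1
    exact congrArg Set.range (funext hg)
  have hcard := card_fibres f hs S fun g h => by
    rw [Subtype.ext_iff]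
    show img g = img h ↔ _
    rw [SetLike.ext_iff]
    refine ⟨fun e => mem_stabilizing.2 fun v => ?_, fun e v => ?_⟩
    · have := e (h • v)
      rw [himg, himg, inv_smul_smul, ← mul_smul] at this
      exact this.symm
    · rw [himg, himg]
      have := (mem_stabilizing.1 e (h⁻¹ • v)).symm
      have h' : (g⁻¹ * h) • h⁻¹ • v = g⁻¹ • v := by rw [mul_smul, smul_inv_smul]
      exact (iff_of_eq (congrArg (fun x => x ∈ W₀) h'.symm)).trans this
  obtain ⟨e⟩ := stabilizer_split k W₀ hW₀d hW₀n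
  rw [Nat.card_congr e.toEquiv, Nat.card_prod, card_sp, card_sp, card_sp, Fintype.card_fin, Fintype.card_fin,
    Fintype.card_fin] at hcard
  rw [← Finset.prod_range_mul_prod_Ico _ (Nat.sub_le d k), mul_left_comm] at hcard
  refine ⟨Fintype.card F ^ (k ^ 2) * (∏ i ∈ Finset.range k, (Fintype.card F ^ (2 * (i + 1)) - 1)) *
    Fintype.card F ^ ((d - k) ^ 2), Nat.eq_of_mul_eq_mul_left
      (Finset.prod_pos (s := Finset.range (d - k)) (f := fun i => Fintype.card F ^ (2 * (i + 1)) - 1) fun i _ =>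
        Nat.sub_pos_of_lt (Nat.one_lt_pow (by omega) Fintype.one_lt_card)) (Eq.trans ?_ hcard.symm)⟩
  ring

end sp

section su

open H50 Cfsg

variable {F : Type*} [Field F] [Fintype F] {q : ℕ}

theorem count_nd_su (hF : Fintype.card F = q ^ 2) {n k : ℕ} (hk : k ≤ n) :
    ∃ Y, Nat.card {W : Submodule F (Fin n → F) // finrank F W = k ∧
        ∀ u ∈ W, u ≠ 0 → ∃ v ∈ W, Cfsg.hermForm n F q u v ≠ 0} * Y =
      q ^ (n * (n - 1) / 2) * ∏ i ∈ Finset.Ico (n - k) n, (if Even i then q ^ (i + 1) + 1 else q ^ (i + 1) - 1) := by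
  classical
  have hq := H50.two_le hF
  have hnd : ∀ W : Submodule F (Fin n → F),
      IsNondeg q W ↔ ∀ u ∈ W, u ≠ 0 → ∃ v ∈ W, Cfsg.hermForm n F q u v ≠ 0 :=
    fun W => forall₂_congr fun u _ => by
      constructor
      · intro h hu
        by_contra hh
        push Not at hh
        exact hu (h hh)
      · intro h hv
        by_contra hu
        obtain ⟨v, hv', hne⟩ := h hu
        exact hne (hv v hv')
  let b₀ : Fin k → Fin n → F := fun a => Pi.single (Fin.castLE hk a) 1
  have hb₀ : IsON q b₀ := fun a b => by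
    rw [h_single_single hF]
    simp [(Fin.castLE_injective hk).eq_iff]
  let W₀ := Submodule.span F (Set.range b₀)
  have hW₀d : finrank F W₀ = k := by
    rw [finrank_span_eq_card (GramND.linearIndependent hF (IsON.gramND hF hb₀)), Fintype.card_fin]
  have hW₀n : IsNondeg q W₀ := by
    intro u hu h
    obtain ⟨c, rfl⟩ := (Submodule.mem_span_range_iff_exists_fun F).1 hu
    rw [IsON.gramND hF hb₀ c fun j => h (b₀ j) (Submodule.subset_span ⟨j, rfl⟩)]
    simp
  let img : GU n F q → Submodule F (Fin n → F) := fun g => W₀.map (guMat g).mulVecLin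
  have himg : ∀ g v, v ∈ img g ↔ guMat g⁻¹ *ᵥ v ∈ W₀ := fun g v => by
    constructor
    · rintro ⟨x, hx, rfl⟩
      rw [mulVecLin_apply, guMat_inv_mulVec]
      exact hx
    · exact fun h => ⟨_, h, guMat_mulVec_inv g v⟩
  have hinj : ∀ g : GU n F q, Function.Injective (guMat g).mulVecLin := fun g => (GU_isIso g).injective hF
  let f : GU n F q → {W : Submodule F (Fin n → F) // finrank F W = k ∧
      ∀ u ∈ W, u ≠ 0 → ∃ v ∈ W, Cfsg.hermForm n F q u v ≠ 0} := fun g => ⟨img g,
    (Submodule.equivMapOfInjective _ (hinj g) W₀).finrank_eq.symm.trans hW₀d, (hnd _).1 (by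
      rintro _ ⟨x, hx, rfl⟩ h
      rw [hW₀n x hx fun y hy => by
        rw [← GU_isIso g x y]
        exact h _ ⟨y, hy, rfl⟩, map_zero])⟩
  have hs : Function.Surjective f := by
    rintro ⟨W, hWd, hWn⟩
    obtain ⟨b, hb, -, hspan⟩ := exists_ON_basis hF ((hnd W).2 hWn) hWd
    obtain ⟨M, hM, hMb⟩ := exists_iso_of_sameGram hF (IsON.gramND hF hb₀) (b' := b)
      fun i j => (hb₀ i j).trans (hb i j).symm
    refine ⟨mkGU hF M hM, Subtype.ext ?_⟩
    show W₀.map (guMat (mkGU hF M hM)).mulVecLin = W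
    rw [Submodule.map_span, ← Set.range_comp, ← hspan]
    congr 1
    exact congrArg Set.range (funext hMb)
  have hcard := card_fibres f hs (stabGU n q W₀) fun g h => by
    rw [Subtype.ext_iff]
    show img g = img h ↔ _
    rw [SetLike.ext_iff]
    refine ⟨fun e => mem_stabGU.2 fun v => ?_, fun e v => ?_⟩
    · have := e (guMat h *ᵥ v)
      rw [himg, himg, guMat_inv_mulVec, ← guMat_mulVec_mul] at this
      exact this.symm
    · rw [himg, himg]
      have := (mem_stabGU.1 e (guMat h⁻¹ *ᵥ v)).symm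
      rw [← guMat_mulVec_mul, mul_assoc, mul_inv_cancel, mul_one] at this
      exact this
  obtain ⟨e⟩ := stab_nondeg_equiv hF W₀ hW₀d hW₀n
  rw [Nat.card_congr e.toEquiv, Nat.card_prod, card_GU hF, card_GU hF, card_GU hF] at hcard
  rw [← Finset.prod_range_mul_prod_Ico _ (Nat.sub_le n k), mul_left_comm] at hcard
  refine ⟨q ^ (k * (k - 1) / 2) * (∏ i ∈ Finset.range k, (if Even i then q ^ (i + 1) + 1 else q ^ (i + 1) - 1)) *
    q ^ ((n - k) * (n - k - 1) / 2), Nat.eq_of_mul_eq_mul_left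
      (Finset.prod_pos (s := Finset.range (n - k)) (f := fun i => if Even i then q ^ (i + 1) + 1 else q ^ (i + 1) - 1)
        fun i _ => by
        have : 1 < q ^ (i + 1) := Nat.one_lt_pow (by omega) hq
        split_ifs <;> omega) (Eq.trans ?_ hcard.symm)⟩
  ring

end su

end H44.Elu
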