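import Mathlib
import Cfsg.Agent.H50.TotIso

/-!
Divisors of the number of totally isotropic subspaces of the hermitian space.
-/

set_option autoImplicit false

namespace H44.Elu

variable {F : Type*} [Field F] [Fintype F] {q : ℕ}

/-- The factors of the order of the unitary group. -/
def suFac (q i : ℕ) : ℕ := if Even i then q ^ (i + 1) + 1 else q ^ (i + 1) - 1

theorem suFac_pos {i : ℕ} (hq : 2 ≤ q) : 0 < suFac q i := by
  have h : 2 ≤ q ^ (i + 1) := hq.trans (Nat.le_self_pow (by omega) q)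
  rw [suFac]; split_ifs <;> omega

theorem two_mul_choose' (x : ℕ) : 2 * (x * (x - 1) / 2) = x * (x - 1) :=
  Nat.two_mul_div_two_of_even (Nat.even_mul_pred_self x)

theorem count_TI_su (hF : Fintype.card F = q ^ 2) (n k : ℕ) (hk : 2 * k ≤ n) :
    Nat.card {W : Submodule F (Fin n → F) // Module.finrank F ↥W = k ∧
        ∀ u ∈ W, ∀ v ∈ W, Cfsg.hermForm n F q u v = 0} *
      ∏ i ∈ Finset.range k, ((q ^ 2) ^ (k - i) - 1) =
    ∏ i ∈ Finset.Ico (n - 2 * k) n, suFac q i := by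
  have hq := H50.two_le hF
  have h1 := H50.card_TISpace_mul hF n k
  have h2 := H50.card_TIFrame_mul hF n k hk
  rw [← h1, H50.card_GU hF, H50.card_GU hF, Fin.prod_univ_eq_prod_range (fun i => (q ^ 2) ^ k - (q ^ 2) ^ i)] at h2
  simp only [show ∀ i, (if Even i then q ^ (i + 1) + 1 else q ^ (i + 1) - 1) = suFac q i from fun i => rfl] at h2
  rw [← Finset.prod_range_mul_prod_Ico (suFac q) (show n - 2 * k ≤ n by omega)] at h2
  have hX : ∏ i ∈ Finset.range k, ((q ^ 2) ^ k - (q ^ 2) ^ i) =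
      q ^ (k * (k - 1)) * ∏ i ∈ Finset.range k, ((q ^ 2) ^ (k - i) - 1) := by
    have e : ∏ i ∈ Finset.range k, (q ^ 2) ^ i = q ^ (k * (k - 1)) := by
      rw [Finset.prod_pow_eq_pow_sum, ← pow_mul, mul_comm, Finset.sum_range_id_mul_two]
    rw [← e, ← Finset.prod_mul_distrib]
    refine Finset.prod_congr rfl fun i hi => ?_
    rw [Nat.mul_sub, mul_one, ← pow_add, Nat.add_sub_cancel' (Finset.mem_range.1 hi).le]
  rw [hX] at h2
  have hpow : k * (k - 1) + k * (2 * n - 3 * k) + (n - 2 * k) * (n - 2 * k - 1) / 2 = n * (n - 1) / 2 := by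
    obtain ⟨a, rfl⟩ := Nat.exists_eq_add_of_le hk
    rw [Nat.add_sub_cancel_left, show 2 * (2 * k + a) - 3 * k = k + 2 * a by omega]
    refine Nat.eq_of_mul_eq_mul_left two_pos ?_
    rw [mul_add, two_mul_choose', two_mul_choose']
    rcases Nat.eq_zero_or_pos k with rfl | hk0
    · simp
    rcases Nat.eq_zero_or_pos a with rfl | ha0
    · obtain ⟨k', rfl⟩ := Nat.exists_eq_add_of_le hk0
      simp only [Nat.add_sub_cancel_left, add_zero, mul_zero, show 2 * (1 + k') - 1 = 2 * k' + 1 by omega]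
      ring
    obtain ⟨k', rfl⟩ := Nat.exists_eq_add_of_le hk0
    obtain ⟨a', rfl⟩ := Nat.exists_eq_add_of_le ha0
    simp only [Nat.add_sub_cancel_left, show 2 * (1 + k') + (1 + a') - 1 = 2 * k' + a' + 2 by omega,
      show Nat.succ 0 = 1 from rfl]
    ring
  have hpos : 0 < q ^ (n * (n - 1) / 2) * ∏ i ∈ Finset.range (n - 2 * k), suFac q i :=
    Nat.mul_pos (pow_pos (by omega) _) (Finset.prod_pos fun i _ => suFac_pos hq)
  refine Nat.eq_of_mul_eq_mul_left hpos (Eq.trans ?_ (h2.trans (mul_assoc _ _ _).symm))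
  rw [← hpow, pow_add, pow_add]
  ring

theorem exists_of_dvd_TI_su (hF : Fintype.card F = q ^ 2) {n k r : ℕ} (hk : 2 * k ≤ n) (hr : r.Prime)
    (h : r ∣ Nat.card {W : Submodule F (Fin n → F) // Module.finrank F ↥W = k ∧
        ∀ u ∈ W, ∀ v ∈ W, Cfsg.hermForm n F q u v = 0}) :
    ∃ j, n < j + 2 * k ∧ 1 ≤ j ∧ j ≤ n ∧ r ∣ suFac q (j - 1) := by
  obtain ⟨j, hj, hjr⟩ := (Prime.dvd_finsetProd_iff hr.prime _).1
    ((dvd_mul_of_dvd_left h _).trans (count_TI_su (F := F) hF n k hk).dvd)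
  rw [Finset.mem_Ico] at hj
  exact ⟨j + 1, by omega, by omega, by omega, by simpa using hjr⟩

end H44.Elu
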