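import Mathlib
import Cfsg.Agent.H48.Parabolic

/-!
Divisors of the number of totally isotropic subspaces of the alternating space.
-/

set_option autoImplicit false

namespace H44.Elu

variable {F : Type*} [Field F] [Fintype F]

theorem count_TI_sp (d k : ℕ) (hk : k ≤ d) :
    Nat.card {W : Submodule F (Fin d ⊕ Fin d → F) // Module.finrank F ↥W = k ∧
        ∀ u ∈ W, ∀ v ∈ W, Cfsg.sympForm d F u v = 0} *
      ∏ i ∈ Finset.range k, (Fintype.card F ^ (k - i) - 1) =
    ∏ i ∈ Finset.range k, (Fintype.card F ^ (2 * (d - i)) - 1) := by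
  have h := H48.card_isotropic_mul (F := F) (m := d) k
  rw [H48.card_frames, Fin.prod_univ_eq_prod_range (fun i => Fintype.card F ^ k - Fintype.card F ^ i)] at h
  have e : ∀ (f g : ℕ → ℕ), (∀ i, i < k → i ≤ g i) → (∀ i, i < k → f i = g i - i) →
      ∏ i ∈ Finset.range k, (Fintype.card F ^ g i - Fintype.card F ^ i) =
        (∏ i ∈ Finset.range k, Fintype.card F ^ i) * ∏ i ∈ Finset.range k, (Fintype.card F ^ f i - 1) := by
    intro f g hg hf
    rw [← Finset.prod_mul_distrib]
    refine Finset.prod_congr rfl fun i hi => ?_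
    rw [Nat.mul_sub, mul_one, ← pow_add, hf i (Finset.mem_range.1 hi), Nat.add_sub_cancel' (hg i (Finset.mem_range.1 hi))]
  rw [e (fun i => k - i) (fun _ => k) (fun i hi => hi.le) (fun _ _ => rfl),
    e (fun i => 2 * (d - i)) (fun i => 2 * Fintype.card (Fin d) - i) (fun i hi => by simp; omega)
      (fun i hi => by simp; omega), mul_left_comm] at h
  exact Nat.eq_of_mul_eq_mul_left (Finset.prod_pos fun i _ => pow_pos Fintype.card_pos _) h

/-- A prime divisor of the count divides some `q^(2(d-j)) - 1`. -/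
theorem exists_of_dvd_TI_sp {d k r : ℕ} (hk : k ≤ d) (hr : r.Prime)
    (h : r ∣ Nat.card {W : Submodule F (Fin d ⊕ Fin d → F) // Module.finrank F ↥W = k ∧
        ∀ u ∈ W, ∀ v ∈ W, Cfsg.sympForm d F u v = 0}) :
    ∃ j < k, r ∣ Fintype.card F ^ (2 * (d - j)) - 1 := by
  have h1 := (dvd_mul_of_dvd_left h _).trans (count_TI_sp (F := F) d k hk).dvd
  obtain ⟨j, hj, hjr⟩ := (Prime.dvd_finsetProd_iff hr.prime _).1 h1
  exact ⟨j, Finset.mem_range.1 hj, hjr⟩

end H44.Elu
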