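import Mathlib
import Cfsg.Agent.H44.Elu.Space

/-!
Orthogonal decomposition of a unipotent isometry into Jordan blocks.
-/

set_option autoImplicit false

open Module

namespace H44.Elu

variable {F : Type*} [Field F] {V : Type*} [AddCommGroup V] [Module F V] {σ : F →+* F}
  {B : V →ₗ[F] V →ₛₗ[σ] F} {ε : F} {T : Module.End F V}

/-- The nilpotent part of a unipotent map. -/
def nilS (T : Module.End F V) : Module.End F V := T - 1

theorem nilS_pow_succ (k : ℕ) (v : V) : (nilS T ^ (k + 1)) v = T ((nilS T ^ k) v) - (nilS T ^ k) v := by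
  rw [pow_succ', Module.End.mul_apply]; rfl

theorem inv_nilS {W : Submodule F V} (hW : W.map T ≤ W) (k : ℕ) : ∀ v ∈ W, (nilS T ^ k) v ∈ W := by
  induction k with
  | zero => exact fun v hv => hv
  | succ k ih =>
    intro v hv
    rw [nilS_pow_succ]
    exact W.sub_mem (hW ⟨_, ih v hv, rfl⟩) (ih v hv)

theorem nilS_vanish_mono {k l : ℕ} (hkl : k ≤ l) {v : V} (hv : (nilS T ^ k) v = 0) : (nilS T ^ l) v = 0 := by
  obtain ⟨m, rfl⟩ := Nat.exists_eq_add_of_le hkl
  rw [add_comm k m, pow_add, Module.End.mul_apply, hv, map_zero]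

/-- The exchange rule of an isometry. -/
theorem Iso.exchange (hI : Iso B T) (u v : V) (i j : ℕ) :
    B ((nilS T ^ (i + 1)) u) ((nilS T ^ j) v) =
      -B ((nilS T ^ i) u) ((nilS T ^ (j + 1)) v) - B ((nilS T ^ (i + 1)) u) ((nilS T ^ (j + 1)) v) := by
  have h := hI ((nilS T ^ i) u) ((nilS T ^ j) v)
  simp only [nilS_pow_succ, map_sub, LinearMap.sub_apply, h]
  ring

theorem Iso.pair_zero (hI : Iso B T) {k : ℕ} {u v : V} (hu : (nilS T ^ (k + 1)) u = 0) :
    ∀ j i, k + 1 ≤ i + j → B ((nilS T ^ i) u) ((nilS T ^ j) v) = 0 := by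
  intro j
  induction j with
  | zero => intro i hi; rw [nilS_vanish_mono (by omega) hu, map_zero, LinearMap.zero_apply]
  | succ j ih =>
    intro i
    induction hd : k + 1 - i using Nat.strong_induction_on generalizing i with
    | _ e ihe =>
      intro hi
      by_cases hik : k + 1 ≤ i
      · rw [nilS_vanish_mono hik hu, map_zero, LinearMap.zero_apply]
      have h1 := hI.exchange u v i j
      rw [ih (i + 1) (by omega), ihe (k + 1 - (i + 1)) (by omega) (i + 1) rfl (by omega), sub_zero] at h1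
      exact neg_eq_zero.1 h1.symm

theorem Iso.pair_top (hI : Iso B T) {k : ℕ} {u v : V} (hu : (nilS T ^ (k + 1)) u = 0) :
    ∀ i, i ≤ k → B ((nilS T ^ (k - i)) u) ((nilS T ^ i) v) = (-1) ^ i * B ((nilS T ^ k) u) v := by
  intro i
  induction i with
  | zero => intro _; simp
  | succ i ih =>
    intro hi
    have h1 := hI.exchange u v (k - (i + 1)) i
    rw [show k - (i + 1) + 1 = k - i by omega, hI.pair_zero hu (i + 1) (k - i) (by omega), sub_zero, ih (by omega)] at h1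
    rw [pow_succ (-1 : F)]
    linear_combination h1

/-- The symmetry of the top pairing. -/
theorem Iso.pair_swap (hI : Iso B T) (hB : Herm B ε) {k : ℕ} {u v : V} (hu : (nilS T ^ (k + 1)) u = 0) :
    B ((nilS T ^ k) v) u = ε * σ ((-1) ^ k * B ((nilS T ^ k) u) v) := by
  rw [hB.swap, ← hI.pair_top hu k le_rfl, Nat.sub_self]
  rfl

/-- The span of Jordan chains of equal length, paired by the top form. -/
theorem exists_chain [FiniteDimensional F V] (hI : Iso B T) {W : Submodule F V} (hW : W.map T ≤ W) {k s : ℕ}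
    (w : Fin s → V) (hw : ∀ a, w a ∈ W) (hk : ∀ a, (nilS T ^ (k + 1)) (w a) = 0) (dual : Fin s → Fin s)
    (hne : ∀ a, B ((nilS T ^ k) (w a)) (w (dual a)) ≠ 0)
    (hz : ∀ a a', a' ≠ a → B ((nilS T ^ k) (w a')) (w (dual a)) = 0) :
    ∃ C ≤ W, C.map T ≤ C ∧ NdOn B C ∧ finrank F C = s * (k + 1) ∧
      ∀ l, finrank F (C.map (nilS T ^ l)) = s * (k + 1 - l) := by
  classical
  let f : Fin s × Fin (k + 1) → V := fun a => (nilS T ^ (a.2 : ℕ)) (w a.1)
  have key : ∀ c : Fin s × Fin (k + 1) → F, (∀ b, B (∑ a, c a • f a) (f b) = 0) → c = 0 := by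
    intro c hc
    suffices ∀ (i : ℕ) (hi : i < k + 1) (a : Fin s), c (a, ⟨i, hi⟩) = 0 from
      funext fun a => this a.2 a.2.2 a.1
    intro i
    induction i using Nat.strong_induction_on with
    | _ i ih =>
      intro hi a
      have h := hc (dual a, ⟨k - i, by omega⟩)
      rw [map_sum, LinearMap.sum_apply, Finset.sum_eq_single (a, (⟨i, hi⟩ : Fin (k + 1)))] at h
      · simp only [map_smul, LinearMap.smul_apply, smul_eq_mul] at h
        refine (mul_eq_zero.1 h).resolve_right ?_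
        show B ((nilS T ^ i) (w a)) ((nilS T ^ (k - i)) (w (dual a))) ≠ 0
        have h2 := hI.pair_top (v := w (dual a)) (hk a) (k - i) (by omega)
        rw [Nat.sub_sub_self (by omega : i ≤ k)] at h2
        rw [h2]
        exact mul_ne_zero (pow_ne_zero _ (neg_ne_zero.2 one_ne_zero)) (hne a)
      · rintro ⟨a', i'⟩ - hne'
        simp only [map_smul, LinearMap.smul_apply, smul_eq_mul]
        rcases lt_trichotomy (i' : ℕ) i with h1 | h1 | h1
        · rw [ih i' h1 i'.2 a', zero_mul]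
        · have ha : a' ≠ a := fun e => hne' (Prod.ext e (Fin.ext h1))
          refine mul_eq_zero_of_right _ ?_
          show B ((nilS T ^ (i' : ℕ)) (w a')) ((nilS T ^ (k - i)) (w (dual a))) = 0
          have h2 := hI.pair_top (v := w (dual a)) (hk a') (k - i) (by omega)
          rw [Nat.sub_sub_self (by omega : i ≤ k), hz a a' ha, mul_zero] at h2
          rw [h1, h2]
        · refine mul_eq_zero_of_right _ (hI.pair_zero (hk a') _ _ ?_)
          simp only
          omega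
      · simp
  have hli : LinearIndependent F f := Fintype.linearIndependent_iff.2 fun c hc =>
    congrFun (key c fun b => by rw [hc, map_zero, LinearMap.zero_apply])
  refine ⟨Submodule.span F (Set.range f), ?_, ?_, ?_, ?_, fun l => ?_⟩
  · exact Submodule.span_le.2 (Set.range_subset_iff.2 fun a => inv_nilS hW _ _ (hw a.1))
  · rw [Submodule.map_span_le]
    rintro _ ⟨⟨a, i⟩, rfl⟩
    have h1 : T (f (a, i)) = f (a, i) + (nilS T ^ ((i : ℕ) + 1)) (w a) := by
      rw [nilS_pow_succ]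
      show T ((nilS T ^ (i : ℕ)) (w a)) = _
      abel
    rw [h1]
    refine Submodule.add_mem _ (Submodule.subset_span ⟨(a, i), rfl⟩) ?_
    by_cases h : (i : ℕ) + 1 < k + 1
    · exact Submodule.subset_span ⟨(a, ⟨(i : ℕ) + 1, h⟩), rfl⟩
    · rw [nilS_vanish_mono (by omega) (hk a)]
      exact zero_mem _
  · intro u hu h
    obtain ⟨c, rfl⟩ := (Submodule.mem_span_range_iff_exists_fun F).1 hu
    rw [key c fun b => h (f b) (Submodule.subset_span ⟨b, rfl⟩)]
    simp
  · rw [finrank_span_eq_card hli, Fintype.card_prod, Fintype.card_fin, Fintype.card_fin]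
  · let g : Fin s × Fin (k + 1 - l) → V := fun a => (nilS T ^ (l + (a.2 : ℕ))) (w a.1)
    have hg : LinearIndependent F g := by
      refine hli.comp (fun a : Fin s × Fin (k + 1 - l) => (a.1, (⟨l + (a.2 : ℕ), by omega⟩ : Fin (k + 1)))) fun a b e => ?_
      simp only [Prod.mk.injEq, Fin.mk.injEq, add_right_inj] at e
      exact Prod.ext e.1 (Fin.ext e.2)
    have he : (Submodule.span F (Set.range f)).map (nilS T ^ l) = Submodule.span F (Set.range g) := by
      refine le_antisymm ?_ (Submodule.span_le.2 ?_)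
      · rw [Submodule.map_span_le]
        rintro _ ⟨⟨a, i⟩, rfl⟩
        show (nilS T ^ l) ((nilS T ^ (i : ℕ)) (w a)) ∈ _
        rw [← Module.End.mul_apply, ← pow_add]
        by_cases h : (i : ℕ) < k + 1 - l
        · exact Submodule.subset_span ⟨(a, ⟨i, h⟩), rfl⟩
        · rw [nilS_vanish_mono (by omega) (hk a)]
          exact zero_mem _
      · rintro _ ⟨⟨a, i⟩, rfl⟩
        refine ⟨f (a, ⟨i, by omega⟩), Submodule.subset_span ⟨_, rfl⟩, ?_⟩
        show (nilS T ^ l) ((nilS T ^ (i : ℕ)) (w a)) = _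
        rw [← Module.End.mul_apply, ← pow_add]
    rw [he, finrank_span_eq_card hg, Fintype.card_prod, Fintype.card_fin, Fintype.card_fin]

/-- The ranks of a multiset of blocks. -/
def blockRank (μ : Multiset ℕ) (l : ℕ) : ℕ := (μ.map fun a => a - l).sum

theorem blockRank_add (μ ν : Multiset ℕ) (l : ℕ) : blockRank (μ + ν) l = blockRank μ l + blockRank ν l := by
  simp [blockRank]

/-- The orthogonal Jordan decomposition, with single and paired blocks. -/
theorem exists_decomp [FiniteDimensional F V] (hB : Herm B ε) (hI : Iso B T) (hinj : Function.Injective T)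
    {P1 P2 : ℕ → Prop} {W₀ : Submodule F V}
    (h1 : ∀ k, ∀ v ∈ W₀, (nilS T ^ (k + 1)) v = 0 → B ((nilS T ^ k) v) v ≠ 0 → P1 (k + 1))
    (h2 : ∀ (k : ℕ) (U : Submodule F V), U ≤ W₀ → (∀ v ∈ U, (nilS T ^ (k + 1)) v = 0) →
      (∀ v ∈ U, B ((nilS T ^ k) v) v = 0) → (∃ u ∈ U, ∃ v ∈ U, B ((nilS T ^ k) u) v ≠ 0) → P2 (k + 1))
    (K : ℕ) {W : Submodule F V} (hWW : W ≤ W₀) (hW : W.map T ≤ W) (hn : NdOn B W)
    (hK : ∀ v ∈ W, (nilS T ^ K) v = 0) :
    ∃ μ₁ μ₂ : Multiset ℕ, (∀ a ∈ μ₁, 0 < a ∧ a ≤ K ∧ P1 a) ∧ (∀ a ∈ μ₂, 0 < a ∧ a ≤ K ∧ P2 a) ∧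
      (μ₁ + μ₂ + μ₂).sum = finrank F W ∧
      (∀ l, finrank F (W.map (nilS T ^ l)) = blockRank (μ₁ + μ₂ + μ₂) l) ∧
      ∀ ν₁ ≤ μ₁, ∀ ν₂ ≤ μ₂, ∃ D ≤ W, D.map T ≤ D ∧ NdOn B D ∧ finrank F D = (ν₁ + ν₂ + ν₂).sum := by
  classical
  induction hd : finrank F W using Nat.strong_induction_on generalizing W with
  | _ D ih =>
    subst hd
    by_cases hbot : W = ⊥
    · subst hbot
      refine ⟨0, 0, by simp, by simp, by simp, fun l => by simp [blockRank], fun ν₁ h1' ν₂ h2' => ⟨⊥, le_rfl, by simp, ndOn_bot, ?_⟩⟩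
      rw [Multiset.le_zero.1 h1', Multiset.le_zero.1 h2']
      simp
    have hex : ∃ k, ∀ v ∈ W, (nilS T ^ (k + 1)) v = 0 :=
      ⟨K, fun v hv => nilS_vanish_mono (Nat.le_succ K) (hK v hv)⟩
    obtain ⟨k, hk, hkleast⟩ : ∃ k, (∀ v ∈ W, (nilS T ^ (k + 1)) v = 0) ∧
        ∀ j < k, ¬ ∀ v ∈ W, (nilS T ^ (j + 1)) v = 0 :=
      ⟨_, Nat.find_spec hex, fun j hj => Nat.find_min hex hj⟩
    have hkmin : ∃ u ∈ W, (nilS T ^ k) u ≠ 0 := by
      rcases Nat.eq_zero_or_pos k with h0 | h0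
      · obtain ⟨u, hu, hu0⟩ := Submodule.exists_mem_ne_zero_of_ne_bot hbot
        exact ⟨u, hu, by rw [h0]; exact hu0⟩
      · have := hkleast (k - 1) (by omega)
        rw [Nat.sub_add_cancel h0] at this
        push Not at this
        exact this
    have hkK : k + 1 ≤ K := by
      by_contra hc
      obtain ⟨u, hu, hu0⟩ := hkmin
      exact hu0 (nilS_vanish_mono (by omega) (hK u hu))
    obtain ⟨u₀, hu₀, hu₀0⟩ := hkmin
    obtain ⟨v₀, hv₀, hf⟩ : ∃ v ∈ W, B ((nilS T ^ k) u₀) v ≠ 0 := by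
      by_contra hh
      push Not at hh
      exact hu₀0 (hn _ (inv_nilS hW k u₀ hu₀) hh)
    -- split off a block and recurse
    have step : ∀ (s : ℕ) (C : Submodule F V), 0 < s → C ≤ W → C.map T ≤ C → NdOn B C → finrank F C = s * (k + 1) →
        (∀ l, finrank F (C.map (nilS T ^ l)) = s * (k + 1 - l)) →
        ∃ μ₁ μ₂ : Multiset ℕ, (∀ a ∈ μ₁, 0 < a ∧ a ≤ K ∧ P1 a) ∧ (∀ a ∈ μ₂, 0 < a ∧ a ≤ K ∧ P2 a) ∧
          s * (k + 1) + (μ₁ + μ₂ + μ₂).sum = finrank F W ∧
          (∀ l, finrank F (W.map (nilS T ^ l)) = s * (k + 1 - l) + blockRank (μ₁ + μ₂ + μ₂) l) ∧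
          (∀ ν₁ ≤ μ₁, ∀ ν₂ ≤ μ₂, ∃ D ≤ W, D.map T ≤ D ∧ NdOn B D ∧ finrank F D = (ν₁ + ν₂ + ν₂).sum) ∧
          ∀ ν₁ ≤ μ₁, ∀ ν₂ ≤ μ₂, ∃ D ≤ W, D.map T ≤ D ∧ NdOn B D ∧
            finrank F D = s * (k + 1) + (ν₁ + ν₂ + ν₂).sum := by
      intro s C hs hCW hC hCn hCd hCr
      have hW' : (W ⊓ orth B C).map T ≤ W ⊓ orth B C := inv_inf hW (inv_orth hI hinj hC)
      have hn' := ndOn_orth_inf hB hn hCn hCW
      have hd' := finrank_orth_inf hB hn hCW
      have hsup := sup_orth_inf hB hn hCn hCW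
      have hlt : finrank F ↥(W ⊓ orth B C) < finrank F W := by
        rw [hCd] at hd'
        have : 0 < s * (k + 1) := Nat.mul_pos hs (by omega)
        omega
      obtain ⟨μ₁, μ₂, hμ₁, hμ₂, hsum, hrk, hsub⟩ :=
        ih _ hlt (inf_le_left.trans hWW) hW' hn' (fun v hv => hK v hv.1) rfl
      refine ⟨μ₁, μ₂, hμ₁, hμ₂, by rw [hsum, ← hCd]; exact hd', fun l => ?_, fun ν₁ h₁ ν₂ h₂ => ?_,
        fun ν₁ h₁ ν₂ h₂ => ?_⟩
      · conv_lhs => rw [← hsup, Submodule.map_sup]
        have hCl : C.map (nilS T ^ l) ≤ C := by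
          rintro _ ⟨x, hx, rfl⟩; exact inv_nilS hC l x hx
        have hWl : (W ⊓ orth B C).map (nilS T ^ l) ≤ W ⊓ orth B C := by
          rintro _ ⟨x, hx, rfl⟩; exact inv_nilS hW' l x hx
        have h := Submodule.finrank_sup_add_finrank_inf_eq (C.map (nilS T ^ l)) ((W ⊓ orth B C).map (nilS T ^ l))
        rw [le_bot_iff.1 ((inf_le_inf hCl hWl).trans (disjoint_of_orth hCn inf_le_right).le), finrank_bot, add_zero,
          hCr, hrk] at h
        exact h
      · obtain ⟨D, hD, hDT, hDn, hDd⟩ := hsub ν₁ h₁ ν₂ h₂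
        exact ⟨D, hD.trans inf_le_left, hDT, hDn, hDd⟩
      · obtain ⟨D, hD, hDT, hDn, hDd⟩ := hsub ν₁ h₁ ν₂ h₂
        have hDC : D ≤ orth B C := hD.trans inf_le_right
        exact ⟨C ⊔ D, sup_le hCW (hD.trans inf_le_left), inv_sup hC hDT, hCn.sup hB hDn hDC,
          by rw [finrank_sup_orth hCn hDC, hCd, hDd]⟩
    by_cases hdiag : ∃ v ∈ W, B ((nilS T ^ k) v) v ≠ 0
    · obtain ⟨v, hv, hvv⟩ := hdiag
      obtain ⟨C, hCW, hC, hCn, hCd, hCr⟩ := exists_chain hI hW (s := 1) (fun _ => v) (fun _ => hv)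
        (fun _ => hk v hv) id (fun _ => hvv) fun a a' h => absurd (Subsingleton.elim a' a) h
      obtain ⟨μ₁, μ₂, hμ₁, hμ₂, hsum, hrk, hsub₀, hsub₁⟩ := step 1 C one_pos hCW hC hCn hCd hCr
      rw [one_mul] at hsum hsub₁
      refine ⟨(k + 1) ::ₘ μ₁, μ₂, ?_, hμ₂, by simp only [Multiset.cons_add, Multiset.sum_cons]; exact hsum,
        fun l => by rw [hrk l]; simp [blockRank], fun ν₁ h₁ ν₂ h₂ => ?_⟩
      · intro a ha
        rcases Multiset.mem_cons.1 ha with rfl | ha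
        · exact ⟨by omega, hkK, h1 k v (hWW hv) (hk v hv) hvv⟩
        · exact hμ₁ a ha
      · by_cases hm : k + 1 ∈ ν₁
        · obtain ⟨D, hD, hDT, hDn, hDd⟩ := hsub₁ (ν₁.erase (k + 1))
            (Multiset.erase_le_iff_le_cons.2 h₁) ν₂ h₂
          refine ⟨D, hD, hDT, hDn, ?_⟩
          rw [hDd]
          conv_rhs => rw [← Multiset.cons_erase hm]
          simp only [Multiset.cons_add, Multiset.sum_cons]
        · exact hsub₀ ν₁ ((Multiset.le_cons_of_notMem hm).1 h₁) ν₂ h₂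
    · push Not at hdiag
      have hswap : B ((nilS T ^ k) v₀) u₀ ≠ 0 := by
        rw [hI.pair_swap hB (hk u₀ hu₀)]
        intro h0
        rcases mul_eq_zero.1 h0 with h0 | h0
        · refine hf ?_
          rw [hB.swap v₀, h0, zero_mul]
        · exact hf ((mul_eq_zero.1 ((map_eq_zero σ).1 h0)).resolve_left
            (pow_ne_zero _ (neg_ne_zero.2 one_ne_zero)))
      obtain ⟨C, hCW, hC, hCn, hCd, hCr⟩ := exists_chain hI hW (s := 2) ![u₀, v₀]
        (fun a => by fin_cases a <;> assumption)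
        (fun a => hk _ (by fin_cases a <;> assumption)) ![1, 0]
        (fun a => by fin_cases a <;> simpa) (fun a a' h => by
          fin_cases a <;> fin_cases a' <;> first | exact absurd rfl h | simp [hdiag _ hu₀, hdiag _ hv₀])
      obtain ⟨μ₁, μ₂, hμ₁, hμ₂, hsum, hrk, hsub₀, hsub₁⟩ := step 2 C two_pos hCW hC hCn hCd hCr
      refine ⟨μ₁, (k + 1) ::ₘ μ₂, hμ₁, ?_, ?_, fun l => ?_, fun ν₁ h₁ ν₂ h₂ => ?_⟩
      · intro a ha
        rcases Multiset.mem_cons.1 ha with rfl | ha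
        · exact ⟨by omega, hkK, h2 k W hWW hk hdiag ⟨u₀, hu₀, v₀, hv₀, hf⟩⟩
        · exact hμ₂ a ha
      · rw [← hsum]; simp; ring
      · rw [hrk l]; simp [blockRank]; ring
      · by_cases hm : k + 1 ∈ ν₂
        · obtain ⟨D, hD, hDT, hDn, hDd⟩ := hsub₁ ν₁ h₁ (ν₂.erase (k + 1))
            (Multiset.erase_le_iff_le_cons.2 h₂)
          refine ⟨D, hD, hDT, hDn, ?_⟩
          rw [hDd]
          conv_rhs => rw [← Multiset.cons_erase hm]
          simp; ring
        · exact hsub₀ ν₁ h₁ ν₂ ((Multiset.le_cons_of_notMem hm).1 h₂)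

end H44.Elu
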