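import Mathlib
import Cfsg.Agent.H44.Elu.Blocks
import Cfsg.Agent.H46.ElusiveCases

/-!
The fixed and the moved space of an isometry of prime order `r` prime to the characteristic.
-/

set_option autoImplicit false

open Polynomial Module

namespace H44.Elu

variable {F : Type*} [Field F] {V : Type*} [AddCommGroup V] [Module F V] {σ : F →+* F}

/-- An isometry of order dividing the prime `r` of a nondegenerate form. -/
structure Setting (B : V →ₗ[F] V →ₛₗ[σ] F) (ε : F) (T : Module.End F V) (r : ℕ) : Prop where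
  herm : Herm B ε
  nd : NdOn B (⊤ : Submodule F V)
  iso : Iso B T
  pow : T ^ r = 1
  prime : r.Prime
  cast : (r : F) ≠ 0

/-- The fixed space. -/
def fixS (T : Module.End F V) : Submodule F V := LinearMap.ker (T - 1)

/-- The moved space. -/
def movS (T : Module.End F V) : Submodule F V := LinearMap.range (T - 1)

variable {B : V →ₗ[F] V →ₛₗ[σ] F} {ε : F} {T : Module.End F V} {r : ℕ}

theorem mem_fixS {v : V} : v ∈ fixS T ↔ T v = v := by
  rw [fixS, LinearMap.mem_ker, LinearMap.sub_apply, Module.End.one_apply, sub_eq_zero]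

theorem inv_fixS : (fixS T).map T ≤ fixS T :=
  map_le_iff.2 fun w hw => mem_fixS.2 (by rw [mem_fixS.1 hw, mem_fixS.1 hw])

theorem inv_movS : (movS T).map T ≤ movS T := by
  refine map_le_iff.2 ?_
  rintro _ ⟨v, rfl⟩
  exact ⟨T v, by simp⟩

theorem Setting.inj (hs : Setting B ε T r) : Function.Injective T := hs.iso.injective hs.nd

variable [FiniteDimensional F V]

theorem Setting.ss (hs : Setting B ε T r) : T.IsSemisimple :=
  Module.End.isSemisimple_of_squarefree_aeval_eq_zero (H46.Elusive.squarefree_X_pow_sub hs.cast one_ne_zero)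
    (H46.Elusive.aeval_X_pow_sub (by rw [hs.pow, one_smul]))

theorem Setting.movS_le_orth (hs : Setting B ε T r) : movS T ≤ orth B (fixS T) := by
  rintro _ ⟨u, rfl⟩ v hv
  have h := hs.iso u v
  rw [mem_fixS.1 hv] at h
  simp [h]

/-- The invariant complement of the fixed part of an invariant subspace lies in the moved space. -/
theorem Setting.exists_moved (hs : Setting B ε T r) {W : Submodule F V} (hW : W.map T ≤ W) :
    ∃ C ≤ W ⊓ movS T, C.map T ≤ C ∧ W ⊓ fixS T ⊔ C = W ∧ W ⊓ fixS T ⊓ C = ⊥ := by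
  obtain ⟨C, hCW, hC, hsup, hinf⟩ := exists_inv_compl hs.ss (inv_inf hW inv_fixS) hW inf_le_left
  refine ⟨C, le_inf hCW fun y hy => ?_, hC, hsup, hinf⟩
  have hinjC : Function.Injective ((resT T hC - 1 : Module.End F C) : C → C) := by
    rw [injective_iff_map_eq_zero]
    intro z hz
    rw [LinearMap.sub_apply, Module.End.one_apply, sub_eq_zero] at hz
    exact Subtype.ext ((Submodule.eq_bot_iff _).1 hinf (z : V)
      ⟨⟨hCW z.2, mem_fixS.2 (congrArg Subtype.val hz)⟩, z.2⟩)
  obtain ⟨z, hz⟩ := LinearMap.injective_iff_surjective.1 hinjC ⟨y, hy⟩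
  exact ⟨(z : V), congrArg Subtype.val hz⟩

theorem Setting.fix_inf_mov (hs : Setting B ε T r) : fixS T ⊓ movS T = ⊥ := by
  obtain ⟨C, hC, -, hsup, hinf⟩ := hs.exists_moved (W := ⊤) le_top
  rw [top_inf_eq] at hC hsup hinf
  have h1 := Submodule.finrank_sup_add_finrank_inf_eq (fixS T) C
  rw [hsup, hinf, finrank_top, finrank_bot] at h1
  have h2 := LinearMap.finrank_range_add_finrank_ker (T - 1)
  have h3 : finrank F C ≤ finrank F (movS T) := Submodule.finrank_mono hC
  rw [movS] at h3 ⊢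
  have h4 : C = LinearMap.range (T - 1) := Submodule.eq_of_le_of_finrank_le hC (by rw [fixS] at h1; omega)
  rw [← h4]; exact hinf

theorem Setting.finrank_add (hs : Setting B ε T r) : finrank F (fixS T) + finrank F (movS T) = finrank F V := by
  have h2 := LinearMap.finrank_range_add_finrank_ker (T - 1)
  rw [movS, fixS]; omega

theorem Setting.fix_sup_mov (hs : Setting B ε T r) : fixS T ⊔ movS T = ⊤ := by
  apply Submodule.eq_top_of_finrank_eq
  have h := Submodule.finrank_sup_add_finrank_inf_eq (fixS T) (movS T)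
  rw [hs.fix_inf_mov, finrank_bot, add_zero, hs.finrank_add] at h
  exact h

theorem Setting.split (hs : Setting B ε T r) {W : Submodule F V} (hW : W.map T ≤ W) :
    W ⊓ fixS T ⊔ W ⊓ movS T = W ∧ finrank F ↥(W ⊓ fixS T) + finrank F ↥(W ⊓ movS T) = finrank F W := by
  obtain ⟨C, hC, -, hsup, -⟩ := hs.exists_moved hW
  have h1 : W ⊓ fixS T ⊔ W ⊓ movS T = W :=
    le_antisymm (sup_le inf_le_left inf_le_left) (le_of_eq_of_le hsup.symm (sup_le_sup_left hC _))
  refine ⟨h1, ?_⟩
  have h := Submodule.finrank_sup_add_finrank_inf_eq (W ⊓ fixS T) (W ⊓ movS T)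
  rw [h1, show W ⊓ fixS T ⊓ (W ⊓ movS T) = ⊥ from le_bot_iff.1
    ((inf_le_inf inf_le_right inf_le_right).trans hs.fix_inf_mov.le), finrank_bot, add_zero] at h
  exact h.symm

theorem Setting.split_nd (hs : Setting B ε T r) {W : Submodule F V} (hW : W.map T ≤ W) (hn : NdOn B W) :
    NdOn B (W ⊓ fixS T) ∧ NdOn B (W ⊓ movS T) := by
  refine ⟨fun u hu h => hn u hu.1 fun v hv => ?_, fun u hu h => hn u hu.1 fun v hv => ?_⟩ <;>
  · rw [← (hs.split hW).1] at hv
    obtain ⟨a, ha, b, hb, rfl⟩ := Submodule.mem_sup.1 hv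
    rw [map_add]
    first
    | rw [h a ha, hs.herm.refl (hs.movS_le_orth hb.2 u hu.2), add_zero]
    | rw [h b hb, hs.movS_le_orth hu.2 a ha.2, add_zero]

theorem Setting.nd_fix (hs : Setting B ε T r) : NdOn B (fixS T) := by
  have h := (hs.split_nd (W := ⊤) le_top hs.nd).1
  rwa [top_inf_eq] at h

theorem Setting.nd_mov (hs : Setting B ε T r) : NdOn B (movS T) := by
  have h := (hs.split_nd (W := ⊤) le_top hs.nd).2
  rwa [top_inf_eq] at h

theorem Setting.mov_eq_zero (hs : Setting B ε T r) {v : V} (hv : v ∈ movS T) (h : T v = v) : v = 0 :=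
  (Submodule.eq_bot_iff _).1 hs.fix_inf_mov v ⟨mem_fixS.2 h, hv⟩

theorem part_fix (hs : Setting B ε T r) : Part B T (fixS T) 1 (X - 1 : F[X]) where
  inv := inv_fixS
  nd := hs.nd_fix
  g0 := by simpa using X_sub_C_ne_zero (1 : F)
  kill := fun v hv => by
    rw [LinearMap.mem_ker, map_sub, aeval_X, map_one, LinearMap.sub_apply, Module.End.one_apply,
      mem_fixS.1 hv, sub_self]
  deg := fun P _ hd => (Polynomial.natDegree_le_of_dvd hd (by simpa using X_sub_C_ne_zero (1 : F))).trans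
    (le_of_eq (by simpa using natDegree_X_sub_C (1 : F)))
  dvd := fun _ _ _ => one_dvd _

theorem shape_fix_herm [Finite F] (hs : Setting B ε T r) (hσ : σ ≠ RingHom.id F) {p Q1 : ℕ} [Fact p.Prime]
    [CharP F p] (hQ : ∃ e, Q1 = p ^ e) (hfrob : ∀ a, σ a = a ^ Q1) : Shape B T (fixS T) 1 1 1 := by
  have hS : SelfPOn σ T p Q1 (fixS T) := ⟨inferInstance, Fact.out, hQ, fun v hv => by
    generalize Q1 + 1 = k
    induction k with
    | zero => rfl
    | succ k ih => rw [pow_succ', Module.End.mul_apply, ih, mem_fixS.1 hv], hfrob⟩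
  have h := (part_fix hs).shape_self hs.herm hs.iso hs.inj hs.ss hS (Or.inl hσ) one_pos
  rwa [show (X - 1 : F[X]).natDegree = 1 by simpa using natDegree_X_sub_C (1 : F)] at h

theorem shape_fix_alt (hs : Setting B ε T r) (halt : ∀ v, B v v = 0) : Shape B T (fixS T) 1 2 0 := by
  refine (part_fix hs).shape_pair hs.herm hs.iso hs.inj hs.ss fun N _ _ hN hn => ?_
  obtain ⟨v, hv, hv0⟩ := finrank_eq_one_iff'.1 hN
  refine hv (Subtype.ext (hn v v.2 fun w hw => ?_))
  obtain ⟨a, ha⟩ := hv0 ⟨w, hw⟩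
  rw [show w = a • (v : V) from (congrArg Subtype.val ha).symm, LinearMap.map_smulₛₗ, halt, smul_zero]

variable [Fintype F]

theorem part_mov (hs : Setting B ε T r) [Fact r.Prime] :
    Part B T (movS T) (orderOf ((Fintype.card F : ℕ) : ZMod r)) (cyclotomic r F) where
  inv := inv_movS
  nd := hs.nd_mov
  g0 := cyclotomic_ne_zero r F
  kill := by
    rintro _ ⟨v, rfl⟩
    rw [LinearMap.mem_ker]
    have h := congrArg (fun P => aeval T P v) (cyclotomic_prime_mul_X_sub_one F r)
    simpa [hs.pow] using h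
  deg := fun P hP hd => by
    refine H46.Elusive.natDegree_le_order ?_ P hP (hd.trans ⟨X - 1, by
      rw [cyclotomic_prime_mul_X_sub_one, map_one]⟩)
    rw [Ne, ZMod.natCast_eq_zero_iff]
    intro h
    obtain ⟨n, hp, hn⟩ := FiniteField.card F (ringChar F)
    rw [hn] at h
    refine hs.cast ?_
    rw [(Nat.prime_dvd_prime_iff_eq hs.prime hp).1 (hs.prime.dvd_of_dvd_pow h)]
    exact ringChar.Nat.cast_ringChar
  dvd := fun N hN hNi => by
    have hq : ((Fintype.card F : ℕ) : ZMod r) ≠ 0 := by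
      rw [Ne, ZMod.natCast_eq_zero_iff]
      intro h
      obtain ⟨n, hp, hn⟩ := FiniteField.card F (ringChar F)
      rw [hn] at h
      refine hs.cast ?_
      rw [(Nat.prime_dvd_prime_iff_eq hs.prime hp).1 (hs.prime.dvd_of_dvd_pow h)]
      exact ringChar.Nat.cast_ringChar
    have h := H46.Elusive.dim_modEq_fixed hq T hs.pow N hNi
    rw [← fixS, show N ⊓ fixS T = ⊥ from le_bot_iff.1
      ((inf_le_inf_right _ hN).trans (le_of_eq (by rw [inf_comm, hs.fix_inf_mov]))), finrank_bot] at h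
    exact Nat.modEq_zero_iff_dvd.1 h

/-- The self-paired case on the moved space. -/
theorem shape_mov_self (hs : Setting B ε T r) [Fact r.Prime] (hr2 : r ≠ 2)
    (halt : σ ≠ RingHom.id F ∨ ε = -1) {p Q1 : ℕ} [Fact p.Prime] [CharP F p] (hQ : ∃ e, Q1 = p ^ e)
    (hQr : r ∣ Q1 + 1) (hfrob : ∀ a, σ a = a ^ Q1) (hb : 0 < orderOf ((Fintype.card F : ℕ) : ZMod r)) :
    Shape B T (movS T) (orderOf ((Fintype.card F : ℕ) : ZMod r)) (orderOf ((Fintype.card F : ℕ) : ZMod r))
      (r - 1) := by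
  have hS : SelfPOn σ T p Q1 (movS T) := ⟨inferInstance, Fact.out, hQ, fun v _ => by
    obtain ⟨k, hk⟩ := hQr
    rw [hk, pow_mul, hs.pow, one_pow]; rfl, hfrob⟩
  have h := (part_mov hs).shape_self hs.herm hs.iso hs.inj hs.ss hS (halt.imp_right fun h => ⟨h, fun v hv h2 => ?_⟩) hb
  · rwa [natDegree_cyclotomic, Nat.totient_prime hs.prime] at h
  · refine hs.mov_eq_zero hv ?_
    have h3 : ∀ k, (T ^ (2 * k)) v = v := by
      intro k
      induction k with
      | zero => rfl
      | succ k ih => rw [Nat.mul_succ, pow_add, Module.End.mul_apply, pow_two, Module.End.mul_apply, h2, ih]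
    obtain ⟨k, hk⟩ := hs.prime.odd_of_ne_two hr2
    have := LinearMap.congr_fun hs.pow v
    rw [hk, pow_succ', Module.End.mul_apply, h3] at this
    exact this

/-- An invariant subspace of least dimension in the moved space can only be nondegenerate if `-t` is a power
of the field order modulo `r`, where `σ` is the `t`-th power map. -/
theorem noNd_mov (hs : Setting B ε T r) [Fact r.Prime] {p t : ℕ} [Fact p.Prime] [CharP F p] (ht : ∃ e, t = p ^ e)
    (hfrob : ∀ a, σ a = a ^ t)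
    (hno : ∀ j : ℕ, ((Fintype.card F : ℕ) : ZMod r) ^ j ≠ -(t : ZMod r)) (hb : 0 < orderOf ((Fintype.card F : ℕ) : ZMod r)) :
    NoNd B T (movS T) (orderOf ((Fintype.card F : ℕ) : ZMod r)) := by
  intro N hNm hN hNd hn
  classical
  obtain ⟨v, hv, hv0, hvN, hvd, P, hP, -, hPv, -⟩ := (part_mov hs).exists_min hNm hN fun h => by
    rw [h, finrank_bot] at hNd; omega
  have hNv : cyc T v = N := Submodule.eq_of_le_of_finrank_eq hvN (by rw [hvd, hNd])
  have hPN : ∀ w ∈ N, aeval T P w = 0 := by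
    rw [← hNv]
    rintro _ ⟨A, rfl⟩
    show aeval T P (aeval T A v) = 0
    rw [← Module.End.mul_apply, ← map_mul, mul_comm, map_mul, Module.End.mul_apply, hPv, map_zero]
  haveI : Fact (Irreducible P) := ⟨hP⟩
  let K := AdjoinRoot P
  haveI : Module.Finite F K := (AdjoinRoot.powerBasis hP.ne_zero).finite
  haveI : Finite K := Module.finite_of_finite F
  haveI : Nontrivial N := ⟨⟨⟨v, hv⟩, 0, fun h => hv0 (congrArg Subtype.val h)⟩⟩
  let S := resT T hN
  let φ : K →ₐ[F] Module.End F N := Ideal.Quotient.liftₐ _ (aeval S) (fun a ha => by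
    obtain ⟨b, rfl⟩ := Ideal.mem_span_singleton.1 ha
    refine LinearMap.ext fun w => Subtype.ext ?_
    rw [aeval_resT, mul_comm, map_mul, Module.End.mul_apply, LinearMap.zero_apply]
    rw [hPN _ w.2, map_zero]; rfl)
  have hroot : φ (AdjoinRoot.root P) = S :=
    (Ideal.Quotient.lift_mk _ _ _ : φ (AdjoinRoot.mk P X) = _).trans (aeval_X S)
  have hφinj : Function.Injective φ := φ.toRingHom.injective
  set ξ : K := AdjoinRoot.root P with hξ
  have hξr : ξ ^ r = 1 := hφinj (by
    rw [map_pow, hroot, map_one]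
    exact LinearMap.ext fun w => Subtype.ext ((resT_pow hN r w).trans (by rw [hs.pow]; rfl)))
  have hξ1 : ξ ≠ 1 := fun h => hv0 (hs.mov_eq_zero (hNm hv) (by
    have h2 := congrArg φ h
    rw [hroot, map_one] at h2
    exact congrArg Subtype.val (LinearMap.congr_fun h2 ⟨v, hv⟩)))
  have hrpos := hs.prime.pos
  -- the adjoint polynomial annihilates the inverse
  have h1 : aeval (ξ ^ (r - 1)) (P.map σ) = 0 := by
    refine hφinj ?_
    rw [← Polynomial.aeval_algHom_apply, map_pow, hroot, map_zero]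
    refine LinearMap.ext fun w => Subtype.ext (hn _ (SetLike.coe_mem _) fun u hu => hs.herm.refl ?_)
    have hadj : ∀ a c : N, resB B N (S a) c = resB B N a ((S ^ (r - 1)) c) := by
      intro a c
      have hc : (T ^ 1) ((T ^ (r - 1)) (c : V)) = c := by
        rw [← Module.End.mul_apply, ← pow_add, show 1 + (r - 1) = r by omega, hs.pow]; rfl
      show B (T (a : V)) (c : V) = B (a : V) (((S ^ (r - 1)) c : N) : V)
      rw [resT_pow]
      conv_lhs => rw [← hc, pow_one]
      exact hs.iso _ _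
    have h := aeval_adjoint hadj (hs.herm.res N) P ⟨u, hu⟩ w
    rw [show aeval S P ⟨u, hu⟩ = (0 : N) from Subtype.ext (by rw [aeval_resT, hPN u hu]; rfl), map_zero,
      LinearMap.zero_apply] at h
    exact h.symm
  -- so some conjugate of the root is its `-t`-th power
  have h2 : aeval ((ξ ^ (r - 1)) ^ t) P = 0 := by
    obtain ⟨e, he⟩ := ht
    have h3 := map_expand_pow (Fact.out : p.Prime) (σ := σ) he hfrob (P.map σ)
    rw [Polynomial.map_map, show σ.comp σ = RingHom.id F from RingHom.ext hs.herm.invol, Polynomial.map_id] at h3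
    rw [← Polynomial.expand_aeval, h3, map_pow, h1, zero_pow]
    rw [he]; exact pow_ne_zero _ (Fact.out : p.Prime).ne_zero
  let f : K →ₐ[F] K := AdjoinRoot.liftAlgHom P (Algebra.ofId F K) ((ξ ^ (r - 1)) ^ t) (by
    rw [← h2]; rfl)
  obtain ⟨j, hj⟩ := (FiniteField.bijective_frobeniusAlgHom_pow F K).2 f
  have hfx : ∀ (k : ℕ) (x : K), (FiniteField.frobeniusAlgHom F K ^ k) x = x ^ (Fintype.card F ^ k) := by
    intro k
    induction k with
    | zero => intro x; simp
    | succ k ih =>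
      intro x
      rw [pow_succ', AlgHom.mul_apply, ih, FiniteField.coe_frobeniusAlgHom, pow_succ, pow_mul]
  have h4 : ξ ^ ((r - 1) * t) = ξ ^ (Fintype.card F ^ (j : ℕ)) := by
    rw [← hfx, show FiniteField.frobeniusAlgHom F K ^ (j : ℕ) = f from hj, pow_mul]
    exact (AdjoinRoot.liftAlgHom_root ..).symm
  have hord : orderOf ξ = r := orderOf_eq_prime hξr hξ1
  have hlt : ∀ a, a % orderOf ξ ∈ Set.Iio (orderOf ξ) := fun a => Nat.mod_lt _ (hord.symm ▸ hrpos)
  have h5 := pow_injOn_Iio_orderOf (hlt ((r - 1) * t)) (hlt (Fintype.card F ^ (j : ℕ)))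
    (show ξ ^ _ = ξ ^ _ by rw [pow_mod_orderOf, pow_mod_orderOf, h4])
  rw [hord, ← ZMod.natCast_eq_natCast_iff', Nat.cast_mul, Nat.cast_pow,
    Nat.cast_sub (show 1 ≤ r from hrpos), ZMod.natCast_self, Nat.cast_one, zero_sub, neg_one_mul] at h5
  exact hno j h5.symm

theorem shape_mov_pair (hs : Setting B ε T r) [Fact r.Prime] {p t : ℕ} [Fact p.Prime] [CharP F p]
    (ht : ∃ e, t = p ^ e) (hfrob : ∀ a, σ a = a ^ t)
    (hno : ∀ j : ℕ, ((Fintype.card F : ℕ) : ZMod r) ^ j ≠ -(t : ZMod r)) (hb : 0 < orderOf ((Fintype.card F : ℕ) : ZMod r)) :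
    Shape B T (movS T) (orderOf ((Fintype.card F : ℕ) : ZMod r))
      (2 * orderOf ((Fintype.card F : ℕ) : ZMod r)) 0 :=
  (part_mov hs).shape_pair hs.herm hs.iso hs.inj hs.ss (noNd_mov hs ht hfrob hno hb)

omit [Fintype F]

/-! ### Combining the two parts -/

theorem Setting.exists_TI_sum (hs : Setting B ε T r) {U W : Submodule F V} (hUf : U ≤ fixS T) (hU : U.map T ≤ U)
    (hUT : TI B U) (hWm : W ≤ movS T) (hW : W.map T ≤ W) (hWT : TI B W) :
    TI B (U ⊔ W) ∧ (U ⊔ W).map T ≤ U ⊔ W ∧ finrank F ↥(U ⊔ W) = finrank F U + finrank F W := by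
  refine ⟨hUT.sup hs.herm hWT fun x hx y hy => hs.movS_le_orth (hWm hx) y (hUf hy), inv_sup hU hW, ?_⟩
  have h := Submodule.finrank_sup_add_finrank_inf_eq U W
  rw [show U ⊓ W = ⊥ from le_bot_iff.1 ((inf_le_inf hUf hWm).trans hs.fix_inf_mov.le), finrank_bot, add_zero] at h
  exact h

/-- Existence of an invariant totally isotropic subspace of dimension `u + k * b`. -/
theorem Setting.exists_TI (hs : Setting B ε T r) {c1 S1 b c S : ℕ} (hf : Shape B T (fixS T) 1 c1 S1)
    (hm : Shape B T (movS T) b c S) (m : ℕ)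
    (h : ∀ K1 K : ℕ, finrank F (fixS T) ≤ 2 * K1 + S1 → finrank F (movS T) ≤ 2 * (K * b) + S →
      ∃ u k, u ≤ K1 ∧ k ≤ K ∧ u + k * b = m) :
    ∃ W : Submodule F V, W.map T ≤ W ∧ TI B W ∧ finrank F W = m := by
  obtain ⟨K1, hK1, hU⟩ := hf.ti
  obtain ⟨K, hK, hW⟩ := hm.ti
  obtain ⟨u, k, hu, hk, rfl⟩ := h K1 K (by rwa [mul_one] at hK1) hK
  obtain ⟨U, hUf, hUi, hUT, hUd⟩ := hU u hu
  obtain ⟨W, hWm, hWi, hWT, hWd⟩ := hW k hk
  obtain ⟨h1, h2, h3⟩ := hs.exists_TI_sum hUf hUi hUT hWm hWi hWT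
  exact ⟨_, h2, h1, by rw [h3, hUd, hWd, mul_one]⟩

/-- Dimensions of invariant totally isotropic subspaces. -/
theorem Setting.dims_TI (hs : Setting B ε T r) {b c S : ℕ} (hm : Shape B T (movS T) b c S) {W : Submodule F V}
    (hW : W.map T ≤ W) (hWT : TI B W) :
    ∃ u k, 2 * u ≤ finrank F (fixS T) ∧ 2 * (k * b) ≤ finrank F (movS T) ∧ u + k * b = finrank F W ∧
      ∃ U ≤ movS T, U.map T ≤ U ∧ TI B U ∧ finrank F U = k * b := by
  obtain ⟨k, hk⟩ := hm.dvd _ (inf_le_right : W ⊓ movS T ≤ movS T) (inv_inf hW inv_movS)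
  refine ⟨finrank F ↥(W ⊓ fixS T), k, two_mul_le_of_TI hs.herm hs.nd_fix inf_le_right (hWT.mono inf_le_left),
    ?_, ?_, _, inf_le_right, inv_inf hW inv_movS, hWT.mono inf_le_left, by rw [hk, mul_comm]⟩
  · rw [mul_comm k b, ← hk]
    exact two_mul_le_of_TI hs.herm hs.nd_mov inf_le_right (hWT.mono inf_le_left)
  · rw [mul_comm k b, ← hk]; exact (hs.split hW).2

/-- Existence of an invariant nondegenerate subspace of dimension `e * c1 + k * c`. -/
theorem Setting.exists_ndsub (hs : Setting B ε T r) {c1 S1 b c S : ℕ} (hf : Shape B T (fixS T) 1 c1 S1)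
    (hm : Shape B T (movS T) b c S) {e k : ℕ} (he : e * c1 ≤ finrank F (fixS T))
    (hk : k * c ≤ finrank F (movS T)) :
    ∃ W : Submodule F V, W.map T ≤ W ∧ NdOn B W ∧ finrank F W = e * c1 + k * c := by
  obtain ⟨U, hUf, hUi, hUn, hUd⟩ := hf.ndsub e he
  obtain ⟨W, hWm, hWi, hWn, hWd⟩ := hm.ndsub k hk
  have ho : W ≤ orth B U := fun x hx y hy => hs.movS_le_orth (hWm hx) y (hUf hy)
  exact ⟨U ⊔ W, inv_sup hUi hWi, hUn.sup hs.herm hWn ho, by rw [finrank_sup_orth hUn ho, hUd, hWd]⟩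

/-- Dimensions of invariant nondegenerate subspaces. -/
theorem Setting.dims_nd (hs : Setting B ε T r) {b c S : ℕ} (hm : Shape B T (movS T) b c S) {W : Submodule F V}
    (hW : W.map T ≤ W) (hWn : NdOn B W) :
    ∃ e k, e ≤ finrank F (fixS T) ∧ k * c ≤ finrank F (movS T) ∧ e + k * c = finrank F W := by
  obtain ⟨k, hk⟩ := hm.nd_dvd _ (inf_le_right : W ⊓ movS T ≤ movS T) (inv_inf hW inv_movS) (hs.split_nd hW hWn).2
  refine ⟨finrank F ↥(W ⊓ fixS T), k, Submodule.finrank_mono inf_le_right, ?_, ?_⟩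
  · rw [mul_comm k c, ← hk]; exact Submodule.finrank_mono inf_le_right
  · rw [mul_comm k c, ← hk]; exact (hs.split hW).2

end H44.Elu
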