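import Mathlib
import Cfsg.Agent.H44.Elu.Split

/-!
Model spaces with isometries of prime order.
-/

set_option autoImplicit false

open Polynomial Module

namespace H44.Elu

variable {F : Type*} [Field F] {σ : F →+* F}

/-- A form with an isometry, as a bundle of properties. -/
structure Model {V : Type*} [AddCommGroup V] [Module F V] (B : V →ₗ[F] V →ₛₗ[σ] F) (ε : F)
    (T : Module.End F V) : Prop where
  herm : Herm B ε
  nd : NdOn B (⊤ : Submodule F V)
  iso : Iso B T
  alt : σ = RingHom.id F → ε = -1 → ∀ v, B v v = 0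

/-! ### Sums -/

section sum

variable {V₁ V₂ : Type*} [AddCommGroup V₁] [Module F V₁] [AddCommGroup V₂] [Module F V₂]
  {B₁ : V₁ →ₗ[F] V₁ →ₛₗ[σ] F} {B₂ : V₂ →ₗ[F] V₂ →ₛₗ[σ] F} {ε : F} {T₁ : Module.End F V₁} {T₂ : Module.End F V₂}

/-- The orthogonal sum of two forms. -/
def sumB (B₁ : V₁ →ₗ[F] V₁ →ₛₗ[σ] F) (B₂ : V₂ →ₗ[F] V₂ →ₛₗ[σ] F) : V₁ × V₂ →ₗ[F] V₁ × V₂ →ₛₗ[σ] F where
  toFun u :=
    { toFun := fun v => B₁ u.1 v.1 + B₂ u.2 v.2
      map_add' := fun a b => by simp; ring
      map_smul' := fun c a => by simp [mul_add] }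
  map_add' a b := LinearMap.ext fun v => by simp; ring
  map_smul' c a := LinearMap.ext fun v => by simp [mul_add]

theorem Model.sum (h₁ : Model B₁ ε T₁) (h₂ : Model B₂ ε T₂) : Model (sumB B₁ B₂) ε (T₁.prodMap T₂) where
  herm := ⟨fun u v => by
    show B₁ v.1 u.1 + B₂ v.2 u.2 = ε * σ (B₁ u.1 v.1 + B₂ u.2 v.2)
    rw [h₁.herm.swap, h₂.herm.swap, map_add, mul_add], h₁.herm.invol⟩
  nd := fun u _ hu => by
    refine Prod.ext (h₁.nd _ trivial fun v _ => ?_) (h₂.nd _ trivial fun v _ => ?_)
    · simpa [sumB] using hu (v, 0) trivial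
    · simpa [sumB] using hu (0, v) trivial
  iso := fun u v => by
    show B₁ (T₁ u.1) (T₁ v.1) + B₂ (T₂ u.2) (T₂ v.2) = B₁ u.1 v.1 + B₂ u.2 v.2
    rw [h₁.iso, h₂.iso]
  alt := fun hσ hε v => by
    show B₁ v.1 v.1 + B₂ v.2 v.2 = 0
    rw [h₁.alt hσ hε, h₂.alt hσ hε, add_zero]

theorem prodMap_pow (T₁ : Module.End F V₁) (T₂ : Module.End F V₂) (r : ℕ) :
    (T₁.prodMap T₂ : Module.End F (V₁ × V₂)) ^ r = (T₁ ^ r).prodMap (T₂ ^ r) := by
  induction r with
  | zero => rfl
  | succ r ih => rw [pow_succ, ih, pow_succ, pow_succ]; rfl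

theorem aeval_prodMap (T₁ : Module.End F V₁) (T₂ : Module.End F V₂) (P : F[X]) (v : V₁ × V₂) :
    aeval (T₁.prodMap T₂ : Module.End F (V₁ × V₂)) P v = (aeval T₁ P v.1, aeval T₂ P v.2) := by
  induction P using Polynomial.induction_on' with
  | add p q hp hq => simp [hp, hq]
  | monomial n a => simp [aeval_monomial, prodMap_pow, Module.algebraMap_end_apply]

theorem fixS_prodMap (h₁ : ∀ v, T₁ v = v) (h₂ : ∀ v, T₂ v = v → v = 0) :
    fixS (T₁.prodMap T₂ : Module.End F (V₁ × V₂)) = LinearMap.range (LinearMap.inl F V₁ V₂) := by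
  ext v
  rw [mem_fixS, LinearMap.mem_range]
  refine ⟨fun h => ⟨v.1, Prod.ext rfl (h₂ v.2 (congrArg Prod.snd h)).symm⟩, ?_⟩
  rintro ⟨x, rfl⟩
  exact Prod.ext (h₁ x) (map_zero T₂)

theorem movS_prodMap [FiniteDimensional F V₁] [FiniteDimensional F V₂] (h₁ : ∀ v, T₁ v = v)
    (h₂ : ∀ v, T₂ v = v → v = 0) :
    movS (T₁.prodMap T₂ : Module.End F (V₁ × V₂)) = LinearMap.range (LinearMap.inr F V₁ V₂) := by
  have hinj : Function.Injective ((T₂ - 1 : Module.End F V₂) : V₂ → V₂) := by
    rw [injective_iff_map_eq_zero]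
    intro v hv
    exact h₂ v (sub_eq_zero.1 hv)
  refine le_antisymm ?_ ?_
  · rintro _ ⟨v, rfl⟩
    exact ⟨T₂ v.2 - v.2, Prod.ext (by show (0 : V₁) = T₁ v.1 - v.1; rw [h₁, sub_self]) rfl⟩
  · rintro _ ⟨x, rfl⟩
    obtain ⟨y, hy⟩ := LinearMap.injective_iff_surjective.1 hinj x
    exact ⟨(0, y), Prod.ext (by show T₁ 0 - 0 = (0 : V₁); simp) hy⟩

theorem finrank_mov_ker [FiniteDimensional F V₁] [FiniteDimensional F V₂] (h₁ : ∀ v, T₁ v = v)
    (h₂ : ∀ v, T₂ v = v → v = 0) (P : F[X]) :
    finrank F ↥(movS (T₁.prodMap T₂ : Module.End F (V₁ × V₂)) ⊓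
      LinearMap.ker (aeval (T₁.prodMap T₂ : Module.End F (V₁ × V₂)) P)) =
    finrank F (LinearMap.ker (aeval T₂ P)) := by
  rw [movS_prodMap h₁ h₂]
  have h : LinearMap.range (LinearMap.inr F V₁ V₂) ⊓
      LinearMap.ker (aeval (T₁.prodMap T₂ : Module.End F (V₁ × V₂)) P) =
      (LinearMap.ker (aeval T₂ P)).map (LinearMap.inr F V₁ V₂) := by
    ext v
    constructor
    · rintro ⟨⟨x, rfl⟩, hv⟩
      rw [SetLike.mem_coe, LinearMap.mem_ker, aeval_prodMap] at hv
      exact ⟨x, congrArg Prod.snd hv, rfl⟩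
    · rintro ⟨x, hx, rfl⟩
      refine ⟨⟨x, rfl⟩, ?_⟩
      rw [SetLike.mem_coe, LinearMap.mem_ker, aeval_prodMap]
      exact Prod.ext (by simp) hx
  rw [h, (Submodule.equivMapOfInjective _ LinearMap.inr_injective _).finrank_eq.symm]

end sum

/-! ### Models over an extension field -/

variable [Fintype F] {K : Type*} [Field K] [Algebra F K] [Finite K]

theorem trace_map (φ : K →+* K) (hφ : ∀ a, φ (algebraMap F K a) = algebraMap F K (σ a)) (z : K) :
    Algebra.trace F K (φ z) = σ (Algebra.trace F K z) := by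
  refine (algebraMap F K).injective ?_
  rw [← hφ, FiniteField.algebraMap_trace_eq_sum_pow, FiniteField.algebraMap_trace_eq_sum_pow, map_sum]
  simp only [map_pow]

theorem trace_algebraMap_mul (c : F) (z : K) :
    Algebra.trace F K (algebraMap F K c * z) = c * Algebra.trace F K z := by
  rw [← Algebra.smul_def, map_smul, smul_eq_mul]

theorem eq_zero_of_trace {x : K} (h : ∀ y, Algebra.trace F K (x * y) = 0) : x = 0 :=
  (traceForm_nondegenerate F K).1 x fun y => by rw [Algebra.traceForm_apply]; exact h y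

variable {A : ℕ}

/-- Multiplication by a family of scalars. -/
def diagT (F : Type*) [Field F] {K : Type*} [Field K] [Algebra F K] {A : ℕ} (α : Fin A → K) :
    Module.End F (Fin A → K) where
  toFun x j := α j * x j
  map_add' x y := funext fun j => by simp [mul_add]
  map_smul' c x := funext fun j => by simp

theorem diagT_pow (α : Fin A → K) (r : ℕ) (x : Fin A → K) (j : Fin A) :
    (diagT F α ^ r) x j = α j ^ r * x j := by
  induction r with
  | zero => simp
  | succ r ih =>
    rw [pow_succ', Module.End.mul_apply]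
    show α j * (diagT F α ^ r) x j = _
    rw [ih, pow_succ', mul_assoc]

theorem aeval_diagT (α : Fin A → K) (P : F[X]) (x : Fin A → K) (j : Fin A) :
    aeval (diagT F α) P x j = aeval (α j) P * x j := by
  induction P using Polynomial.induction_on' with
  | add p q hp hq => simp [hp, hq, add_mul]
  | monomial n a =>
    simp only [aeval_monomial, Module.End.mul_apply, Module.algebraMap_end_apply, Pi.smul_apply, diagT_pow]
    rw [Algebra.smul_def, mul_assoc]

theorem finrank_ker_diagT (α : Fin A → K) (P : F[X]) [DecidablePred fun j => aeval (α j) P = 0] :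
    finrank F (LinearMap.ker (aeval (diagT F α) P)) =
      Fintype.card {j // aeval (α j) P = 0} * finrank F K := by
  let e : LinearMap.ker (aeval (diagT F α) P) ≃ₗ[F] ({j // aeval (α j) P = 0} → K) :=
    { toFun := fun x j => (x : Fin A → K) j.1
      map_add' := fun _ _ => rfl
      map_smul' := fun _ _ => rfl
      invFun := fun y => ⟨fun j => if h : aeval (α j) P = 0 then y ⟨j, h⟩ else 0, by
        rw [LinearMap.mem_ker]
        funext j
        rw [aeval_diagT, Pi.zero_apply]
        split_ifs with h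
        · rw [h, zero_mul]
        · rw [mul_zero]⟩
      left_inv := fun x => Subtype.ext (funext fun j => by
        have hx := congrFun (LinearMap.mem_ker.1 x.2) j
        rw [aeval_diagT, Pi.zero_apply, mul_eq_zero] at hx
        by_cases h : aeval (α j) P = 0
        · simp [h]
        · simp [h, hx.resolve_left h])
      right_inv := fun y => funext fun j => by simp [j.2] }
  rw [e.finrank_eq, Module.finrank_pi_fintype, Finset.sum_const, Finset.card_univ, smul_eq_mul]

theorem diagT_fpf {α : Fin A → K} (h : ∀ j, α j ≠ 1) (x : Fin A → K) (hx : diagT F α x = x) : x = 0 :=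
  funext fun j => by
    have hj : α j * x j = x j := congrFun hx j
    exact (mul_left_eq_self₀.1 hj).resolve_left (h j)

/-- The form `Σ tr (δ x_j bar y_j)`. -/
noncomputable def selfB (bar : K →+* K) (hbar : ∀ a, bar (algebraMap F K a) = algebraMap F K (σ a)) (δ : K) (A : ℕ) :
    (Fin A → K) →ₗ[F] (Fin A → K) →ₛₗ[σ] F where
  toFun x :=
    { toFun := fun y => ∑ j, Algebra.trace F K (δ * x j * bar (y j))
      map_add' := fun a b => by simp [mul_add, Finset.sum_add_distrib]
      map_smul' := fun c a => by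
        rw [smul_eq_mul, Finset.mul_sum]
        refine Finset.sum_congr rfl fun j _ => ?_
        rw [Pi.smul_apply, Algebra.smul_def, map_mul bar, hbar, mul_left_comm, ← Algebra.smul_def, map_smul,
          smul_eq_mul] }
  map_add' a b := LinearMap.ext fun y => by simp [mul_add, add_mul, Finset.sum_add_distrib]
  map_smul' c a := LinearMap.ext fun y => by
    show ∑ j, Algebra.trace F K (δ * (c • a) j * bar (y j)) = c • ∑ j, Algebra.trace F K (δ * a j * bar (y j))
    rw [Finset.smul_sum]
    refine Finset.sum_congr rfl fun j _ => ?_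
    rw [Pi.smul_apply, mul_smul_comm, smul_mul_assoc, map_smul]

theorem selfB_apply {bar : K →+* K} {hbar : ∀ a, bar (algebraMap F K a) = algebraMap F K (σ a)} {δ : K}
    (x y : Fin A → K) : selfB bar hbar δ A x y = ∑ j, Algebra.trace F K (δ * x j * bar (y j)) := rfl

theorem model_self (hσ2 : ∀ a, σ (σ a) = a) (bar : K →+* K)
    (hbar : ∀ a, bar (algebraMap F K a) = algebraMap F K (σ a)) (hbb : ∀ x, bar (bar x) = x) {ε : F} {δ : K}
    (hδ : δ ≠ 0) (hδε : bar δ = algebraMap F K (σ ε) * δ) (hε : ε * σ ε = 1) (hbne : bar ≠ RingHom.id K)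
    {α : Fin A → K} (hα : ∀ j, α j * bar (α j) = 1) :
    Model (selfB bar hbar δ A) ε (diagT F α) where
  herm := ⟨fun x y => by
    rw [selfB_apply, selfB_apply, map_sum, Finset.mul_sum]
    refine Finset.sum_congr rfl fun j _ => ?_
    rw [← trace_map bar hbar, ← trace_algebraMap_mul]
    refine congrArg _ ?_
    rw [map_mul bar, map_mul bar, hbb, hδε]
    have h1 : algebraMap F K ε * algebraMap F K (σ ε) = 1 := by rw [← map_mul, hε, map_one]
    linear_combination (- (y j * bar (x j) * δ)) * h1, hσ2⟩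
  nd := fun x _ hx => funext fun j => by
    classical
    refine (mul_eq_zero.1 (eq_zero_of_trace (F := F) (x := δ * x j) fun y => ?_)).resolve_left hδ
    have h := hx (Pi.single j (bar y)) trivial
    rw [selfB_apply, Finset.sum_eq_single j (fun k _ hk => by simp [hk]) (by simp), Pi.single_eq_same, hbb] at h
    exact h
  iso := fun x y => by
    rw [selfB_apply, selfB_apply]
    refine Finset.sum_congr rfl fun j _ => ?_
    show Algebra.trace F K (δ * (α j * x j) * bar (α j * y j)) = _
    refine congrArg _ ?_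
    rw [map_mul bar]
    linear_combination (δ * x j * bar (y j)) * hα j
  alt := fun hσ hε' x => by
    rw [selfB_apply]
    refine Finset.sum_eq_zero fun j _ => ?_
    set z := δ * x j * bar (x j) with hz
    have hzz : bar z = -z := by
      rw [hz, map_mul, map_mul, hbb, hδε, hε', hσ, RingHom.id_apply, map_neg, map_one]; ring
    obtain ⟨a, ha⟩ := H38.exists_add_conj_ne_zero hbne
    obtain ⟨w, hw⟩ : ∃ w, z = w - bar w := ⟨z * a / (a + bar a), by
      rw [map_div₀, map_mul, map_add, hbb, hzz, add_comm (bar a) a, ← sub_div, eq_div_iff ha]; ring⟩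
    rw [hw, map_sub, trace_map bar hbar, hσ, RingHom.id_apply, sub_self]

theorem finrank_fun : finrank F (Fin A → K) = A * finrank F K := by
  rw [Module.finrank_pi_fintype, Finset.sum_const, Finset.card_univ, Fintype.card_fin, smul_eq_mul]

/-- The hyperbolic form of two copies. -/
noncomputable def hypB (τ : K →+* K) (hτ : ∀ a, τ (algebraMap F K a) = algebraMap F K (σ a))
    (hσ2 : ∀ a, σ (σ a) = a) (ε : F) (A : ℕ) :
    (Fin A → K) × (Fin A → K) →ₗ[F] (Fin A → K) × (Fin A → K) →ₛₗ[σ] F where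
  toFun x :=
    { toFun := fun y => (∑ j, Algebra.trace F K (x.1 j * τ (y.2 j))) +
        ε * σ (∑ j, Algebra.trace F K (y.1 j * τ (x.2 j)))
      map_add' := fun a b => by simp [mul_add, add_mul, Finset.sum_add_distrib]; ring
      map_smul' := fun c a => by
        rw [smul_eq_mul, mul_add, Finset.mul_sum, mul_left_comm, ← map_mul, Finset.mul_sum]
        refine congrArg₂ (· + ·) (Finset.sum_congr rfl fun j _ => ?_)
          (congrArg (fun t => ε * σ t) (Finset.sum_congr rfl fun j _ => ?_))
        ·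
          rw [Prod.smul_snd, Pi.smul_apply, Algebra.smul_def, map_mul τ, hτ, mul_left_comm, ← Algebra.smul_def,
            map_smul, smul_eq_mul]
        ·
          rw [Prod.smul_fst, Pi.smul_apply, smul_mul_assoc, map_smul, smul_eq_mul] }
  map_add' a b := LinearMap.ext fun y => by simp [mul_add, add_mul, Finset.sum_add_distrib]; ring
  map_smul' c a := LinearMap.ext fun y => by
    show (∑ j, Algebra.trace F K ((c • a).1 j * τ (y.2 j))) + ε * σ (∑ j, Algebra.trace F K (y.1 j * τ ((c • a).2 j))) =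
      c * ((∑ j, Algebra.trace F K (a.1 j * τ (y.2 j))) + ε * σ (∑ j, Algebra.trace F K (y.1 j * τ (a.2 j))))
    rw [mul_add, Finset.mul_sum, mul_left_comm c, show c * σ (∑ j, Algebra.trace F K (y.1 j * τ (a.2 j))) =
      σ (σ c * ∑ j, Algebra.trace F K (y.1 j * τ (a.2 j))) by rw [map_mul, hσ2], Finset.mul_sum]
    refine congrArg₂ (· + ·) (Finset.sum_congr rfl fun j _ => ?_)
      (congrArg (fun t => ε * σ t) (Finset.sum_congr rfl fun j _ => ?_))
    ·
      rw [Prod.smul_fst, Pi.smul_apply, smul_mul_assoc, map_smul, smul_eq_mul]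
    ·
      rw [Prod.smul_snd, Pi.smul_apply, Algebra.smul_def, map_mul τ, hτ, mul_left_comm, ← Algebra.smul_def,
        map_smul, smul_eq_mul]

theorem hypB_apply {τ : K →+* K} {hτ : ∀ a, τ (algebraMap F K a) = algebraMap F K (σ a)}
    {hσ2 : ∀ a, σ (σ a) = a} {ε : F} (x y : (Fin A → K) × (Fin A → K)) :
    hypB τ hτ hσ2 ε A x y = (∑ j, Algebra.trace F K (x.1 j * τ (y.2 j))) +
      ε * σ (∑ j, Algebra.trace F K (y.1 j * τ (x.2 j))) := rfl

theorem model_hyp (hσ2 : ∀ a, σ (σ a) = a) (τ : K →+* K) (hτ : ∀ a, τ (algebraMap F K a) = algebraMap F K (σ a))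
    (hτs : Function.Surjective τ) {ε : F} (hε : ε * σ ε = 1) {α β : Fin A → K} (hαβ : ∀ j, α j * τ (β j) = 1) :
    Model (hypB τ hτ hσ2 ε A) ε ((diagT F α).prodMap (diagT F β)) where
  herm := ⟨fun x y => by
    rw [hypB_apply, hypB_apply, map_add, map_mul, hσ2, mul_add, ← mul_assoc, hε, one_mul, add_comm], hσ2⟩
  nd := fun x _ hx => by
    classical
    refine Prod.ext (funext fun j => eq_zero_of_trace (F := F) fun y => ?_) (funext fun j => ?_)
    · obtain ⟨y', rfl⟩ := hτs y
      have h := hx (0, Pi.single j y') trivial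
      simp only [hypB_apply, Pi.zero_apply, zero_mul, map_zero, Finset.sum_const_zero, mul_zero, add_zero] at h
      rwa [Finset.sum_eq_single j (fun k _ hk => by simp [hk]) (by simp), Pi.single_eq_same] at h
    · refine τ.injective ((eq_zero_of_trace (F := F) (x := τ (x.2 j)) fun y => ?_).trans (map_zero τ).symm)
      have h := hx (Pi.single j y, 0) trivial
      simp only [hypB_apply, Pi.zero_apply, mul_zero, map_zero, Finset.sum_const_zero, zero_add] at h
      rw [Finset.sum_eq_single j (fun k _ hk => by simp [hk]) (by simp), Pi.single_eq_same, mul_comm] at h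
      rw [mul_comm] at h
      have hε0 : ε ≠ 0 := left_ne_zero_of_mul (hε.symm ▸ one_ne_zero)
      have h2 := (mul_eq_zero.1 h).resolve_left hε0
      rw [map_eq_zero] at h2
      rw [mul_comm]; exact h2
  iso := fun x y => by
    rw [hypB_apply, hypB_apply]
    have key : ∀ (a b : Fin A → K) j, diagT F α a j * τ (diagT F β b j) = a j * τ (b j) := fun a b j => by
      show α j * a j * τ (β j * b j) = _
      rw [map_mul]; linear_combination (a j * τ (b j)) * hαβ j
    simp only [LinearMap.prodMap_apply, key]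
  alt := fun hσ hε' x => by
    rw [hypB_apply, hσ, hε', RingHom.id_apply]; ring

theorem finrank_fun_prod : finrank F ((Fin A → K) × (Fin A → K)) = 2 * (A * finrank F K) := by
  rw [Module.finrank_prod, finrank_fun, two_mul]

end H44.Elu
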