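import Mathlib
import Cfsg.Agent.H46.ElusiveCases

/-!
A field with an element of order `r` and representatives of the classes of its powers.
-/

set_option autoImplicit false

open Polynomial Module

namespace H44.Elu

universe u

variable {F : Type u} [Field F] [Fintype F]

/-- Conjugate elements differ by a power of the Frobenius map. -/
theorem exists_pow_of_minpoly {K : Type*} [Field K] [Algebra F K] [Finite K] {x y : K}
    (h : minpoly F x = minpoly F y) : ∃ j : ℕ, y = x ^ (Fintype.card F ^ j) := by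
  obtain ⟨f, hf⟩ := (Normal.minpoly_eq_iff_mem_orbit (F := F) K).1 h.symm
  obtain ⟨j, hj⟩ := (FiniteField.bijective_frobeniusAlgEquivOfAlgebraic_pow F K).2 f
  refine ⟨j, ?_⟩
  have hfx : ∀ (k : ℕ) (z : K), (FiniteField.frobeniusAlgEquivOfAlgebraic F K ^ k) z = z ^ (Fintype.card F ^ k) := by
    intro k
    induction k with
    | zero => intro z; simp
    | succ k ih =>
      intro z
      rw [pow_succ', AlgEquiv.mul_apply, ih, pow_succ, pow_mul]
      rfl
  rw [← hf, ← hj]
  exact hfx j x

/-- The degree `b` extension with an element of order `r`. -/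
theorem exists_root_field {r : ℕ} [hr : Fact r.Prime] (hrF : (r : F) ≠ 0) :
    ∃ (K : Type u) (_ : Field K) (_ : Algebra F K) (_ : Finite K) (ξ : K), orderOf ξ = r ∧
      finrank F K = orderOf ((Fintype.card F : ℕ) : ZMod r) := by
  have hq : ((Fintype.card F : ℕ) : ZMod r) ≠ 0 := by
    rw [Ne, ZMod.natCast_eq_zero_iff]
    intro h
    obtain ⟨n, hp, hn⟩ := FiniteField.card F (ringChar F)
    rw [hn] at h
    refine hrF ?_
    rw [(Nat.prime_dvd_prime_iff_eq hr.out hp).1 (hr.out.dvd_of_dvd_pow h)]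
    exact ringChar.Nat.cast_ringChar
  have hdeg : 0 < (cyclotomic r F).natDegree := by
    rw [natDegree_cyclotomic, Nat.totient_prime hr.out]; have := hr.out.two_le; omega
  obtain ⟨P, hP, hPd⟩ := WfDvdMonoid.exists_irreducible_factor
    (fun h => (Polynomial.natDegree_eq_zero_of_isUnit h ▸ hdeg).false) (cyclotomic_ne_zero r F)
  haveI : Fact (Irreducible P) := ⟨hP⟩
  haveI : Module.Finite F (AdjoinRoot P) := (AdjoinRoot.powerBasis hP.ne_zero).finite
  haveI : Finite (AdjoinRoot P) := Module.finite_of_finite F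
  haveI : Fintype (AdjoinRoot P) := Fintype.ofFinite _
  have hroot : (cyclotomic r (AdjoinRoot P)).IsRoot (AdjoinRoot.root P) := by
    rw [← map_cyclotomic r (algebraMap F (AdjoinRoot P)), IsRoot.def, eval_map_algebraMap, AdjoinRoot.aeval_eq]
    exact (AdjoinRoot.mk_eq_zero).2 hPd
  haveI : NeZero (r : AdjoinRoot P) := ⟨by rw [← map_natCast (algebraMap F (AdjoinRoot P)), _root_.map_ne_zero]; exact hrF⟩
  have hord : orderOf (AdjoinRoot.root P) = r := ((isRoot_cyclotomic_iff).1 hroot).eq_orderOf.symm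
  refine ⟨AdjoinRoot P, inferInstance, inferInstance, inferInstance, AdjoinRoot.root P, hord, ?_⟩
  rw [(AdjoinRoot.powerBasis hP.ne_zero).finrank, AdjoinRoot.powerBasis_dim]
  refine le_antisymm (H46.Elusive.natDegree_le_order hq P hP ?_) (Nat.le_of_dvd hP.natDegree_pos ?_)
  · exact hPd.trans ⟨X - 1, by rw [cyclotomic_prime_mul_X_sub_one, map_one]⟩
  · have hcard : Fintype.card (AdjoinRoot P) = Fintype.card F ^ P.natDegree := by
      rw [Module.card_eq_pow_finrank (K := F), (AdjoinRoot.powerBasis hP.ne_zero).finrank,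
        AdjoinRoot.powerBasis_dim]
    have h1 : AdjoinRoot.root P ^ (Fintype.card F ^ P.natDegree) = AdjoinRoot.root P := by
      rw [← hcard]; exact FiniteField.pow_card _
    have h2 : AdjoinRoot.root P ^ (Fintype.card F ^ P.natDegree) = AdjoinRoot.root P ^ 1 := by rw [h1, pow_one]
    have hlt : ∀ a, a % orderOf (AdjoinRoot.root P) ∈ Set.Iio (orderOf (AdjoinRoot.root P)) :=
      fun a => Nat.mod_lt _ (hord.symm ▸ hr.out.pos)
    have h3 := pow_injOn_Iio_orderOf (hlt _) (hlt 1)
      ((pow_mod_orderOf _ _).trans (h2.trans (pow_mod_orderOf _ 1).symm))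
    rw [hord, ← ZMod.natCast_eq_natCast_iff', Nat.cast_pow, Nat.cast_one] at h3
    exact orderOf_dvd_of_pow_eq_one h3

/-- Exponents with pairwise nonconjugate powers. -/
theorem exists_class_reps {r : ℕ} [hr : Fact r.Prime] (hrF : (r : F) ≠ 0) {K : Type*} [Field K] [Algebra F K]
    [Finite K] {ξ : K} (hξ : orderOf ξ = r) {o : ℕ}
    (ho : o * orderOf ((Fintype.card F : ℕ) : ZMod r) ≤ r - 1) :
    ∃ e : Fin o → ℕ, (∀ j, ξ ^ e j ≠ 1) ∧ Function.Injective fun j => minpoly F (ξ ^ e j) := by
  classical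
  have hq : ((Fintype.card F : ℕ) : ZMod r) ≠ 0 := by
    rw [Ne, ZMod.natCast_eq_zero_iff]
    intro h
    obtain ⟨n, hp, hn⟩ := FiniteField.card F (ringChar F)
    rw [hn] at h
    refine hrF ?_
    rw [(Nat.prime_dvd_prime_iff_eq hr.out hp).1 (hr.out.dvd_of_dvd_pow h)]
    exact ringChar.Nat.cast_ringChar
  let qu : (ZMod r)ˣ := Units.mk0 _ hq
  let C := (ZMod r)ˣ ⧸ Subgroup.zpowers qu
  have hcard : Nat.card C * orderOf ((Fintype.card F : ℕ) : ZMod r) = r - 1 := by
    have h := Subgroup.card_eq_card_quotient_mul_card_subgroup (Subgroup.zpowers qu)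
    rw [Nat.card_zpowers, Nat.card_eq_fintype_card, ZMod.card_units, ← orderOf_units, Units.val_mk0] at h
    exact h.symm
  have hb : 0 < orderOf ((Fintype.card F : ℕ) : ZMod r) := by
    have : IsOfFinOrder qu := isOfFinOrder_of_finite _
    have := this.orderOf_pos
    rwa [← orderOf_units, Units.val_mk0] at this
  have hle : o ≤ Nat.card C := Nat.le_of_mul_le_mul_right (hcard.symm ▸ ho) hb
  obtain ⟨g, hg⟩ : ∃ g : Fin o → C, Function.Injective g :=
    ⟨fun j => (Finite.equivFin C).symm (Fin.castLE hle j),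
      (Finite.equivFin C).symm.injective.comp (Fin.castLE_injective hle)⟩
  choose a ha using fun j => QuotientGroup.mk_surjective (g j)
  have hlt : ∀ n, n % orderOf ξ ∈ Set.Iio (orderOf ξ) := fun n => Nat.mod_lt _ (hξ.symm ▸ hr.out.pos)
  have hpow : ∀ m n : ℕ, ξ ^ m = ξ ^ n → (m : ZMod r) = n := fun m n h => by
    have h3 := pow_injOn_Iio_orderOf (hlt m) (hlt n) ((pow_mod_orderOf _ _).trans (h.trans (pow_mod_orderOf _ n).symm))
    rwa [hξ, ← ZMod.natCast_eq_natCast_iff'] at h3
  refine ⟨fun j => ((a j : (ZMod r)ˣ) : ZMod r).val, fun j h => ?_, fun j j' h => hg ?_⟩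
  · have := hpow _ 0 (by rw [h, pow_zero])
    rw [ZMod.natCast_zmod_val, Nat.cast_zero] at this
    exact (a j).ne_zero this
  · obtain ⟨k, hk⟩ := exists_pow_of_minpoly (F := F) h
    rw [← pow_mul] at hk
    have h4 := hpow _ _ hk
    rw [Nat.cast_mul, ZMod.natCast_zmod_val, ZMod.natCast_zmod_val, Nat.cast_pow] at h4
    rw [← ha, ← ha, QuotientGroup.eq]
    refine ⟨k, ?_⟩
    have : a j' = a j * qu ^ k := Units.ext (by push_cast; exact h4)
    simp [this]

end H44.Elu
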