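import Mathlib
import Cfsg.Agent.H44.Elu.Model
import Cfsg.Agent.H44.Elu.Bound
import Cfsg.Agent.H44.Elu.Roots

/-!
Isometries of prime order with prescribed moved space.
-/

set_option autoImplicit false

open Polynomial Module

namespace H44.Elu

universe u

variable {F : Type u} [Field F] {σ : F →+* F} {V₁ : Type u} [AddCommGroup V₁] [Module F V₁]
  [FiniteDimensional F V₁] {B₁ : V₁ →ₗ[F] V₁ →ₛₗ[σ] F} {ε : F} {r : ℕ}

theorem setting_sum {V₂ : Type*} [AddCommGroup V₂] [Module F V₂] [FiniteDimensional F V₂]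
    {B₂ : V₂ →ₗ[F] V₂ →ₛₗ[σ] F} {T₂ : Module.End F V₂} (h₁ : Model B₁ ε LinearMap.id) (h₂ : Model B₂ ε T₂)
    (hr : r.Prime) (hrF : (r : F) ≠ 0) (hpow : T₂ ^ r = 1) :
    Setting (sumB B₁ B₂) ε ((LinearMap.id : Module.End F V₁).prodMap T₂) r := by
  have h := h₁.sum h₂
  refine ⟨h.herm, h.nd, h.iso, ?_, hr, hrF⟩
  rw [prodMap_pow, hpow, show ((LinearMap.id : Module.End F V₁) ^ r) = 1 from one_pow r]
  rfl

theorem finrank_fix_sum {V₂ : Type*} [AddCommGroup V₂] [Module F V₂] [FiniteDimensional F V₂]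
    {T₂ : Module.End F V₂} (h : ∀ v, T₂ v = v → v = 0) :
    finrank F (fixS ((LinearMap.id : Module.End F V₁).prodMap T₂)) = finrank F V₁ := by
  rw [fixS_prodMap (fun _ => rfl) h, LinearMap.finrank_range_of_inj LinearMap.inl_injective]

theorem finrank_mov_sum {V₂ : Type*} [AddCommGroup V₂] [Module F V₂] [FiniteDimensional F V₂]
    {T₂ : Module.End F V₂} (h : ∀ v, T₂ v = v → v = 0) :
    finrank F (movS ((LinearMap.id : Module.End F V₁).prodMap T₂)) = finrank F V₂ := by
  rw [movS_prodMap (fun _ => rfl) h, LinearMap.finrank_range_of_inj LinearMap.inr_injective]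

variable [Fintype F] {p : ℕ} [Fact p.Prime] [CharP F p]

/-- `A` hyperbolic blocks next to a fixed space. -/
theorem exists_pair_witness [Fact r.Prime] (h₁ : Model B₁ ε LinearMap.id) (hσ2 : ∀ a, σ (σ a) = a)
    (hε : ε * σ ε = 1) (hrF : (r : F) ≠ 0) {t : ℕ} (ht : ∃ e, t = p ^ e) (hfrob : ∀ a, σ a = a ^ t) (A : ℕ) :
    ∃ (V : Type u) (_ : AddCommGroup V) (_ : Module F V) (_ : FiniteDimensional F V)
      (B : V →ₗ[F] V →ₛₗ[σ] F) (T : Module.End F V), Model B ε T ∧ Setting B ε T r ∧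
      finrank F (fixS T) = finrank F V₁ ∧
      finrank F (movS T) = 2 * (A * orderOf ((Fintype.card F : ℕ) : ZMod r)) := by
  have hr : r.Prime := Fact.out
  obtain ⟨K, _, _, _, ξ, hξ, hKd⟩ := exists_root_field (F := F) hrF
  haveI : CharP K p := charP_of_injective_algebraMap (algebraMap F K).injective p
  obtain ⟨e, he⟩ := ht
  let τ : K →+* K := iterateFrobenius K p e
  have hτ : ∀ a, τ (algebraMap F K a) = algebraMap F K (σ a) := fun a => by
    rw [show τ (algebraMap F K a) = (algebraMap F K a) ^ (p ^ e) from rfl, ← map_pow, hfrob, he]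
  have hτs : Function.Surjective τ := Finite.injective_iff_surjective.1 τ.injective
  obtain ⟨β, hβ⟩ := hτs ξ⁻¹
  have hξ0 : ξ ≠ 0 := fun h => by
    have := pow_orderOf_eq_one ξ
    rw [hξ, h, zero_pow hr.ne_zero] at this
    exact zero_ne_one this
  have hξr : ξ ^ r = 1 := hξ ▸ pow_orderOf_eq_one ξ
  have hξ1 : ξ ≠ 1 := fun h => hr.ne_one (hξ.symm.trans (h ▸ orderOf_one))
  have hβr : β ^ r = 1 := τ.injective (by rw [map_pow, hβ, _root_.inv_pow, hξr, inv_one, map_one])
  have hβ1 : β ≠ 1 := fun h => hξ1 (by rw [h, map_one, eq_comm, inv_eq_one] at hβ; exact hβ)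
  let T₂ : Module.End F ((Fin A → K) × (Fin A → K)) := (diagT F fun _ => ξ).prodMap (diagT F fun _ => β)
  have hfpf : ∀ v, T₂ v = v → v = 0 := fun v hv =>
    Prod.ext (diagT_fpf (F := F) (fun _ => hξ1) _ (congrArg Prod.fst hv))
      (diagT_fpf (F := F) (fun _ => hβ1) _ (congrArg Prod.snd hv))
  have hM₂ : Model (hypB τ hτ hσ2 ε A) ε T₂ :=
    model_hyp hσ2 τ hτ hτs hε fun _ => by rw [hβ, mul_inv_cancel₀ hξ0]
  have hpow : T₂ ^ r = 1 := by
    rw [prodMap_pow]
    refine LinearMap.ext fun v => Prod.ext (funext fun j => ?_) (funext fun j => ?_)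
    · show (diagT F (fun _ => ξ) ^ r) v.1 j = v.1 j
      rw [diagT_pow, hξr, one_mul]
    · show (diagT F (fun _ => β) ^ r) v.2 j = v.2 j
      rw [diagT_pow, hβr, one_mul]
  exact ⟨V₁ × ((Fin A → K) × (Fin A → K)), inferInstance, inferInstance, inferInstance, _, _, h₁.sum hM₂,
    setting_sum h₁ hM₂ hr hrF hpow, finrank_fix_sum hfpf, by rw [finrank_mov_sum hfpf, finrank_fun_prod, hKd]⟩

/-- `A` self-paired blocks, of which `o` classes have odd multiplicity. -/
theorem exists_self_witness [Fact r.Prime] (h₁ : Model B₁ ε LinearMap.id) (hε : ε = 1 ∨ ε = -1)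
    (halt : σ ≠ RingHom.id F ∨ ε = -1) (hr2 : r ≠ 2) (hrF : (r : F) ≠ 0) {Q1 : ℕ} (hQ : ∃ e, Q1 = p ^ e)
    (hQr : r ∣ Q1 + 1) (hfrob : ∀ a, σ a = a ^ Q1)
    (hQ2 : Q1 * Q1 = Fintype.card F ^ orderOf ((Fintype.card F : ℕ) : ZMod r)) {A o : ℕ} (ho : 1 ≤ o) (hoA : o ≤ A)
    (hos : o * orderOf ((Fintype.card F : ℕ) : ZMod r) ≤ r - 1) (heven : Even (A - o)) :
    ∃ (V : Type u) (_ : AddCommGroup V) (_ : Module F V) (_ : FiniteDimensional F V)
      (B : V →ₗ[F] V →ₛₗ[σ] F) (T : Module.End F V), Model B ε T ∧ Setting B ε T r ∧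
      finrank F (fixS T) = finrank F V₁ ∧ finrank F (movS T) = A * orderOf ((Fintype.card F : ℕ) : ZMod r) ∧
      ∀ U ≤ movS T, U.map T ≤ U → TI B U →
        2 * finrank F U + o * orderOf ((Fintype.card F : ℕ) : ZMod r) ≤ finrank F (movS T) := by
  classical
  have hr : r.Prime := Fact.out
  obtain ⟨K, _, _, _, ξ, hξ, hKd⟩ := exists_root_field (F := F) hrF
  haveI : CharP K p := charP_of_injective_algebraMap (algebraMap F K).injective p
  haveI : Fintype K := Fintype.ofFinite K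
  obtain ⟨e, he⟩ := hQ
  let bar : K →+* K := iterateFrobenius K p e
  have hbar0 : ∀ x, bar x = x ^ Q1 := fun x => by rw [he]; rfl
  have hbar : ∀ a, bar (algebraMap F K a) = algebraMap F K (σ a) := fun a => by rw [hbar0, ← map_pow, hfrob]
  have hbb : ∀ x, bar (bar x) = x := fun x => by
    rw [hbar0, hbar0, ← pow_mul, hQ2, ← hKd, ← Module.card_eq_pow_finrank, FiniteField.pow_card]
  have hσ2 : ∀ a, σ (σ a) = a := fun a => (algebraMap F K).injective (by rw [← hbar, ← hbar, hbb])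
  have hξr : ξ ^ r = 1 := hξ ▸ pow_orderOf_eq_one ξ
  have hQ1' : ∀ a, (ξ ^ a) * bar (ξ ^ a) = 1 := fun a => by
    obtain ⟨k, hk⟩ := hQr
    rw [hbar0, ← pow_succ', hk, ← pow_mul, mul_left_comm, pow_mul, hξr, one_pow]
  have hbne : bar ≠ RingHom.id K := fun h => by
    have h2 := hQ1' 1
    rw [pow_one, h, RingHom.id_apply, ← pow_two] at h2
    have h3 : orderOf ξ ∣ 2 := orderOf_dvd_of_pow_eq_one h2
    rw [hξ] at h3
    exact hr2 ((Nat.prime_dvd_prime_iff_eq hr Nat.prime_two).1 h3)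
  have hσε : σ ε = ε := by rcases hε with rfl | rfl <;> simp
  obtain ⟨δ, hδ, hδε⟩ : ∃ δ : K, δ ≠ 0 ∧ bar δ = algebraMap F K (σ ε) * δ := by
    rw [hσε]
    rcases hε with rfl | rfl
    · exact ⟨1, one_ne_zero, by simp⟩
    · obtain ⟨a, ha⟩ : ∃ a, bar a ≠ a := by
        by_contra hh
        push Not at hh
        exact hbne (RingHom.ext hh)
      exact ⟨a - bar a, sub_ne_zero.2 (Ne.symm ha), by rw [map_sub, hbb, map_neg, map_one]; ring⟩
  obtain ⟨ex, hex1, hexinj⟩ := exists_class_reps (F := F) hrF hξ hos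
  let idx : Fin A → Fin o := fun j => if h : (j : ℕ) < o then ⟨j, h⟩ else ⟨0, ho⟩
  let α : Fin A → K := fun j => ξ ^ ex (idx j)
  have hα1 : ∀ j, α j ≠ 1 := fun j => hex1 _
  have hM₂ : Model (selfB bar hbar δ A) ε (diagT F α) :=
    model_self hσ2 bar hbar hbb hδ hδε (by rw [hσε]; rcases hε with rfl | rfl <;> simp) hbne fun j => hQ1' _
  have hfpf := diagT_fpf (F := F) hα1
  have hpow : diagT F α ^ r = 1 := LinearMap.ext fun v => funext fun j => by
    rw [diagT_pow, show α j ^ r = 1 by rw [← pow_mul, mul_comm, pow_mul, hξr, one_pow], one_mul]; rfl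
  have hs := setting_sum h₁ hM₂ hr hrF hpow
  refine ⟨V₁ × (Fin A → K), inferInstance, inferInstance, inferInstance, _, _, h₁.sum hM₂, hs,
    finrank_fix_sum hfpf, by rw [finrank_mov_sum hfpf, finrank_fun, hKd], fun U hU hUi hUT => ?_⟩
  let P : Fin o → F[X] := fun a => minpoly F (ξ ^ ex a)
  have hPinj : Function.Injective P := hexinj
  have hS : SelfPOn σ ((LinearMap.id : Module.End F V₁).prodMap (diagT F α)) p Q1
      (movS ((LinearMap.id : Module.End F V₁).prodMap (diagT F α))) :=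
    ⟨inferInstance, Fact.out, ⟨e, he⟩, fun v _ => by
      obtain ⟨k, hk⟩ := hQr
      rw [hk, pow_mul, hs.pow, one_pow]; rfl, hfrob⟩
  have h := two_mul_add_le hs.herm hs.iso hs.inj hs.ss (Finset.univ.image P) _ (part_mov hs) hS (fun Q hQm => ?_) U
    hU hUi hUT
  · rwa [Finset.card_image_of_injective _ hPinj, Finset.card_univ, Fintype.card_fin] at h
  obtain ⟨a, -, rfl⟩ := Finset.mem_image.1 hQm
  have hint : IsIntegral F (ξ ^ ex a) := Algebra.IsIntegral.isIntegral _
  refine ⟨minpoly.irreducible hint, minpoly.monic hint, Fintype.card {j // aeval (α j) (P a) = 0}, ?_, ?_⟩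
  · -- the multiplicity is odd
    have hiff : ∀ j, aeval (α j) (P a) = 0 ↔ idx j = a := fun j => by
      refine ⟨fun h => hPinj ?_, fun h => by show aeval (ξ ^ ex (idx j)) _ = 0; rw [h]; exact minpoly.aeval _ _⟩
      exact (minpoly.eq_of_irreducible_of_monic (minpoly.irreducible hint) h (minpoly.monic hint)).symm
    have e1 : Fintype.card {j // aeval (α j) (P a) = 0} = (Finset.univ.filter fun j => idx j = a).card := by
      rw [Fintype.card_subtype]
      exact congrArg Finset.card (Finset.filter_congr fun j _ => hiff j)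
    rw [e1]
    by_cases ha : (a : ℕ) = 0
    · have h2 : (Finset.univ.filter fun j => idx j = a) =
          (Finset.univ.filter fun j : Fin A => ¬ (1 ≤ (j : ℕ) ∧ (j : ℕ) < o)) := by
        refine Finset.filter_congr fun j _ => ?_
        simp only [idx]
        split_ifs with h <;> simp [Fin.ext_iff, ha] <;> omega
      have h3 : (Finset.univ.filter fun j : Fin A => (1 ≤ (j : ℕ) ∧ (j : ℕ) < o)).card = o - 1 := by
        rw [← Finset.card_map Fin.valEmbedding, show (Finset.univ.filter fun j : Fin A =>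
          (1 ≤ (j : ℕ) ∧ (j : ℕ) < o)).map Fin.valEmbedding = Finset.Ico 1 o by
            ext k
            simp only [Finset.mem_map, Finset.mem_filter, Finset.mem_univ, true_and, Fin.valEmbedding_apply,
              Finset.mem_Ico]
            exact ⟨fun ⟨j, hj, hjk⟩ => hjk ▸ hj, fun hk => ⟨⟨k, by omega⟩, hk, rfl⟩⟩, Nat.card_Ico]
      have h4 := Finset.card_filter_add_card_filter_not (s := (Finset.univ : Finset (Fin A)))
        (fun j : Fin A => (1 ≤ (j : ℕ) ∧ (j : ℕ) < o))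
      rw [h3, Finset.card_univ, Fintype.card_fin] at h4
      rw [h2, Nat.odd_iff]
      obtain ⟨k, hk⟩ := heven
      omega
    · rw [show (Finset.univ.filter fun j => idx j = a) = {Fin.castLE hoA a} by
        ext j
        simp only [Finset.mem_filter, Finset.mem_univ, true_and, Finset.mem_singleton, idx]
        split_ifs with h <;> simp [Fin.ext_iff] <;> omega]
      exact odd_one
  · rw [finrank_mov_ker (fun _ => rfl) hfpf, finrank_ker_diagT, hKd]

end H44.Elu
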