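import Mathlib
import Cfsg.Agent.H44.Elu.Witness
import Cfsg.Agent.H50.Form
import Cfsg.Agent.H38.WittHerm

/-!
The standard hermitian space.
-/

set_option autoImplicit false

open Polynomial Module

namespace H44.Elu

universe u

variable {F : Type u} [Field F] [Fintype F] {q : ℕ}

/-- The standard hermitian form. -/
noncomputable def hermB (hF : Fintype.card F = q ^ 2) (n : ℕ) :
    (Fin n → F) →ₗ[F] (Fin n → F) →ₛₗ[H50.conjHom hF] F where
  toFun u :=
    { toFun := fun v => Cfsg.hermForm n F q u v
      map_add' := H50.h_add_right hF u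
      map_smul' := fun c v => H50.h_smul_right hF c u v }
  map_add' a b := LinearMap.ext fun v => H50.h_add_left a b v
  map_smul' c a := LinearMap.ext fun v => H50.h_smul_left c a v

theorem hermB_apply (hF : Fintype.card F = q ^ 2) {n : ℕ} (u v : Fin n → F) :
    hermB hF n u v = Cfsg.hermForm n F q u v := rfl

theorem herm_hermB (hF : Fintype.card F = q ^ 2) (n : ℕ) : Herm (hermB hF n) 1 :=
  ⟨fun u v => by rw [one_mul]; exact H50.h_symm hF u v, fun a => H50.pow_q_pow_q hF a⟩

theorem nd_hermB (hF : Fintype.card F = q ^ 2) (n : ℕ) : NdOn (hermB hF n) ⊤ :=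
  fun u _ h => H50.eq_zero_of_h_left hF fun v => h v trivial

theorem conj_ne_id (hF : Fintype.card F = q ^ 2) : H50.conjHom hF ≠ RingHom.id F := by
  intro h
  classical
  have hq := H50.two_le hF
  have hall : ∀ x : F, (X ^ q - X : F[X]).IsRoot x := fun x => by
    rw [IsRoot.def, eval_sub, eval_pow, eval_X, sub_eq_zero]
    exact RingHom.congr_fun h x
  have hne : (X ^ q - X : F[X]) ≠ 0 := FiniteField.X_pow_card_sub_X_ne_zero F (by omega)
  have h1 : Fintype.card F ≤ q := by
    calc Fintype.card F = (Finset.univ : Finset F).val.card := rfl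
      _ ≤ (X ^ q - X : F[X]).roots.card := Multiset.card_le_card (by
          rw [Finset.val_le_iff_val_subset]
          exact fun x _ => (mem_roots hne).2 (hall x))
      _ ≤ (X ^ q - X : F[X]).natDegree := card_roots' _
      _ = q := FiniteField.X_pow_card_sub_X_natDegree_eq F (by omega)
  rw [hF] at h1
  nlinarith

theorem iso_su {n : ℕ} (hF : Fintype.card F = q ^ 2) {x : Matrix.SpecialLinearGroup (Fin n) F}
    (hx : x ∈ Cfsg.SU n F q) : Iso (hermB hF n) (Matrix.toLin' (x : Matrix (Fin n) (Fin n) F)) := fun u v => by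
  rw [Matrix.toLin'_apply, Matrix.toLin'_apply]
  exact H50.mem_SU.1 hx u v

/-- A hermitian model is isometric to the standard one. -/
theorem exists_herm_coords (hF : Fintype.card F = q ^ 2) {V : Type u} [AddCommGroup V] [Module F V]
    [FiniteDimensional F V] {B : V →ₗ[F] V →ₛₗ[H50.conjHom hF] F} {T : Module.End F V} (hM : Model B 1 T)
    {n : ℕ} (hn : finrank F V = n) :
    ∃ (φ : V ≃ₗ[F] (Fin n → F)) (M : Matrix (Fin n) (Fin n) F), H50.IsIso q M ∧ M.det = LinearMap.det T ∧
      (∀ v, M.mulVec (φ v) = φ (T v)) ∧ ∀ u v, Cfsg.hermForm n F q (φ u) (φ v) = B u v := by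
  classical
  have hS : B.flip.IsSymm := ⟨fun x y => by
    rw [LinearMap.flip_apply, LinearMap.flip_apply, hM.herm.swap x y, one_mul, hM.herm.invol]⟩
  have hnd : B.flip.Nondegenerate := by
    constructor
    · intro x hx
      exact hM.nd x trivial fun y _ => hM.herm.refl (hx y)
    · intro y hy
      exact hM.nd y trivial fun x _ => hy x
  obtain ⟨e, he⟩ := H38.exists_orthonormal_family (conj_ne_id hF) (fun a => H50.pow_q_pow_q hF a) B.flip hS hnd n
    hn.ge
  let L : (Fin n → F) →ₗ[F] V := Fintype.linearCombination F e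
  have hBL : ∀ a b, B (L a) (L b) = Cfsg.hermForm n F q a b := fun a b => by
    simp only [L, Fintype.linearCombination_apply, map_sum, LinearMap.sum_apply, map_smul, LinearMap.smul_apply,
      LinearMap.map_smulₛₗ, smul_eq_mul, Cfsg.hermForm, H50.conjHom_apply]
    simp only [Finset.mul_sum]
    rw [Finset.sum_comm]
    refine Finset.sum_congr rfl fun i _ => ?_
    rw [Finset.sum_eq_single i]
    · have := he i i
      rw [LinearMap.flip_apply, if_pos rfl] at this
      rw [this, mul_one]; ring
    · intro j _ hj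
      have := he j i
      rw [LinearMap.flip_apply, if_neg hj] at this
      rw [this, mul_zero, mul_zero]
    · simp
  have hL : Function.Injective L := by
    rw [injective_iff_map_eq_zero]
    intro a ha
    exact H50.eq_zero_of_h_left hF fun b => by rw [← hBL, ha, map_zero, LinearMap.zero_apply]
  let φ : V ≃ₗ[F] (Fin n → F) :=
    (LinearMap.linearEquivOfInjective L hL (by rw [hn, finrank_fin_fun])).symm
  have hφ : ∀ u v, Cfsg.hermForm n F q (φ u) (φ v) = B u v := fun u v => by
    rw [← hBL]
    congr 2 <;> exact (LinearMap.linearEquivOfInjective L hL (by rw [hn, finrank_fin_fun])).apply_symm_apply _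
  let f : Module.End F (Fin n → F) := φ.toLinearMap ∘ₗ T ∘ₗ φ.symm.toLinearMap
  have hdetM : (LinearMap.toMatrix' f).det = LinearMap.det T := by
    rw [LinearMap.det_toMatrix']
    exact LinearMap.det_conj T φ
  have hMx : ∀ v, (LinearMap.toMatrix' f).mulVec (φ v) = φ (T v) := fun v => by
    rw [← Matrix.toLin'_apply, Matrix.toLin'_toMatrix']
    simp [f]
  refine ⟨φ, LinearMap.toMatrix' f, fun u v => ?_, hdetM, hMx, hφ⟩
  obtain ⟨u, rfl⟩ := φ.surjective u
  obtain ⟨v, rfl⟩ := φ.surjective v
  rw [hMx, hMx]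
  exact (hφ _ _).trans ((hM.iso u v).trans (hφ u v).symm)

/-- The determinant of an isometry has norm one. -/
theorem det_norm_model (hF : Fintype.card F = q ^ 2) {V : Type u} [AddCommGroup V] [Module F V]
    [FiniteDimensional F V] {B : V →ₗ[F] V →ₛₗ[H50.conjHom hF] F} {T : Module.End F V} (hM : Model B 1 T) :
    LinearMap.det T ^ (q + 1) = 1 := by
  obtain ⟨φ, M, hM', hdet, -⟩ := exists_herm_coords hF hM (n := finrank F V) rfl
  rw [← hdet]; exact hM'.det_norm hF

/-- A hermitian model of determinant one is the standard one. -/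
theorem exists_su_elt (hF : Fintype.card F = q ^ 2) {V : Type u} [AddCommGroup V] [Module F V] [FiniteDimensional F V]
    {B : V →ₗ[F] V →ₛₗ[H50.conjHom hF] F} {T : Module.End F V} (hM : Model B 1 T) (hdet : LinearMap.det T = 1)
    {n : ℕ} (hn : finrank F V = n) :
    ∃ (x : Matrix.SpecialLinearGroup (Fin n) F) (φ : V ≃ₗ[F] (Fin n → F)), x ∈ Cfsg.SU n F q ∧
      (∀ v, Matrix.toLin' (x : Matrix (Fin n) (Fin n) F) (φ v) = φ (T v)) ∧
      ∀ u v, Cfsg.hermForm n F q (φ u) (φ v) = B u v := by
  obtain ⟨φ, M, hM', hd, hMx, hφ⟩ := exists_herm_coords hF hM hn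
  exact ⟨⟨M, hd.trans hdet⟩, φ, H50.mem_SU.2 hM', fun v => by rw [Matrix.toLin'_apply]; exact hMx v, hφ⟩

/-- A fixed hermitian space of any dimension. -/
theorem exists_herm_fix (hF : Fintype.card F = q ^ 2) (h : ℕ) :
    ∃ (V : Type u) (_ : AddCommGroup V) (_ : Module F V) (_ : FiniteDimensional F V)
      (B : V →ₗ[F] V →ₛₗ[H50.conjHom hF] F), Model B 1 LinearMap.id ∧ finrank F V = h := by
  have hM := model_self (F := F) (K := F) (A := h) (σ := H50.conjHom hF) (fun a => H50.pow_q_pow_q hF a) (H50.conjHom hF) (fun _ => rfl)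
    (fun a => H50.pow_q_pow_q hF a) (ε := (1 : F)) (δ := 1) one_ne_zero (by simp) (by simp) (conj_ne_id hF)
    (α := fun _ => 1) (fun _ => by simp)
  have he : diagT F (fun _ : Fin h => (1 : F)) = LinearMap.id := LinearMap.ext fun v => funext fun j => one_mul _
  rw [he] at hM
  exact ⟨Fin h → F, inferInstance, inferInstance, inferInstance, _, hM, finrank_fin_fun F⟩

end H44.Elu
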