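import Mathlib
import Cfsg.Agent.H44.Elu.StdSU
import Cfsg.Agent.H44.Elu.Arith

/-!
Elements of prime order of the unitary groups: reduction to isometries, shapes and witnesses.
-/

set_option autoImplicit false

open Polynomial Module

namespace H44.Elu

universe u

variable {F : Type u} [Field F] [Fintype F] {q n : ℕ}

local notation "Mat" => Matrix (Fin n) (Fin n) F

theorem toLin_pow_sl {x : Matrix.SpecialLinearGroup (Fin n) F} {r : ℕ} {z : F}
    (hz : ((x ^ r : Matrix.SpecialLinearGroup (Fin n) F) : Mat) = z • (1 : Mat)) :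
    (Matrix.toLin' (x : Mat) : Module.End F (Fin n → F)) ^ r = z • 1 := by
  show (Matrix.toLinAlgEquiv' (x : Mat)) ^ r = _
  rw [Matrix.SpecialLinearGroup.coe_pow] at hz
  rw [← map_pow, hz, map_smul, map_one]

theorem scalar_norm (hF : Fintype.card F = q ^ 2) (hn : 0 < n) {x : Matrix.SpecialLinearGroup (Fin n) F}
    (hxS : x ∈ Cfsg.SU n F q) {r : ℕ} {z : F}
    (hz : ((x ^ r : Matrix.SpecialLinearGroup (Fin n) F) : Mat) = z • (1 : Mat)) : z ^ (q + 1) = 1 := by
  have h := H50.mem_SU.1 ((Cfsg.SU n F q).pow_mem hxS r) (Pi.single ⟨0, hn⟩ 1) (Pi.single ⟨0, hn⟩ 1)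
  rw [hz, Matrix.smul_mulVec, Matrix.one_mulVec, H50.h_smul_left, H50.h_smul_right hF, H50.h_single_single hF,
    if_pos rfl, mul_one] at h
  rw [pow_succ']
  exact h

/-- An element whose scalar has a norm one `r`-th root is a scalar times an isometry of order dividing `r`. -/
theorem exists_setting_su (hF : Fintype.card F = q ^ 2) {r : ℕ} (hr : r.Prime) (hrF : (r : F) ≠ 0)
    {x : Matrix.SpecialLinearGroup (Fin n) F} (hxS : x ∈ Cfsg.SU n F q) {z : F}
    (hz : ((x ^ r : Matrix.SpecialLinearGroup (Fin n) F) : Mat) = z • (1 : Mat)) {w : F} (hw : w ^ r = z)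
    (hw1 : w ^ (q + 1) = 1) :
    ∃ T, Setting (hermB hF n) 1 T r ∧ (∀ W : Submodule F (Fin n → F), W.map T ≤ W →
      W.map (Matrix.toLin' (x : Mat)) ≤ W) ∧ T = w⁻¹ • Matrix.toLin' (x : Mat) := by
  have hw0 : w ≠ 0 := fun h => by rw [h, zero_pow (by omega)] at hw1; exact zero_ne_one hw1
  refine ⟨w⁻¹ • Matrix.toLin' (x : Mat), ⟨herm_hermB hF n, nd_hermB hF n, fun u v => ?_, ?_, hr, hrF⟩,
    fun W hW => ?_, rfl⟩
  · simp only [LinearMap.smul_apply, map_smul, LinearMap.map_smulₛₗ, iso_su hF hxS u v, smul_eq_mul, ← mul_assoc,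
      H50.conjHom_apply]
    rw [← pow_succ, _root_.inv_pow, hw1, inv_one, one_mul]
  · rw [_root_.smul_pow, toLin_pow_sl hz, smul_smul, _root_.inv_pow, ← hw,
      inv_mul_cancel₀ (pow_ne_zero _ hw0), one_smul]
  · rwa [Submodule.map_smul _ _ _ (inv_ne_zero hw0)] at hW

variable {p : ℕ} [Fact p.Prime] [CharP F p] {r : ℕ} [Fact r.Prime] {i b c : ℕ}

theorem cast_ne_of_ne' (hrp : r ≠ p) : (r : F) ≠ 0 := fun h =>
  hrp ((Nat.prime_dvd_prime_iff_eq (Fact.out : p.Prime) (Fact.out : r.Prime)).1 ((CharP.cast_eq_zero_iff F p r).1 h)).symm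

theorem q_cast_ne (hF : Fintype.card F = q ^ 2) (hrp : r ≠ p) : (q : ZMod r) ≠ 0 := by
  obtain ⟨p', f, hp', -, hc, hq⟩ := H50.exists_prime_pow hF
  obtain rfl := CharP.eq F hc ‹CharP F p›
  rw [Ne, ZMod.natCast_eq_zero_iff, hq]
  exact fun h => hrp ((Nat.prime_dvd_prime_iff_eq (Fact.out : r.Prime) hp').1 ((Fact.out : r.Prime).dvd_of_dvd_pow h))

theorem i_pos (hF : Fintype.card F = q ^ 2) (hrp : r ≠ p) (hi : i = orderOf (q : ZMod r)) : 0 < i := by
  have : IsOfFinOrder (Units.mk0 _ (q_cast_ne hF hrp)) := isOfFinOrder_of_finite _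
  have := this.orderOf_pos
  rw [← orderOf_units, Units.val_mk0] at this
  rwa [hi]

/-- The order of the field size modulo `r`. -/
theorem b_eq_order (hF : Fintype.card F = q ^ 2) (hi : i = orderOf (q : ZMod r))
    (hb : b = if Even i then i / 2 else i) : b = orderOf ((Fintype.card F : ℕ) : ZMod r) := by
  rw [hF, Nat.cast_pow, orderOf_pow' (q : ZMod r) two_ne_zero, ← hi, hb]
  split_ifs with he
  · rw [Nat.gcd_eq_right he.two_dvd]
  · rw [show Nat.gcd i 2 = 1 from Nat.coprime_two_right.2 (Nat.not_even_iff_odd.1 he), Nat.div_one]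

/-- Exponents giving minus one. -/
theorem neg_one_exp (hr2 : r ≠ 2) (hi : i = orderOf (q : ZMod r)) {e : ℕ} (he : (q : ZMod r) ^ e = -1) :
    Even i ∧ i / 2 ∣ e ∧ (i % 4 = 0 → Even e) := by
  have h2 : i ∣ 2 * e := hi ▸ orderOf_dvd_of_pow_eq_one (by rw [mul_comm, pow_mul, he, neg_one_sq])
  have h3 : ¬ i ∣ e := fun h => by
    rw [hi, orderOf_dvd_iff_pow_eq_one] at h
    rw [h] at he
    refine hr2 ((Nat.prime_dvd_prime_iff_eq (Fact.out : r.Prime) Nat.prime_two).1 ?_)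
    rw [← ZMod.natCast_eq_zero_iff, Nat.cast_ofNat]
    linear_combination he
  have hev : Even i := by
    by_contra hodd
    exact h3 ((Nat.coprime_two_right.2 (Nat.not_even_iff_odd.1 hodd)).dvd_of_dvd_mul_left h2)
  obtain ⟨k, rfl⟩ := hev
  have hk : k ∣ e := by
    obtain ⟨l, hl⟩ := h2
    exact ⟨l, by linarith⟩
  refine ⟨⟨k, rfl⟩, by rw [show (k + k) / 2 = k by omega]; exact hk, fun h4 => ?_⟩
  exact even_iff_two_dvd.2 ((Nat.dvd_of_mod_eq_zero (by omega : k % 2 = 0)).trans hk)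

theorem pow_b_eq_neg_one (hF : Fintype.card F = q ^ 2) (hrp : r ≠ p) (hi : i = orderOf (q : ZMod r))
    (h2 : i % 4 = 2) : (q : ZMod r) ^ (i / 2) = -1 := by
  have h1 : ((q : ZMod r) ^ (i / 2)) * (q : ZMod r) ^ (i / 2) = 1 := by
    rw [← pow_add, show i / 2 + i / 2 = i by omega, hi, pow_orderOf_eq_one]
  refine (mul_self_eq_one_iff.mp h1).resolve_left fun h3 => ?_
  have := Nat.le_of_dvd (by omega) (hi ▸ orderOf_dvd_of_pow_eq_one h3)
  omega

theorem frob_odd (hF : Fintype.card F = q ^ 2) {e : ℕ} (he : Odd e) (a : F) : H50.conjHom hF a = a ^ q ^ e := by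
  obtain ⟨k, rfl⟩ := he
  induction k with
  | zero => simp
  | succ k ih =>
    rw [show 2 * (k + 1) + 1 = 2 * k + 1 + 2 by ring, pow_add q, pow_mul, ← hF, ← ih, FiniteField.pow_card]

theorem prime_pow_q (hF : Fintype.card F = q ^ 2) (e : ℕ) : ∃ e', q ^ e = p ^ e' := by
  obtain ⟨p', f, hp', -, hc, hq⟩ := H50.exists_prime_pow hF
  obtain rfl := CharP.eq F hc ‹CharP F p›
  exact ⟨f * e, by rw [hq, pow_mul]⟩

theorem noneg_su (hF : Fintype.card F = q ^ 2) (hrp : r ≠ p) (hr2 : r ≠ 2) (hi : i = orderOf (q : ZMod r))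
    (h2 : i % 4 ≠ 2) (j : ℕ) : ((Fintype.card F : ℕ) : ZMod r) ^ j ≠ -(q : ZMod r) := by
  intro hj
  rw [hF, Nat.cast_pow, ← pow_mul] at hj
  have hpos := i_pos hF hrp hi
  obtain ⟨hev, -, h4⟩ := neg_one_exp hr2 hi (e := 2 * j + (i - 1)) (by
    rw [pow_add, hj, neg_mul, ← pow_succ', Nat.sub_add_cancel hpos, hi, pow_orderOf_eq_one])
  rcases hev with ⟨k, hk⟩
  obtain ⟨l, hl⟩ := h4 (by omega)
  omega

/-- The shape of the moved space. -/
theorem shape_mov_su (hF : Fintype.card F = q ^ 2) (hrp : r ≠ p) (hr2 : r ≠ 2) (hi : i = orderOf (q : ZMod r))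
    (hb : b = if Even i then i / 2 else i) {V : Type u} [AddCommGroup V] [Module F V] [FiniteDimensional F V]
    {B : V →ₗ[F] V →ₛₗ[H50.conjHom hF] F} {T : Module.End F V} (hs : Setting B 1 T r) :
    Shape B T (movS T) b (if i % 4 = 2 then b else 2 * b) (if i % 4 = 2 then r - 1 else 0) := by
  have hbo := b_eq_order hF hi hb
  have hpos : 0 < orderOf ((Fintype.card F : ℕ) : ZMod r) := by
    have := i_pos hF hrp hi
    rw [← hbo, hb]; split_ifs with he
    · obtain ⟨k, hk⟩ := he; omega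
    · exact this
  by_cases h2 : i % 4 = 2
  · rw [if_pos h2, if_pos h2, hbo]
    refine shape_mov_self hs hr2 (Or.inl (conj_ne_id hF)) (p := p) (Q1 := q ^ (i / 2)) (prime_pow_q hF _) ?_
      (fun a => frob_odd hF ⟨i / 4, by omega⟩ a) hpos
    rw [← ZMod.natCast_eq_zero_iff, Nat.cast_add, Nat.cast_pow, pow_b_eq_neg_one hF hrp hi h2, Nat.cast_one,
      neg_add_cancel]
  · rw [if_neg h2, if_neg h2, hbo]
    exact shape_mov_pair hs (p := p) (t := q) ⟨_, (pow_one q).symm.trans (prime_pow_q hF 1).choose_spec⟩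
      (fun a => rfl) (noneg_su hF hrp hr2 hi h2) hpos

theorem c_eq_block (hb : b = if Even i then i / 2 else i)
    (hc : c = if i % 4 = 0 then i else if i % 4 = 2 then i / 2 else 2 * i) :
    (if i % 4 = 2 then b else 2 * b) = c := by
  rw [hb, hc]
  simp only [Nat.even_iff]
  split_ifs <;> omega

theorem c_dvd_su (hr2 : r ≠ 2) (hi : i = orderOf (q : ZMod r))
    (hc : c = if i % 4 = 0 then i else if i % 4 = 2 then i / 2 else 2 * i) {j : ℕ} (hj : 1 ≤ j)
    (h : r ∣ if Even (j - 1) then q ^ j + 1 else q ^ j - 1) (hq : 1 ≤ q) : c ∣ j := by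
  by_cases he : Even (j - 1)
  · rw [if_pos he, ← ZMod.natCast_eq_zero_iff, Nat.cast_add, Nat.cast_pow, Nat.cast_one] at h
    obtain ⟨hev, hdvd, h4⟩ := neg_one_exp hr2 hi (eq_neg_of_add_eq_zero_left h)
    have hi2 : i % 4 = 2 := by
      obtain ⟨k, hk⟩ := hev
      by_contra hh
      obtain ⟨l, hl⟩ := h4 (by omega)
      obtain ⟨l', hl'⟩ := he
      omega
    rw [hc, if_neg (by omega), if_pos hi2]
    exact hdvd
  · rw [if_neg he] at h
    have h1 : i ∣ j := by
      rw [hi]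
      refine orderOf_dvd_of_pow_eq_one ?_
      rw [← sub_eq_zero, ← Nat.cast_pow, ← Nat.cast_one, ← Nat.cast_sub (Nat.one_le_pow _ _ hq),
        ZMod.natCast_eq_zero_iff]
      exact h
    have hje : 2 ∣ j := by
      rw [Nat.even_iff] at he
      omega
    rw [hc]
    split_ifs with h4 h4'
    · exact h1
    · exact (Nat.div_dvd_of_dvd (by omega)).trans h1
    · exact (Nat.coprime_two_left.2 (Nat.odd_iff.2 (by omega))).mul_dvd_of_dvd_of_dvd hje h1

/-- A norm one `r`-th root, when `r` is prime to `q + 1`. -/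
theorem exists_root_coprime (hF : Fintype.card F = q ^ 2) (hr : ¬ r ∣ q + 1) {z : F} (hz : z ^ (q + 1) = 1) :
    ∃ w : F, w ^ r = z ∧ w ^ (q + 1) = 1 := by
  obtain ⟨k, -, hk⟩ := Nat.exists_mul_mod_eq_one_of_coprime
    (((Fact.out : r.Prime).coprime_iff_not_dvd).2 hr) (by have := H50.two_le hF; omega)
  refine ⟨z ^ k, ?_, by rw [← pow_mul, mul_comm, pow_mul, hz, one_pow]⟩
  rw [← pow_mul, pow_eq_pow_mod _ hz, mul_comm, hk, pow_one]

theorem not_dvd_q_add_one (hr2 : r ≠ 2) (hi : i = orderOf (q : ZMod r)) (h2 : i ≠ 2) : ¬ r ∣ q + 1 := by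
  intro h
  rw [← ZMod.natCast_eq_zero_iff, Nat.cast_add, Nat.cast_one] at h
  have hq : (q : ZMod r) = -1 := eq_neg_of_add_eq_zero_left h
  refine h2 (hi.trans (orderOf_eq_prime (p := 2) (by rw [hq, neg_one_sq]) ?_))
  rw [hq]
  intro h1
  refine hr2 ((Nat.prime_dvd_prime_iff_eq (Fact.out : r.Prime) Nat.prime_two).1 ?_)
  rw [← ZMod.natCast_eq_zero_iff, Nat.cast_ofNat]
  linear_combination -h1

/-- A model gives an element fixing no more than the model does. -/
theorem exists_elt_of_model_su (hF : Fintype.card F = q ^ 2) {V : Type u} [AddCommGroup V] [Module F V]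
    [FiniteDimensional F V] {B : V →ₗ[F] V →ₛₗ[H50.conjHom hF] F} {T : Module.End F V} (hM : Model B 1 T)
    (hdet : LinearMap.det T = 1) (hd : finrank F V = n) {r : ℕ} {z : F} (hT : T ^ r = z • 1)
    (hns : ∀ w : F, T ≠ w • 1) :
    ∃ x : Matrix.SpecialLinearGroup (Fin n) F, x ∈ Cfsg.SU n F q ∧
      (∃ z : F, ((x ^ r : Matrix.SpecialLinearGroup (Fin n) F) : Mat) = z • (1 : Mat)) ∧
      (∀ z : F, (x : Mat) ≠ z • (1 : Mat)) ∧
      ∀ W : Submodule F (Fin n → F), W.map (Matrix.toLin' (x : Mat)) ≤ W →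
        ∃ W' : Submodule F V, W'.map T ≤ W' ∧ finrank F W' = finrank F W ∧
          ((∀ u ∈ W, ∀ v ∈ W, Cfsg.hermForm n F q u v = 0) → TI B W') ∧
          ((∀ u ∈ W, u ≠ 0 → ∃ v ∈ W, Cfsg.hermForm n F q u v ≠ 0) → NdOn B W') := by
  obtain ⟨x, φ, hxS, hx, hφ⟩ := exists_su_elt hF hM hdet hd
  have hpow : ∀ k v, (Matrix.toLin' (x : Mat) ^ k) (φ v) = φ ((T ^ k) v) := by
    intro k
    induction k with
    | zero => intro v; rfl
    | succ k ih => intro v; rw [pow_succ', Module.End.mul_apply, ih, hx, pow_succ', Module.End.mul_apply]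
  refine ⟨x, hxS, ⟨z, ?_⟩, fun w hw => hns w ?_, fun W hW => ?_⟩
  · rw [Matrix.SpecialLinearGroup.coe_pow]
    apply Matrix.toLinAlgEquiv'.injective
    rw [map_pow, map_smul, map_one]
    refine LinearMap.ext fun v => ?_
    obtain ⟨v, rfl⟩ := φ.surjective v
    exact (hpow r v).trans (by rw [hT, LinearMap.smul_apply, map_smul]; rfl)
  · refine LinearMap.ext fun v => φ.injective ?_
    rw [← hx, hw, map_smul, LinearMap.smul_apply, Matrix.toLin'_one, LinearMap.id_apply, LinearMap.smul_apply,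
      map_smul, Module.End.one_apply]
  · refine ⟨W.comap φ.toLinearMap, map_le_iff.2 fun v hv => ?_, ?_, fun h u hu v hv => ?_, fun h u hu hall => ?_⟩
    · show φ (T v) ∈ W
      rw [← hx]; exact hW ⟨φ v, hv, rfl⟩
    · rw [Submodule.comap_equiv_eq_map_symm, LinearEquiv.finrank_map_eq]
    · rw [← hφ]; exact h _ hu _ hv
    · by_contra h0
      obtain ⟨w, hw, hne⟩ := h _ hu fun e => h0 (φ.map_eq_zero_iff.1 e)
      obtain ⟨w, rfl⟩ := φ.surjective w
      exact hne ((hφ _ _).trans (hall w hw))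

/-- An isometry of order `r` prime to `q + 1` has determinant one and is no scalar. -/
theorem det_one_and_not_scalar (hF : Fintype.card F = q ^ 2) {V : Type u} [AddCommGroup V] [Module F V]
    [FiniteDimensional F V] {B : V →ₗ[F] V →ₛₗ[H50.conjHom hF] F} {T : Module.End F V} (hM : Model B 1 T)
    {r : ℕ} [Fact r.Prime] (hs : Setting B 1 T r) (hr : ¬ r ∣ q + 1) (hmov : movS T ≠ ⊥) :
    LinearMap.det T = 1 ∧ ∀ w : F, T ≠ w • 1 := by
  have hcop := ((Fact.out : r.Prime).coprime_iff_not_dvd).2 hr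
  refine ⟨?_, fun w hw => hmov ((Submodule.eq_bot_iff _).2 fun v hv => ?_)⟩
  · have h1 : LinearMap.det T ^ r = 1 := by rw [← map_pow, hs.pow, map_one]
    have h := pow_gcd_eq_one.2 ⟨h1, det_norm_model hF hM⟩
    rwa [hcop.gcd_eq_one, pow_one] at h
  · by_contra hv0
    obtain ⟨u, hu⟩ : ∃ u, B v u ≠ 0 := by
      by_contra hh
      push Not at hh
      exact hv0 (hs.nd v trivial fun u _ => hh u)
    have h3 := hs.iso v u
    rw [hw] at h3
    simp only [LinearMap.smul_apply, Module.End.one_apply, map_smul, LinearMap.map_smulₛₗ, smul_eq_mul, ← mul_assoc,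
      H50.conjHom_apply] at h3
    have hw1 : w ^ (q + 1) = 1 := by rw [pow_succ]; exact (mul_left_eq_self₀.1 h3).resolve_right hu
    have hwr : w ^ r = 1 := by
      have h4 := LinearMap.congr_fun hs.pow v
      rw [hw, _root_.smul_pow, one_pow, LinearMap.smul_apply, Module.End.one_apply] at h4
      by_contra hne
      exact hv0 ((smul_eq_zero.1 (show (w ^ r - 1) • v = 0 by rw [sub_smul, one_smul, h4, sub_self])).resolve_left
        (sub_ne_zero.2 hne))
    have h := pow_gcd_eq_one.2 ⟨hwr, hw1⟩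
    rw [hcop.gcd_eq_one, pow_one] at h
    exact hv0 (hs.mov_eq_zero hv (by rw [hw, h, one_smul]; rfl))

end H44.Elu
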