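import Mathlib
import Cfsg.Agent.H44.Elu.SUCases
import Cfsg.Agent.H46.ElusiveField

/-!
Witnesses and special cases in the unitary groups.
-/

set_option autoImplicit false

open Polynomial Module

namespace H44.Elu

universe u

variable {F : Type u} [Field F] [Fintype F] {q n : ℕ}

local notation "Mat" => Matrix (Fin n) (Fin n) F

variable {p : ℕ} [Fact p.Prime] [CharP F p] {r : ℕ} [Fact r.Prime] {i b c : ℕ}

theorem b_pos (hF : Fintype.card F = q ^ 2) (hrp : r ≠ p) (hi : i = orderOf (q : ZMod r))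
    (hb : b = if Even i then i / 2 else i) : 0 < b := by
  have := i_pos hF hrp hi
  rw [hb]; split_ifs with he
  · obtain ⟨k, hk⟩ := he; omega
  · exact this

/-- An element moving `A` blocks. -/
theorem exists_dim_witness_su (hF : Fintype.card F = q ^ 2) (hrp : r ≠ p) (hr2 : r ≠ 2)
    (hi : i = orderOf (q : ZMod r)) (hb : b = if Even i then i / 2 else i) (hi2 : i ≠ 2) {A : ℕ} (hA : 0 < A)
    (hAn : A * (if i % 4 = 2 then b else 2 * b) ≤ n) :
    ∃ x : Matrix.SpecialLinearGroup (Fin n) F, x ∈ Cfsg.SU n F q ∧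
      (∃ z : F, ((x ^ r : Matrix.SpecialLinearGroup (Fin n) F) : Mat) = z • (1 : Mat)) ∧
      (∀ z : F, (x : Mat) ≠ z • (1 : Mat)) ∧
      ∀ W : Submodule F (Fin n → F), W.map (Matrix.toLin' (x : Mat)) ≤ W →
        ((∀ u ∈ W, ∀ v ∈ W, Cfsg.hermForm n F q u v = 0) →
          ∃ u k, 2 * u ≤ n - A * (if i % 4 = 2 then b else 2 * b) ∧ u + k * b = finrank F W) ∧
        ((∀ u ∈ W, u ≠ 0 → ∃ v ∈ W, Cfsg.hermForm n F q u v ≠ 0) →
          ∃ e k, e ≤ n - A * (if i % 4 = 2 then b else 2 * b) ∧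
            e + k * (if i % 4 = 2 then b else 2 * b) = finrank F W) := by
  have hrF := cast_ne_of_ne' (F := F) hrp
  have hbo := b_eq_order hF hi hb
  have hb0 := b_pos hF hrp hi hb
  obtain ⟨c, hc⟩ : ∃ c, c = if i % 4 = 2 then b else 2 * b := ⟨_, rfl⟩
  rw [← hc] at hAn ⊢
  obtain ⟨V₁, _, _, _, B₁, hM₁, hV₁⟩ := exists_herm_fix hF (n - A * c)
  have hσ2 : ∀ a : F, H50.conjHom hF (H50.conjHom hF a) = a := fun a => H50.pow_q_pow_q hF a
  obtain ⟨V, _, _, _, B, T, hM, hs, hfix, hmov⟩ : ∃ (V : Type u) (_ : AddCommGroup V) (_ : Module F V)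
      (_ : FiniteDimensional F V) (B : V →ₗ[F] V →ₛₗ[H50.conjHom hF] F) (T : Module.End F V),
      Model B 1 T ∧ Setting B 1 T r ∧ finrank F (fixS T) = n - A * c ∧ finrank F (movS T) = A * c := by
    by_cases h : i % 4 = 2 ∧ Odd A
    · obtain ⟨h2, hodd⟩ := h
      rw [if_pos h2] at hc
      subst hc
      have hQr : r ∣ q ^ (i / 2) + 1 := by
        rw [← ZMod.natCast_eq_zero_iff, Nat.cast_add, Nat.cast_pow, pow_b_eq_neg_one hF hrp hi h2, Nat.cast_one,
          neg_add_cancel]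
      have hbi : i / 2 = orderOf ((Fintype.card F : ℕ) : ZMod r) := by
        rw [← hbo, hb, if_pos (Nat.even_iff.2 (by omega))]
      obtain ⟨V, _, _, _, B, T, hM, hs, hfix, hmov, -⟩ := exists_self_witness hM₁ (Or.inl rfl) (Or.inl (conj_ne_id hF))
        hr2 hrF (p := p) (prime_pow_q hF _) hQr (fun a => frob_odd hF ⟨i / 4, by omega⟩ a)
        (by rw [← hbi, hF, ← pow_add, ← pow_mul, two_mul]) (A := A) (o := 1) le_rfl hA
        (by
          rw [one_mul]
          refine Nat.le_of_dvd (by have := (Fact.out : r.Prime).two_le; omega)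
            (orderOf_dvd_of_pow_eq_one (ZMod.pow_card_sub_one_eq_one ?_))
          rw [hF, Nat.cast_pow]; exact pow_ne_zero _ (q_cast_ne hF hrp))
        (by obtain ⟨k, hk⟩ := hodd; exact ⟨k, by omega⟩)
      exact ⟨V, _, _, inferInstance, B, T, hM, hs, hfix.trans hV₁, by rw [hmov, hbo]⟩
    · obtain ⟨V, _, _, _, B, T, hM, hs, hfix, hmov⟩ := exists_pair_witness (r := r) hM₁ hσ2 (by simp) hrF
        (p := p) (t := q) ⟨_, (pow_one q).symm.trans (prime_pow_q hF 1).choose_spec⟩ (fun a => rfl)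
        (if i % 4 = 2 then A / 2 else A)
      refine ⟨V, _, _, inferInstance, B, T, hM, hs, hfix.trans hV₁, ?_⟩
      rw [hmov, ← hbo, hc]
      split_ifs with h2
      · rw [← mul_assoc, Nat.two_mul_div_two_of_even (Nat.not_odd_iff_even.1 fun ho => h ⟨h2, ho⟩)]
      · rw [mul_left_comm]
  have hc0 : 0 < c := by rw [hc]; split_ifs <;> omega
  have hAc := Nat.mul_pos hA hc0
  have hr' := not_dvd_q_add_one (q := q) hr2 hi hi2
  obtain ⟨hdet, hns⟩ := det_one_and_not_scalar hF hM hs hr' fun h => by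
    rw [h, finrank_bot] at hmov; omega
  obtain ⟨x, hxS, hx1, hx2, hx3⟩ := exists_elt_of_model_su hF hM hdet (n := n)
    (by rw [← hs.finrank_add, hfix, hmov]; omega) (r := r) (z := 1) (by rw [hs.pow, one_smul]) hns
  have hsh := shape_mov_su hF hrp hr2 hi hb hs
  rw [← hc] at hsh
  refine ⟨x, hxS, hx1, hx2, fun W hW => ⟨fun h => ?_, fun h => ?_⟩⟩
  · obtain ⟨W', hW', hWd, hTI, -⟩ := hx3 W hW
    obtain ⟨u, k, hu, -, huk, -⟩ := hs.dims_TI hsh hW' (hTI h)
    exact ⟨u, k, hfix ▸ hu, huk.trans hWd⟩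
  · obtain ⟨W', hW', hWd, -, hnd⟩ := hx3 W hW
    obtain ⟨e, k, he, -, hek⟩ := hs.dims_nd hsh hW' (hnd h)
    exact ⟨e, k, hfix ▸ he, hek.trans hWd⟩

/-- An element with `o` classes of odd multiplicity. -/
theorem exists_mult_witness_su (hF : Fintype.card F = q ^ 2) (hrp : r ≠ p) (hr2 : r ≠ 2)
    (hi : i = orderOf (q : ZMod r)) (hb : b = if Even i then i / 2 else i) (h2 : i % 4 = 2) (hi2 : i ≠ 2)
    {A o : ℕ} (ho : 1 ≤ o) (hoA : o ≤ A) (hos : o * b ≤ r - 1) (hev : Even (A - o)) (hAn : A * b ≤ n) :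
    ∃ x : Matrix.SpecialLinearGroup (Fin n) F, x ∈ Cfsg.SU n F q ∧
      (∃ z : F, ((x ^ r : Matrix.SpecialLinearGroup (Fin n) F) : Mat) = z • (1 : Mat)) ∧
      (∀ z : F, (x : Mat) ≠ z • (1 : Mat)) ∧
      ∀ W : Submodule F (Fin n → F), W.map (Matrix.toLin' (x : Mat)) ≤ W →
        (∀ u ∈ W, ∀ v ∈ W, Cfsg.hermForm n F q u v = 0) → 2 * finrank F W + o * b ≤ n := by
  have hbo := b_eq_order hF hi hb
  have hb0 := b_pos hF hrp hi hb
  have hQr : r ∣ q ^ (i / 2) + 1 := by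
    rw [← ZMod.natCast_eq_zero_iff, Nat.cast_add, Nat.cast_pow, pow_b_eq_neg_one hF hrp hi h2, Nat.cast_one,
      neg_add_cancel]
  have hbi : i / 2 = orderOf ((Fintype.card F : ℕ) : ZMod r) := by
    rw [← hbo, hb, if_pos (Nat.even_iff.2 (by omega))]
  obtain ⟨V₁, _, _, _, B₁, hM₁, hV₁⟩ := exists_herm_fix hF (n - A * b)
  obtain ⟨V, _, _, _, B, T, hM, hs, hfix, hmov, hbound⟩ := exists_self_witness hM₁ (Or.inl rfl)
    (Or.inl (conj_ne_id hF)) hr2 (cast_ne_of_ne' (F := F) hrp) (p := p) (prime_pow_q hF _) hQr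
    (fun a => frob_odd hF ⟨i / 4, by omega⟩ a) (by rw [← hbi, hF, ← pow_add, ← pow_mul, two_mul]) ho hoA
    (hbo ▸ hos) hev
  rw [← hbo] at hmov hbound
  obtain ⟨hdet, hns⟩ := det_one_and_not_scalar hF hM hs (not_dvd_q_add_one (q := q) hr2 hi hi2) fun h => by
    rw [h, finrank_bot] at hmov
    have := Nat.mul_pos (show 0 < A by omega) hb0
    omega
  obtain ⟨x, hxS, hx1, hx2, hx3⟩ := exists_elt_of_model_su hF hM hdet (n := n)
    (by rw [← hs.finrank_add, hfix, hV₁, hmov]; omega) (r := r) (z := 1) (by rw [hs.pow, one_smul]) hns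
  refine ⟨x, hxS, hx1, hx2, fun W hW hWT => ?_⟩
  obtain ⟨W', hW', hWd, hTI, -⟩ := hx3 W hW
  obtain ⟨u, k, hu, -, huk, U, hU, hUi, hUT, hUd⟩ := hs.dims_TI (shape_mov_su hF hrp hr2 hi hb hs) hW' (hTI hWT)
  have := hbound U hU hUi hUT
  rw [hfix, hV₁] at hu
  rw [hmov] at this
  omega

omit [Fact p.Prime] in
theorem det_diagT {A : ℕ} (α : Fin A → F) : LinearMap.det (diagT F α) = ∏ j, α j := by
  have h : diagT F α = Matrix.toLin' (Matrix.diagonal α) :=
    LinearMap.ext fun v => funext fun j => by rw [Matrix.toLin'_apply, Matrix.mulVec_diagonal]; rfl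
  rw [h, LinearMap.det_toLin', Matrix.det_diagonal]

omit [Fact p.Prime] in
/-- Diagonal elements: eigenvalues of odd multiplicity bound the totally isotropic invariant subspaces. -/
theorem exists_diag_witness [DecidableEq F] (hF : Fintype.card F = q ^ 2) (hrF : (r : F) ≠ 0) (hrq : r ∣ Fintype.card F - 1) {z : F}
    (hz : z ≠ 0) (α : Fin n → F) (h1 : ∀ j, α j ^ r = z) (h2 : ∀ j, α j ^ (q + 1) = 1) (h3 : ∏ j, α j = 1)
    {j₁ j₂ : Fin n} (h4 : α j₁ ≠ α j₂) (S : Finset F) (hS : ∀ a ∈ S, Odd (Finset.univ.filter fun j => α j = a).card) :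
    ∃ x : Matrix.SpecialLinearGroup (Fin n) F, x ∈ Cfsg.SU n F q ∧
      (∃ z : F, ((x ^ r : Matrix.SpecialLinearGroup (Fin n) F) : Mat) = z • (1 : Mat)) ∧
      (∀ z : F, (x : Mat) ≠ z • (1 : Mat)) ∧
      ∀ W : Submodule F (Fin n → F), W.map (Matrix.toLin' (x : Mat)) ≤ W →
        (∀ u ∈ W, ∀ v ∈ W, Cfsg.hermForm n F q u v = 0) → 2 * finrank F W + S.card ≤ n := by
  classical
  obtain ⟨p, f, hp, -, hcp, hqp⟩ := H50.exists_prime_pow hF
  haveI := hcp
  have hM := model_self (F := F) (K := F) (A := n) (σ := H50.conjHom hF) (fun a => H50.pow_q_pow_q hF a)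
    (H50.conjHom hF) (fun _ => rfl) (fun a => H50.pow_q_pow_q hF a) (ε := (1 : F)) (δ := 1) one_ne_zero (by simp)
    (by simp) (conj_ne_id hF) (α := α) fun j => by rw [H50.conjHom_apply, ← pow_succ', h2]
  have hT : diagT F α ^ r = z • 1 := LinearMap.ext fun v => funext fun j => by rw [diagT_pow, h1]; rfl
  obtain ⟨x, hxS, hx1, hx2, hx3⟩ := exists_elt_of_model_su hF hM ((det_diagT α).trans h3) (n := n)
    (finrank_fin_fun F) hT fun w hw => h4 (by
      have e : ∀ j, α j = w := fun j => by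
        have := congrFun (LinearMap.congr_fun hw (Pi.single j 1)) j
        simpa [diagT] using this
      rw [e, e])
  refine ⟨x, hxS, hx1, hx2, fun W hW hWT => ?_⟩
  obtain ⟨W', hW', hWd, hTI, -⟩ := hx3 W hW
  have hg := H46.Elusive.aeval_X_pow_sub hT
  have hss : (diagT F α).IsSemisimple := Module.End.isSemisimple_of_squarefree_aeval_eq_zero
    (H46.Elusive.squarefree_X_pow_sub hrF hz) hg
  have hP : Part _ (diagT F α) ⊤ 1 (X ^ r - C z : F[X]) :=
    ⟨le_top, hM.nd, X_pow_sub_C_ne_zero (Fact.out : r.Prime).pos _, fun v _ => by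
      rw [LinearMap.mem_ker, hg, LinearMap.zero_apply], fun P hP hd => by
      -- the roots lie in the field
      obtain ⟨a, ha⟩ : ∃ a : F, a ^ r = z := ⟨α j₁, h1 _⟩
      have ha0 : a ≠ 0 := fun h => hz (by rw [← ha, h, zero_pow (Fact.out : r.Prime).ne_zero])
      have hsplit : (X ^ r - C z : F[X]).Splits := by
        obtain ⟨ζ, hζ⟩ : ∃ ζ : F, IsPrimitiveRoot ζ r := by
          obtain ⟨g, hg'⟩ := exists_prime_orderOf_dvd_card' (G := Fˣ) r
            (by rwa [Nat.card_units, Nat.card_eq_fintype_card])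
          exact ⟨g, IsPrimitiveRoot.coe_units_iff.2 (hg' ▸ IsPrimitiveRoot.orderOf g)⟩
        exact X_pow_sub_C_splits_of_isPrimitiveRoot hζ ha
      exact Nat.le_of_eq ((hsplit.of_dvd (X_pow_sub_C_ne_zero (Fact.out : r.Prime).pos _) hd).natDegree_eq_one_of_irreducible hP),
      fun _ _ _ => one_dvd _⟩
  haveI := Fact.mk hp
  have hS' : SelfPOn (H50.conjHom hF) (diagT F α) p q ⊤ :=
    ⟨hcp, hp, ⟨f, hqp⟩, fun v _ => funext fun j => by rw [diagT_pow, h2, one_mul], fun a => rfl⟩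
  have hinj : Function.Injective (diagT F α) := hM.iso.injective hM.nd
  have hPinj : Function.Injective fun a : F => (X - C a : F[X]) := fun a a' h => by
    simpa using congrArg (fun P : F[X] => P.eval 0) h
  have h := two_mul_add_le hM.herm hM.iso hinj hss (S.image fun a => (X - C a : F[X])) ⊤ hP hS' (fun P hP' => ?_)
    W' le_top hW' (hTI hWT)
  · rw [Finset.card_image_of_injective _ hPinj, mul_one, finrank_top, finrank_fin_fun, hWd] at h
    exact h
  obtain ⟨a, ha, rfl⟩ := Finset.mem_image.1 hP'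
  refine ⟨irreducible_X_sub_C a, monic_X_sub_C a, _, hS a ha, ?_⟩
  rw [top_inf_eq, finrank_ker_diagT, Module.finrank_self, mul_one, mul_one, Fintype.card_subtype]
  exact congrArg Finset.card (Finset.filter_congr fun j _ => by
    simp [sub_eq_zero])

theorem dvd_pow_add_one' {r q : ℕ} [Fact r.Prime] (hr2 : r ≠ 2) (hrq : r ∣ q + 1) : (q + 1) * r ∣ q ^ r + 1 := by
  have hodd := (Fact.out : r.Prime).odd_of_ne_two hr2
  have hm : ((q : ℤ) + 1) * r ∣ (q : ℤ) ^ r + 1 := by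
    have h1 : (q : ℤ) ^ r + 1 = ((q : ℤ) + 1) * ∑ j ∈ Finset.range r, (-(q : ℤ)) ^ j := by
      have := geom_sum_mul (-(q : ℤ)) r
      rw [hodd.neg_pow] at this
      linarith
    rw [h1]
    refine mul_dvd_mul_left _ ?_
    have hq1 : (q : ZMod r) = -1 := by
      refine eq_neg_of_add_eq_zero_left ?_
      rw [← Nat.cast_one, ← Nat.cast_add, ZMod.natCast_eq_zero_iff]; exact hrq
    rw [← ZMod.intCast_zmod_eq_zero_iff_dvd]
    push_cast
    simp [hq1]
  exact_mod_cast hm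

/-- With a nonpower scalar all dimensions are multiples of `r` and the invariant subspaces are self-paired. -/
theorem shape_nonpower (hF : Fintype.card F = q ^ 2) (hrF : (r : F) ≠ 0) (hr2 : r ≠ 2) (hrq : r ∣ q + 1)
    {z : F} (hz : ∀ a : F, a ^ r ≠ z) (hz1 : z ^ (q + 1) = 1) {V : Type u} [AddCommGroup V] [Module F V]
    [FiniteDimensional F V] {B : V →ₗ[F] V →ₛₗ[H50.conjHom hF] F} {T : Module.End F V}
    (hB : Herm B 1) (hn : NdOn B (⊤ : Submodule F V)) (hI : Iso B T) (hT : T ^ r = z • 1) :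
    Shape B T ⊤ r r r := by
  obtain ⟨p, f, hp, -, hcp, hqp⟩ := H50.exists_prime_pow hF
  haveI := hcp
  haveI := Fact.mk hp
  have hz0 : z ≠ 0 := fun h => by rw [h, zero_pow (by omega)] at hz1; exact zero_ne_one hz1
  have hg := H46.Elusive.aeval_X_pow_sub hT
  have hss : T.IsSemisimple := Module.End.isSemisimple_of_squarefree_aeval_eq_zero
    (H46.Elusive.squarefree_X_pow_sub hrF hz0) hg
  have hr : r.Prime := Fact.out
  have hP : Part B T ⊤ r (X ^ r - C z : F[X]) :=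
    ⟨le_top, hn, X_pow_sub_C_ne_zero hr.pos _, fun v _ => by rw [LinearMap.mem_ker, hg, LinearMap.zero_apply],
      fun P _ hd => (natDegree_le_of_dvd hd (X_pow_sub_C_ne_zero hr.pos _)).trans natDegree_X_pow_sub_C.le,
      fun N _ hN => H46.Elusive.prime_dvd_dim hz hT N hN⟩
  obtain ⟨t, ht⟩ := dvd_pow_add_one' hr2 hrq
  have h := hP.shape_self hB hI (hI.injective hn) hss (p := p) (Q1 := q ^ r)
    ⟨hcp, hp, ⟨f * r, by rw [hqp, pow_mul]⟩, fun v _ => by
      rw [ht, mul_right_comm, mul_comm ((q + 1) * t) r, pow_mul, hT, _root_.smul_pow, one_pow, pow_mul, hz1, one_pow,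
        one_smul]
      rfl, fun a => frob_odd hF (hr.odd_of_ne_two hr2) a⟩ (Or.inl (conj_ne_id hF)) hr.pos
  rwa [natDegree_X_pow_sub_C] at h

omit [Fact p.Prime] in
/-- An element with nonpower scalar. -/
theorem exists_nonpower_witness (hF : Fintype.card F = q ^ 2) (hrF : (r : F) ≠ 0) (hr2 : r ≠ 2) (hrq : r ∣ q + 1)
    {A : ℕ} (hA : r * A = n) (hA0 : 0 < A) (hv : r ^ padicValNat r (q + 1) ∣ A) :
    ∃ x : Matrix.SpecialLinearGroup (Fin n) F, x ∈ Cfsg.SU n F q ∧
      (∃ z : F, ((x ^ r : Matrix.SpecialLinearGroup (Fin n) F) : Mat) = z • (1 : Mat)) ∧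
      (∀ z : F, (x : Mat) ≠ z • (1 : Mat)) ∧
      ∀ W : Submodule F (Fin n → F), W.map (Matrix.toLin' (x : Mat)) ≤ W → r ∣ finrank F W := by
  classical
  obtain ⟨p, f, hp, -, hcp, hqp⟩ := H50.exists_prime_pow hF
  haveI := hcp
  haveI := Fact.mk hp
  have hr : r.Prime := Fact.out
  have hq1 : 1 ≤ q := (H50.two_le hF).trans' (by norm_num)
  have hcard : Fintype.card F - 1 = (q + 1) * (q - 1) := by rw [hF, ← Nat.sq_sub_sq, one_pow]
  have hrc : r ∣ Fintype.card F - 1 := hcard ▸ dvd_mul_of_dvd_left hrq _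
  have hnd : ¬ r ∣ q - 1 := fun h => by
    have h2 := Nat.dvd_sub hrq h
    rw [show q + 1 - (q - 1) = 2 by omega] at h2
    exact hr2 ((Nat.prime_dvd_prime_iff_eq hr Nat.prime_two).1 h2)
  have hvv : padicValNat r (Fintype.card F - 1) = padicValNat r (q + 1) := by
    have h0 : q - 1 ≠ 0 := by have := H50.two_le hF; omega
    rw [hcard, padicValNat.mul (by omega) h0, padicValNat.eq_zero_of_not_dvd hnd, add_zero]
  obtain ⟨z, hz, hzv⟩ := H46.Elusive.exists_nonpower (F := F) hrc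
  rw [hvv] at hzv
  have hz1 : z ^ (q + 1) = 1 := by
    obtain ⟨k, hk⟩ := pow_padicValNat_dvd (p := r) (n := q + 1)
    rw [hk, pow_mul, hzv, one_pow]
  have hzA : z ^ A = 1 := by
    obtain ⟨k, hk⟩ := hv
    rw [hk, pow_mul, hzv, one_pow]
  haveI : Fact (Irreducible (X ^ r - C z : F[X])) := ⟨X_pow_sub_C_irreducible_of_prime hr hz⟩
  have hne := X_pow_sub_C_ne_zero (R := F) hr.pos z
  haveI : Module.Finite F (AdjoinRoot (X ^ r - C z : F[X])) := (AdjoinRoot.powerBasis hne).finite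
  haveI : Finite (AdjoinRoot (X ^ r - C z : F[X])) := Module.finite_of_finite F
  haveI : Fintype (AdjoinRoot (X ^ r - C z : F[X])) := Fintype.ofFinite _
  haveI : CharP (AdjoinRoot (X ^ r - C z : F[X])) p :=
    charP_of_injective_algebraMap (algebraMap F _).injective p
  have hKd : finrank F (AdjoinRoot (X ^ r - C z : F[X])) = r := by
    rw [(AdjoinRoot.powerBasis hne).finrank, AdjoinRoot.powerBasis_dim, natDegree_X_pow_sub_C]
  set ξ : AdjoinRoot (X ^ r - C z : F[X]) := AdjoinRoot.root _ with hξ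
  have hξr : ξ ^ r = algebraMap F _ z := by
    have h := AdjoinRoot.eval₂_root (X ^ r - C z : F[X])
    rwa [eval₂_sub, eval₂_X_pow, eval₂_C, sub_eq_zero] at h
  let bar : AdjoinRoot (X ^ r - C z : F[X]) →+* AdjoinRoot (X ^ r - C z : F[X]) := iterateFrobenius _ p (f * r)
  have hbar0 : ∀ x, bar x = x ^ (q ^ r) := fun x => by rw [hqp, ← pow_mul]; rfl
  have hbar : ∀ a, bar (algebraMap F _ a) = algebraMap F _ (H50.conjHom hF a) := fun a => by
    rw [hbar0, ← map_pow, frob_odd hF (hr.odd_of_ne_two hr2) a]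
  have hbb : ∀ x, bar (bar x) = x := fun x => by
    rw [hbar0, hbar0, ← pow_mul, show q ^ r * q ^ r = Fintype.card F ^ r by rw [hF, ← pow_add, ← pow_mul, two_mul]]
    conv_lhs => rw [show Fintype.card F ^ r = Fintype.card (AdjoinRoot (X ^ r - C z : F[X])) by
      rw [Module.card_eq_pow_finrank (K := F) (V := AdjoinRoot (X ^ r - C z : F[X])), hKd]]
    exact FiniteField.pow_card x
  have hξbar : ξ * bar ξ = 1 := by
    obtain ⟨t, ht⟩ := dvd_pow_add_one' hr2 hrq
    rw [hbar0, ← pow_succ', ht, mul_right_comm, mul_comm ((q + 1) * t) r, pow_mul, hξr, ← map_pow, pow_mul, hz1,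
      one_pow, map_one]
  have hM := model_self (F := F) (σ := H50.conjHom hF) (A := A) (fun a => H50.pow_q_pow_q hF a) bar hbar hbb
    (ε := (1 : F)) (δ := 1) one_ne_zero (by simp) (by simp) (fun h => conj_ne_id hF (RingHom.ext fun a =>
      (algebraMap F (AdjoinRoot (X ^ r - C z : F[X]))).injective (by rw [← hbar, h]; rfl)))
    (α := fun _ => ξ) fun _ => hξbar
  have hT : diagT F (fun _ : Fin A => ξ) ^ r = z • 1 := LinearMap.ext fun v => funext fun j => by
    rw [diagT_pow, hξr, ← Algebra.smul_def]; rfl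
  obtain ⟨k, hk, hdet⟩ := H46.Elusive.det_of_nonpower hz hT
  rw [finrank_fun, hKd, mul_comm A r] at hk
  obtain rfl : A = k := Nat.eq_of_mul_eq_mul_left hr.pos hk
  have hr1 : ((-1 : F) ^ (r + 1) * z) = z := by
    rw [(hr.odd_of_ne_two hr2).add_one.neg_one_pow, one_mul]
  obtain ⟨x, hxS, hx1, hx2, hx3⟩ := exists_elt_of_model_su hF hM (by rw [hdet, hr1, hzA]) (n := n)
    (by rw [finrank_fun, hKd, mul_comm]; exact hA) hT fun w hw => by
      have h5 := hT
      rw [hw, _root_.smul_pow, one_pow] at h5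
      have h6 := congrFun (LinearMap.congr_fun h5 (Pi.single ⟨0, hA0⟩ 1)) ⟨0, hA0⟩
      simp only [LinearMap.smul_apply, Module.End.one_apply, Pi.smul_apply, Pi.single_eq_same] at h6
      exact hz w ((algebraMap F (AdjoinRoot (X ^ r - C z : F[X]))).injective
        (by simpa [Algebra.smul_def] using h6))
  refine ⟨x, hxS, hx1, hx2, fun W hW => ?_⟩
  obtain ⟨W', hW', hWd, -, -⟩ := hx3 W hW
  exact hWd ▸ H46.Elusive.prime_dvd_dim hz hT W' hW'

end H44.Elu
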