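import Mathlib
import Cfsg.Agent.H44.Elu.SUWitness

/-!
Elements of order two of the unitary groups, and exponents with prescribed parity of multiplicities.
-/

set_option autoImplicit false

open Polynomial Module

namespace H44.Elu

universe u

variable {F : Type u} [Field F] [Fintype F] {q : ℕ}

theorem odd_q (hF : Fintype.card F = q ^ 2) (h2 : (2 : F) ≠ 0) : Odd q := by
  obtain ⟨p, f, hp, hf, hc, rfl⟩ := H50.exists_prime_pow hF
  refine Odd.pow (hp.odd_of_ne_two fun h => h2 ?_)
  subst h
  exact_mod_cast CharP.cast_eq_zero F 2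

/-- Scalars of norm one are squares in the field. -/
theorem exists_sqrt (hF : Fintype.card F = q ^ 2) (h2 : (2 : F) ≠ 0) {z : F} (hz : z ^ (q + 1) = 1) :
    ∃ a : F, a ^ 2 = z := by
  have hz0 : z ≠ 0 := fun h => by rw [h, zero_pow (by omega)] at hz; exact zero_ne_one hz
  have hchar : ringChar F ≠ 2 := fun h => h2 (by
    have := ringChar.Nat.cast_ringChar (R := F)
    rw [h] at this; exact_mod_cast this)
  obtain ⟨a, ha⟩ := (FiniteField.isSquare_iff hchar hz0).2 (by
    obtain ⟨k, hk⟩ := odd_q hF h2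
    rw [hF, show q ^ 2 / 2 = (q + 1) * k by
      subst hk
      rw [show (2 * k + 1) ^ 2 = 1 + 2 * ((2 * k + 1 + 1) * k) by ring, Nat.add_mul_div_left _ _ two_pos]
      simp]
    rw [pow_mul, hz, one_pow])
  exact ⟨a, by rw [ha, pow_two]⟩

/-- The shapes of an involution. -/
theorem shapes_invol_su (hF : Fintype.card F = q ^ 2) (h2 : (2 : F) ≠ 0) {V : Type u} [AddCommGroup V] [Module F V]
    [FiniteDimensional F V] {B : V →ₗ[F] V →ₛₗ[H50.conjHom hF] F} {T : Module.End F V} (hs : Setting B 1 T 2) :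
    Shape B T (fixS T) 1 1 1 ∧ Shape B T (movS T) 1 1 1 := by
  obtain ⟨p, f, hp, -, hcp, hqp⟩ := H50.exists_prime_pow hF
  haveI := hcp
  haveI := Fact.mk hp
  haveI := Fact.mk Nat.prime_two
  refine ⟨shape_fix_herm hs (conj_ne_id hF) (p := p) ⟨f, hqp⟩ fun a => rfl, ?_⟩
  have hb : orderOf ((Fintype.card F : ℕ) : ZMod 2) = 1 := by
    obtain ⟨k, hk⟩ := (odd_q hF h2).pow (n := 2)
    rw [orderOf_eq_one_iff, hF, ← Nat.cast_one, ZMod.natCast_eq_natCast_iff']
    omega
  have h := (part_mov hs).shape_self hs.herm hs.iso hs.inj hs.ss (p := p) (Q1 := q)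
    ⟨hcp, hp, ⟨f, hqp⟩, fun v _ => by
      obtain ⟨k, hk⟩ := odd_q hF h2
      rw [show q + 1 = 2 * (k + 1) by omega, pow_mul, hs.pow, one_pow]; rfl, fun a => rfl⟩
    (Or.inl (conj_ne_id hF)) (by omega)
  rwa [hb, natDegree_cyclotomic, Nat.totient_prime Nat.prime_two] at h

/-- The determinant of an involution. -/
theorem det_invol {V : Type u} [AddCommGroup V] [Module F V] [FiniteDimensional F V] {σ : F →+* F}
    {B : V →ₗ[F] V →ₛₗ[σ] F} {ε : F} {T : Module.End F V} (hs : Setting B ε T 2) :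
    LinearMap.det T = (-1) ^ finrank F (movS T) := by
  have hc : IsCompl (fixS T) (movS T) :=
    ⟨disjoint_iff.2 hs.fix_inf_mov, codisjoint_iff.2 hs.fix_sup_mov⟩
  let e := Submodule.prodEquivOfIsCompl (fixS T) (movS T) hc
  have hmov : ∀ v ∈ movS T, T v = -v := by
    rintro _ ⟨u, rfl⟩
    have h := LinearMap.congr_fun hs.pow u
    rw [pow_two, Module.End.mul_apply, Module.End.one_apply] at h
    simp [h]
  have hT : e.toLinearMap ∘ₗ ((LinearMap.id : Module.End F (fixS T)).prodMap (-LinearMap.id : Module.End F (movS T))) ∘ₗ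
      e.symm.toLinearMap = T := by
    refine LinearMap.ext fun v => ?_
    obtain ⟨⟨a, b⟩, rfl⟩ := e.surjective v
    rw [LinearMap.comp_apply, LinearMap.comp_apply, LinearEquiv.coe_coe, LinearEquiv.coe_coe, e.symm_apply_apply]
    show (a : V) + ((-b : movS T) : V) = T ((a : V) + (b : V))
    rw [map_add, mem_fixS.1 a.2, hmov _ b.2]
    rfl
  conv_lhs => rw [← hT]
  rw [LinearMap.det_conj, LinearMap.det_prodMap, LinearMap.det_id, one_mul]
  rw [show (-LinearMap.id : Module.End F (movS T)) = (-1 : F) • LinearMap.id from (neg_one_smul F _).symm,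
    LinearMap.det_smul, LinearMap.det_id, mul_one]

/-- The shape of an element whose square is a scalar without norm one root. -/
theorem shape_neg_su (hF : Fintype.card F = q ^ 2) (h2 : (2 : F) ≠ 0) {V : Type u} [AddCommGroup V] [Module F V]
    [FiniteDimensional F V] {B : V →ₗ[F] V →ₛₗ[H50.conjHom hF] F} {T : Module.End F V} (hB : Herm B 1)
    (hn : NdOn B (⊤ : Submodule F V)) (hI : Iso B T) {z a : F} (hT : T ^ 2 = z • 1) (ha : a ^ 2 = z)
    (ha1 : a ^ (q + 1) = -1) : Shape B T ⊤ 1 2 0 := by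
  have ha0 : a ≠ 0 := fun h => by
    rw [h, zero_pow (by omega)] at ha1
    exact neg_ne_zero.2 one_ne_zero ha1.symm
  have hz0 : z ≠ 0 := ha ▸ pow_ne_zero 2 ha0
  have hg := H46.Elusive.aeval_X_pow_sub hT
  have hss : T.IsSemisimple := Module.End.isSemisimple_of_squarefree_aeval_eq_zero
    (H46.Elusive.squarefree_X_pow_sub (by exact_mod_cast h2) hz0) hg
  have hg0 : (X ^ 2 - C z : F[X]) ≠ 0 := X_pow_sub_C_ne_zero two_pos _
  have hfac : (X ^ 2 - C z : F[X]) = (X - C a) * (X - C (-a)) := by
    rw [← ha, map_pow, map_neg]; ring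
  refine Part.shape_pair (g := X ^ 2 - C z) ⟨le_top, hn, hg0, fun v _ => by
      rw [LinearMap.mem_ker, hg, LinearMap.zero_apply], fun P hP hd => ?_, fun _ _ _ => one_dvd _⟩
    hB hI (hI.injective hn) hss fun N _ hN hNd hNn => ?_
  · rw [hfac] at hd
    rcases hP.prime.dvd_or_dvd hd with h | h <;>
      exact (natDegree_le_of_dvd h (X_sub_C_ne_zero _)).trans (natDegree_X_sub_C _).le
  obtain ⟨v, hv, hv0⟩ := finrank_eq_one_iff'.1 hNd
  refine hv (Subtype.ext (hNn v v.2 fun w hw => ?_))
  obtain ⟨l, hl⟩ := hv0 ⟨T (v : V), hN ⟨_, v.2, rfl⟩⟩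
  have hl' : T (v : V) = l • (v : V) := (congrArg Subtype.val hl).symm
  have hlz : l ^ 2 = z := by
    have h := LinearMap.congr_fun hT (v : V)
    rw [pow_two, Module.End.mul_apply, hl', map_smul, hl', smul_smul, LinearMap.smul_apply, Module.End.one_apply] at h
    rw [pow_two]
    by_contra hne
    exact hv (Subtype.ext ((smul_eq_zero.1 (show (l * l - z) • (v : V) = 0 by rw [sub_smul, h, sub_self])).resolve_left
      (sub_ne_zero.2 hne)))
  have hl1 : l ^ (q + 1) = -1 := by
    rcases (sq_eq_sq_iff_eq_or_eq_neg.1 (hlz.trans ha.symm)) with rfl | rfl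
    · exact ha1
    · obtain ⟨k, hk⟩ := odd_q hF h2
      rw [neg_pow, ha1, show q + 1 = 2 * (k + 1) by omega, pow_mul, neg_one_sq, one_pow, one_mul]
  have h := hI (v : V) (v : V)
  rw [hl'] at h
  simp only [map_smul, LinearMap.smul_apply, LinearMap.map_smulₛₗ, smul_eq_mul, H50.conjHom_apply, ← mul_assoc] at h
  rw [← pow_succ, hl1] at h
  have hvv : B (v : V) (v : V) = 0 := by
    have : (2 : F) * B (v : V) (v : V) = 0 := by linear_combination -h
    exact (mul_eq_zero.1 this).resolve_left h2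
  obtain ⟨e, he⟩ := hv0 ⟨w, hw⟩
  rw [show w = e • (v : V) from (congrArg Subtype.val he).symm, LinearMap.map_smulₛₗ, hvv, smul_zero]

/-- Exponents summing to zero with `o` residues of odd multiplicity. -/
theorem exists_exps {r : ℕ} [Fact r.Prime] (hr2 : r ≠ 2) {n o : ℕ} (ho : o ≤ n) (hor : o ≤ r) (he : Even (n - o))
    (ho2 : 2 ≤ o) : ∃ e : Fin n → ZMod r, ∑ j, e j = 0 ∧ (∃ j₁ j₂, e j₁ ≠ e j₂) ∧
      ∃ S : Finset (ZMod r), S.card = o ∧ ∀ a ∈ S, Odd (Finset.univ.filter fun j => e j = a).card := by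
  classical
  have hr : r.Prime := Fact.out
  obtain ⟨t, ht⟩ : ∃ t : ZMod r, ∑ j : Fin o, (((j : ℕ) : ZMod r) + t) = 0 := by
    rcases hor.lt_or_eq with h | h
    · refine ⟨-(∑ j : Fin o, ((j : ℕ) : ZMod r)) / (o : ZMod r), ?_⟩
      have ho0 : (o : ZMod r) ≠ 0 := by
        rw [Ne, ZMod.natCast_eq_zero_iff]
        exact fun hd => absurd (Nat.le_of_dvd (by omega) hd) (by omega)
      rw [Finset.sum_add_distrib, Finset.sum_const, Finset.card_univ, Fintype.card_fin, nsmul_eq_mul,
        mul_div_cancel₀ _ ho0, add_neg_cancel]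
    · subst h
      refine ⟨0, ?_⟩
      simp only [add_zero]
      rw [← Nat.cast_sum, Fin.sum_univ_eq_sum_range (fun j => j), ZMod.natCast_eq_zero_iff]
      refine ((Nat.coprime_primes hr Nat.prime_two).2 hr2).dvd_of_dvd_mul_right ?_
      rw [Finset.sum_range_id_mul_two]
      exact dvd_mul_right _ _
  let g : Fin o → ZMod r := fun j => ((j : ℕ) : ZMod r) + t
  have hg : Function.Injective g := fun a b h => Fin.ext (by
    have h' := add_right_cancel h
    rw [ZMod.natCast_eq_natCast_iff', Nat.mod_eq_of_lt (a.2.trans_le hor), Nat.mod_eq_of_lt (b.2.trans_le hor)] at h'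
    exact h')
  let e : Fin n → ZMod r := fun j => if h : (j : ℕ) < o then g ⟨j, h⟩ else 0
  refine ⟨e, ?_, ⟨Fin.castLE ho ⟨0, by omega⟩, Fin.castLE ho ⟨1, by omega⟩, fun h => ?_⟩,
    Finset.univ.image g, by rw [Finset.card_image_of_injective _ hg, Finset.card_univ, Fintype.card_fin], ?_⟩
  · have h1 : ∑ j, e j = ∑ j : Fin o, g j := by
      rw [← Finset.sum_subset (Finset.subset_univ (Finset.univ.map (Fin.castLEEmb ho))) (fun j _ hj =>
        dif_neg fun h => hj (Finset.mem_map.2 ⟨⟨j, h⟩, Finset.mem_univ _, rfl⟩)), Finset.sum_map]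
      exact Finset.sum_congr rfl fun j _ => dif_pos j.2
    rw [h1]; exact ht
  · simp only [e, Fin.val_castLE] at h
    rw [dif_pos (show 0 < o by omega), dif_pos (show 1 < o by omega)] at h
    exact absurd (congrArg Fin.val (hg h)) (by norm_num)
  · intro a ha
    obtain ⟨j, -, rfl⟩ := Finset.mem_image.1 ha
    have hlo : ((Finset.univ.filter fun i => e i = g j).filter fun i : Fin n => (i : ℕ) < o) = {Fin.castLE ho j} := by
      ext i
      simp only [Finset.mem_filter, Finset.mem_univ, true_and, Finset.mem_singleton, e]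
      refine ⟨fun ⟨h, hi⟩ => ?_, fun h => ?_⟩
      · rw [dif_pos hi] at h
        exact Fin.ext (congrArg Fin.val (hg h) : _)
      · subst h
        exact ⟨dif_pos j.2, j.2⟩
    have h3 := Finset.card_filter_add_card_filter_not (s := Finset.univ.filter fun i => e i = g j)
      (fun i : Fin n => (i : ℕ) < o)
    rw [hlo, Finset.card_singleton] at h3
    have hhi : ((Finset.univ.filter fun i => e i = g j).filter fun i : Fin n => ¬ (i : ℕ) < o).card =
        if g j = 0 then n - o else 0 := by
      split_ifs with h0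
      · rw [show ((Finset.univ.filter fun i => e i = g j).filter fun i : Fin n => ¬ (i : ℕ) < o) =
            Finset.univ.filter fun i : Fin n => ¬ (i : ℕ) < o by
          ext i
          simp only [Finset.mem_filter, Finset.mem_univ, true_and, e]
          exact ⟨fun h => h.2, fun h => ⟨by rw [dif_neg h, h0], h⟩⟩]
        have h4 := Finset.card_filter_add_card_filter_not (s := (Finset.univ : Finset (Fin n)))
          (fun i : Fin n => (i : ℕ) < o)
        rw [show (Finset.univ.filter fun i : Fin n => (i : ℕ) < o) = Finset.univ.map (Fin.castLEEmb ho) by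
          ext i
          simp only [Finset.mem_filter, Finset.mem_univ, true_and, Finset.mem_map]
          exact ⟨fun h => ⟨⟨i, h⟩, rfl⟩, fun ⟨k, hk⟩ => hk ▸ k.2⟩,
          Finset.card_map, Finset.card_univ, Finset.card_univ, Fintype.card_fin, Fintype.card_fin] at h4
        omega
      · rw [Finset.card_eq_zero, Finset.filter_eq_empty_iff]
        intro i hi hlt
        simp only [Finset.mem_filter, Finset.mem_univ, true_and, e] at hi
        rw [dif_neg hlt] at hi
        exact h0 hi.symm
    rw [hhi] at h3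
    rw [← h3]
    split_ifs
    · exact odd_one.add_even he
    · exact odd_one

end H44.Elu
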