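import Mathlib
import Cfsg.Agent.H44.Elu.Witness
import Cfsg.Agent.H48.Form
import Cfsg.Agent.H47.Symp

/-!
The standard alternating space.
-/

set_option autoImplicit false

open Polynomial Module

namespace H44.Elu

universe u

variable {F : Type u} [Field F]

/-- The standard alternating form. -/
noncomputable def sympB (d : ℕ) (F : Type u) [Field F] :
    (Fin d ⊕ Fin d → F) →ₗ[F] (Fin d ⊕ Fin d → F) →ₛₗ[RingHom.id F] F := H48.sf

theorem sympB_apply {d : ℕ} (u v : Fin d ⊕ Fin d → F) : sympB d F u v = Cfsg.sympForm d F u v := rfl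

theorem sympB_self {d : ℕ} (v : Fin d ⊕ Fin d → F) : sympB d F v v = 0 := H48.sf_self v

theorem herm_sympB (d : ℕ) : Herm (sympB d F) (-1) :=
  ⟨fun u v => by rw [neg_one_mul, RingHom.id_apply]; exact H48.sf_swap u v, fun _ => rfl⟩

theorem nd_sympB (d : ℕ) : NdOn (sympB d F) ⊤ := fun u _ h => by
  by_contra h0
  obtain ⟨v, hv⟩ := H48.exists_sf_ne h0
  exact hv (h v trivial)

theorem finrank_sympV (d : ℕ) : finrank F (Fin d ⊕ Fin d → F) = 2 * d := by
  rw [Module.finrank_fintype_fun_eq_card, Fintype.card_sum, Fintype.card_fin, two_mul]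

theorem iso_sp {d : ℕ} (x : ↥(Matrix.symplecticGroup (Fin d) F)) :
    Iso (sympB d F) (Matrix.toLin' (x : Matrix (Fin d ⊕ Fin d) (Fin d ⊕ Fin d) F)) := fun u v => by
  rw [Matrix.toLin'_apply, Matrix.toLin'_apply]
  exact H48.mem_symplectic_iff.1 x.2 u v

/-- An alternating model is the standard one. -/
theorem exists_sp_elt {V : Type u} [AddCommGroup V] [Module F V] [FiniteDimensional F V]
    {B : V →ₗ[F] V →ₛₗ[RingHom.id F] F} {T : Module.End F V} (hM : Model B (-1) T) {d : ℕ}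
    (hd : finrank F V = 2 * d) :
    ∃ (x : ↥(Matrix.symplecticGroup (Fin d) F)) (φ : V ≃ₗ[F] (Fin d ⊕ Fin d → F)),
      (∀ v, Matrix.toLin' (x : Matrix (Fin d ⊕ Fin d) (Fin d ⊕ Fin d) F) (φ v) = φ (T v)) ∧
      ∀ u v, Cfsg.sympForm d F (φ u) (φ v) = B u v := by
  let e : V ≃ₗ[F] (Fin (2 * d) → F) := LinearEquiv.ofFinrankEq _ _ (by rw [hd, finrank_fin_fun])
  let f : (Fin (2 * d) → F) → (Fin (2 * d) → F) → F := fun u v => B (e.symm u) (e.symm v)
  have hf : Cfsg.Geo.IsSymplecticForm f := by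
    have hB : ∀ u v, B u v = - B v u := fun u v => by rw [hM.herm.swap v u]; simp
    refine ⟨⟨fun x y v => by simp [f], fun c x v => by simp [f], fun v x y => by simp [f], fun c v x => by simp [f]⟩,
      fun v w => hB _ _, fun v => hM.alt rfl rfl _, fun v hv => ?_⟩
    have h0 : e.symm v ≠ 0 := fun h => hv (e.symm.map_eq_zero_iff.1 h)
    obtain ⟨w, hw⟩ : ∃ w, B (e.symm v) w ≠ 0 := by
      by_contra hh
      push Not at hh
      exact h0 (hM.nd _ trivial fun w _ => hh w)
    exact ⟨⟨e w, by show B (e.symm (e w)) (e.symm v) ≠ 0; rw [e.symm_apply_apply, hB]; exact neg_ne_zero.2 hw⟩,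
      ⟨e w, by show B (e.symm v) (e.symm (e w)) ≠ 0; rw [e.symm_apply_apply]; exact hw⟩⟩
  obtain ⟨ψ, hψ⟩ := H47.exists_symp_coords (m := d) (Fintype.card_fin _) hf
  let φ : V ≃ₗ[F] (Fin d ⊕ Fin d → F) := e.trans ψ
  have hφ : ∀ u v, Cfsg.sympForm d F (φ u) (φ v) = B u v := fun u v => by
    simp [φ, hψ, f]
  let M := LinearMap.toMatrix' (φ.toLinearMap ∘ₗ T ∘ₗ φ.symm.toLinearMap)
  have hMx : ∀ v, M.mulVec (φ v) = φ (T v) := fun v => by
    rw [← Matrix.toLin'_apply, Matrix.toLin'_toMatrix']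
    simp
  have hmem : M ∈ Matrix.symplecticGroup (Fin d) F := by
    refine H48.mem_symplectic_iff.2 fun u v => ?_
    obtain ⟨u, rfl⟩ := φ.surjective u
    obtain ⟨v, rfl⟩ := φ.surjective v
    rw [hMx, hMx]
    exact (hφ _ _).trans ((hM.iso u v).trans (hφ u v).symm)
  exact ⟨⟨M, hmem⟩, φ, fun v => by rw [Matrix.toLin'_apply]; exact hMx v, hφ⟩

/-- A fixed alternating space of any even dimension. -/
theorem exists_alt_fix [Fintype F] (h : ℕ) :
    ∃ (V : Type u) (_ : AddCommGroup V) (_ : Module F V) (_ : FiniteDimensional F V)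
      (B : V →ₗ[F] V →ₛₗ[RingHom.id F] F), Model B (-1) LinearMap.id ∧ finrank F V = 2 * h := by
  have hM := model_hyp (F := F) (K := F) (A := h) (σ := RingHom.id F) (fun _ => rfl) (RingHom.id F) (fun _ => rfl)
    Function.surjective_id (ε := -1) (by simp) (α := fun _ => 1) (β := fun _ => 1) (fun _ => by simp)
  have he : (diagT F (fun _ : Fin h => (1 : F))).prodMap (diagT F (fun _ : Fin h => (1 : F))) = LinearMap.id :=
    LinearMap.ext fun v => Prod.ext (funext fun j => one_mul _) (funext fun j => one_mul _)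
  rw [he] at hM
  exact ⟨(Fin h → F) × (Fin h → F), inferInstance, inferInstance, inferInstance, _, hM,
    by rw [finrank_fun_prod, Module.finrank_self, mul_one]⟩

end H44.Elu
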