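import Mathlib
import Cfsg.Agent.H44.Elu.Jordan
import Cfsg.Agent.H47.UniType

/-!
Elements of order equal to the characteristic and their nondegenerate invariant subspaces.
-/

set_option autoImplicit false

open Polynomial Module

namespace H44.Elu

variable {F : Type*} [Field F] {V : Type*} [AddCommGroup V] [Module F V] {σ : F →+* F}
  {B : V →ₗ[F] V →ₛₗ[σ] F} {ε : F} {T : Module.End F V}

theorem nilS_pow_char (p : ℕ) [Fact p.Prime] [CharP F p] {T : Module.End F V} (h : T ^ p = 1) :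
    nilS T ^ p = 0 := by
  have h1 : ((X : F[X]) - 1) ^ p = X ^ p - 1 := by rw [sub_pow_char, one_pow]
  have h2 := congrArg (aeval T) h1
  rw [map_pow, map_sub, map_sub, map_pow, aeval_X, map_one, h, sub_self] at h2
  exact h2

theorem exists_pth_root [Finite F] (p : ℕ) [Fact p.Prime] [CharP F p] (z : F) : ∃ w : F, w ^ p = z := by
  have hinj : Function.Injective fun a : F => a ^ p := frobenius_inj F p
  exact (Finite.injective_iff_surjective.1 hinj) z

/-- A scalar multiple of the map is unipotent. -/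
theorem exists_unip (p : ℕ) [Fact p.Prime] [CharP F p] {T₀ : Module.End F V} (hI : Iso B T₀) {z w : F}
    (hT : T₀ ^ p = z • 1) (hw : w ^ p = z) (hw1 : w * σ w = 1) :
    ∃ T : Module.End F V, Iso B T ∧ nilS T ^ p = 0 ∧ ∀ W : Submodule F V, W.map T ≤ W → W.map T₀ ≤ W := by
  have hw0 : w ≠ 0 := fun h => by rw [h, zero_mul] at hw1; exact zero_ne_one hw1
  have hw2 : w⁻¹ * σ w⁻¹ = 1 := by rw [map_inv₀, ← mul_inv, hw1, inv_one]
  refine ⟨w⁻¹ • T₀, fun u v => ?_, nilS_pow_char p ?_, fun W hW => ?_⟩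
  · simp only [LinearMap.smul_apply, map_smul, LinearMap.map_smulₛₗ, smul_eq_mul]
    rw [← mul_assoc, mul_comm (σ w⁻¹), hw2, one_mul]
    exact hI u v
  · rw [_root_.smul_pow, hT, smul_smul, _root_.inv_pow, hw, inv_mul_cancel₀ (hw ▸ pow_ne_zero p hw0), one_smul]
  · rwa [Submodule.map_smul _ _ _ (inv_ne_zero hw0)] at hW

/-- The conditions in the alternating case in odd characteristic. -/
theorem alt_h1 {B : V →ₗ[F] V →ₛₗ[RingHom.id F] F} {T : Module.End F V} (h2 : (2 : F) ≠ 0) (hB : Herm B (-1))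
    (hI : Iso B T) (k : ℕ) (v : V) (hv : (nilS T ^ (k + 1)) v = 0) (hne : B ((nilS T ^ k) v) v ≠ 0) :
    Even (k + 1) := by
  by_contra hodd
  have hk : Even k := by rwa [Nat.even_add_one, not_not] at hodd
  have h := hI.pair_swap hB (v := v) hv
  rw [hk.neg_one_pow, one_mul, RingHom.id_apply, neg_one_mul] at h
  exact hne ((mul_eq_zero.1 (show (2 : F) * B ((nilS T ^ k) v) v = 0 by linear_combination h)).resolve_left h2)

theorem alt_h2 {B : V →ₗ[F] V →ₛₗ[RingHom.id F] F} {T : Module.End F V} (h2 : (2 : F) ≠ 0) (hB : Herm B (-1))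
    (hI : Iso B T) (k : ℕ) (U : Submodule F V) (hU : ∀ v ∈ U, (nilS T ^ (k + 1)) v = 0)
    (hd : ∀ v ∈ U, B ((nilS T ^ k) v) v = 0) (hne : ∃ u ∈ U, ∃ v ∈ U, B ((nilS T ^ k) u) v ≠ 0) :
    Odd (k + 1) := by
  rw [← Nat.not_even_iff_odd, Nat.even_add_one, not_not]
  by_contra hodd
  obtain ⟨u, hu, v, hv, hf⟩ := hne
  have h := hI.pair_swap hB (v := v) (hU u hu)
  rw [(Nat.not_even_iff_odd.1 hodd).neg_one_pow, RingHom.id_apply] at h
  have h3 := hd (u + v) (U.add_mem hu hv)
  simp only [map_add, LinearMap.add_apply, hd u hu, hd v hv, zero_add, add_zero] at h3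
  exact hf ((mul_eq_zero.1 (show (2 : F) * B ((nilS T ^ k) u) v = 0 by linear_combination h3 - h)).resolve_left h2)

/-- There are no paired blocks in the hermitian case. -/
theorem herm_h2 (hσ : σ ≠ RingHom.id F) (k : ℕ) (U : Submodule F V)
    (hd : ∀ v ∈ U, B ((nilS T ^ k) v) v = 0) : ¬ ∃ u ∈ U, ∃ v ∈ U, B ((nilS T ^ k) u) v ≠ 0 := by
  rintro ⟨u, hu, v, hv, hf⟩
  have h1 := hd (u + v) (U.add_mem hu hv)
  simp only [map_add, LinearMap.add_apply, hd u hu, hd v hv, zero_add, add_zero] at h1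
  refine hσ (RingHom.ext fun a => ?_)
  have h3 := hd (a • u + v) (U.add_mem (U.smul_mem a hu) hv)
  simp only [map_add, LinearMap.add_apply, map_smul, LinearMap.map_smulₛₗ, LinearMap.smul_apply, smul_eq_mul,
    hd u hu, hd v hv, mul_zero, zero_add, add_zero] at h3
  rw [RingHom.id_apply]
  refine sub_eq_zero.1 ((mul_eq_zero.1 (show (σ a - a) * B ((nilS T ^ k) u) v = 0 from ?_)).resolve_right hf)
  linear_combination σ a * h1 - h3

/-- Half of a multiset with even multiplicities. -/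
theorem exists_half (s : Multiset ℕ) (h : ∀ a, Even (s.count a)) : ∃ t : Multiset ℕ, t + t = s := by
  classical
  refine ⟨∑ a ∈ s.toFinset, Multiset.replicate (s.count a / 2) a, Multiset.ext.2 fun a => ?_⟩
  obtain ⟨k, hk⟩ := h a
  by_cases ha : a ∈ s
  · simp only [Multiset.count_add, Multiset.count_sum', Multiset.count_replicate, Finset.sum_ite_eq',
      Multiset.mem_toFinset.2 ha, if_true]
    omega
  · simp only [Multiset.count_add, Multiset.count_sum', Multiset.count_replicate, Finset.sum_ite_eq',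
      if_neg (fun h => ha (Multiset.mem_toFinset.1 h)), Multiset.count_eq_zero_of_notMem ha, add_zero]

/-- A partition with even multiplicity of odd parts inside a decomposition splits accordingly. -/
theorem split_valid {μ₁ μ₂ ν : Multiset ℕ} (h1 : ∀ a ∈ μ₁, Even a) (h2 : ∀ a ∈ μ₂, Odd a)
    (hν : ν ≤ μ₁ + μ₂ + μ₂) (hv : ∀ a, Odd a → Even (ν.count a)) :
    ∃ ν₁ ≤ μ₁, ∃ ν₂ ≤ μ₂, ν₁ + ν₂ + ν₂ = ν := by
  classical
  obtain ⟨t, ht⟩ := exists_half (ν.filter Odd) fun a => by
    rw [Multiset.count_filter]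
    split_ifs with ha
    · exact hv a ha
    · exact Even.zero
  refine ⟨ν.filter Even, Multiset.le_iff_count.2 fun a => ?_, t, Multiset.le_iff_count.2 fun a => ?_, ?_⟩
  · rw [Multiset.count_filter]
    split_ifs with ha
    · have h := Multiset.le_iff_count.1 hν a
      rw [Multiset.count_add, Multiset.count_add, Multiset.count_eq_zero_of_notMem (s := μ₂)
        (fun hm => Nat.not_even_iff_odd.2 (h2 a hm) ha)] at h
      simpa using h
    · exact Nat.zero_le _
  · have hc := congrArg (Multiset.count a) ht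
    rw [Multiset.count_add, Multiset.count_filter] at hc
    split_ifs at hc with ha
    · have h := Multiset.le_iff_count.1 hν a
      rw [Multiset.count_add, Multiset.count_add, Multiset.count_eq_zero_of_notMem (s := μ₁)
        (fun hm => Nat.not_even_iff_odd.2 ha (h1 a hm))] at h
      omega
    · omega
  · rw [add_assoc, ht]
    conv_rhs => rw [← Multiset.filter_add_not Even ν]
    congr 1
    exact Multiset.filter_congr fun a _ => Nat.not_even_iff_odd.symm

/-- The dimension of a nondegenerate invariant subspace comes from a sub-partition. -/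
theorem exists_sub_partition [FiniteDimensional F V] (hB : Herm B ε) (hI : Iso B T)
    (hn : NdOn B (⊤ : Submodule F V)) {P1 P2 : ℕ → Prop}
    (h1 : ∀ k (v : V), (nilS T ^ (k + 1)) v = 0 → B ((nilS T ^ k) v) v ≠ 0 → P1 (k + 1))
    (h2 : ∀ (k : ℕ) (U : Submodule F V), (∀ v ∈ U, (nilS T ^ (k + 1)) v = 0) →
      (∀ v ∈ U, B ((nilS T ^ k) v) v = 0) → (∃ u ∈ U, ∃ v ∈ U, B ((nilS T ^ k) u) v ≠ 0) → P2 (k + 1))
    {K : ℕ} (hK : nilS T ^ K = 0) {μ : Multiset ℕ} (hμ : 0 ∉ μ)
    (hrank : ∀ l, finrank F (LinearMap.range (nilS T ^ l)) = blockRank μ l)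
    {D : Submodule F V} (hD : D.map T ≤ D) (hDn : NdOn B D) :
    ∃ μ₁ μ₂ : Multiset ℕ, (∀ a ∈ μ₁, P1 a) ∧ (∀ a ∈ μ₂, P2 a) ∧ μ₁ + μ₂ + μ₂ ≤ μ ∧
      (μ₁ + μ₂ + μ₂).sum = finrank F D := by
  have hinj := hI.injective hn
  have hDo : ((⊤ : Submodule F V) ⊓ orth B D).map T ≤ ⊤ ⊓ orth B D := inv_inf le_top (inv_orth hI hinj hD)
  have hn' := ndOn_orth_inf hB hn hDn le_top
  have hsup := sup_orth_inf hB hn hDn le_top
  have hK' : ∀ (W : Submodule F V), ∀ v ∈ W, (nilS T ^ K) v = 0 := fun W v _ => by rw [hK]; rfl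
  obtain ⟨μ₁, μ₂, a1, a2, as, ar, -⟩ := exists_decomp hB hI hinj (W₀ := ⊤) (fun k v _ => h1 k v)
    (fun k U _ => h2 k U) K le_top hD hDn (hK' _)
  obtain ⟨ν₁, ν₂, b1, b2, -, br, -⟩ := exists_decomp hB hI hinj (W₀ := ⊤) (fun k v _ => h1 k v)
    (fun k U _ => h2 k U) K le_top hDo hn' (hK' _)
  have heq : μ = μ₁ + μ₂ + μ₂ + (ν₁ + ν₂ + ν₂) := by
    have h0 : ∀ (s : Multiset ℕ), (∀ a ∈ s, 0 < a) → 0 ∉ s := fun s h hs => lt_irrefl 0 (h 0 hs)
    refine H47.multiset_eq_of_rank hμ (h0 _ fun a ha => ?_) fun l => ?_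
    · simp only [Multiset.mem_add] at ha
      rcases ha with ((h | h) | h) | ((h | h) | h) <;>
        first | exact (a1 a h).1 | exact (a2 a h).1 | exact (b1 a h).1 | exact (b2 a h).1
    · show blockRank μ l = blockRank _ l
      rw [blockRank_add (μ₁ + μ₂ + μ₂), ← hrank, LinearMap.range_eq_map, ← ar, ← br]
      conv_lhs => rw [← hsup, Submodule.map_sup]
      have hl1 : D.map (nilS T ^ l) ≤ D := by rintro _ ⟨x, hx, rfl⟩; exact inv_nilS hD l x hx
      have hl2 : ((⊤ : Submodule F V) ⊓ orth B D).map (nilS T ^ l) ≤ ⊤ ⊓ orth B D := by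
        rintro _ ⟨x, hx, rfl⟩; exact inv_nilS hDo l x hx
      have h := Submodule.finrank_sup_add_finrank_inf_eq (D.map (nilS T ^ l))
        (((⊤ : Submodule F V) ⊓ orth B D).map (nilS T ^ l))
      rwa [le_bot_iff.1 ((inf_le_inf hl1 hl2).trans (disjoint_of_orth hDn inf_le_right).le), finrank_bot,
        add_zero] at h
  exact ⟨μ₁, μ₂, fun a ha => (a1 a ha).2.2, fun a ha => (a2 a ha).2.2, heq ▸ Multiset.le_add_right _ _, as⟩

theorem exists_ones_twos (μ : Multiset ℕ) (h : ∀ a ∈ μ, 0 < a ∧ a ≤ 2) :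
    ∃ t u, μ = Multiset.replicate t 1 + Multiset.replicate u 2 := by
  induction μ using Multiset.induction with
  | empty => exact ⟨0, 0, rfl⟩
  | cons a s ih =>
    obtain ⟨t, u, rfl⟩ := ih fun b hb => h b (Multiset.mem_cons_of_mem hb)
    obtain ⟨h0, h2⟩ := h a (Multiset.mem_cons_self _ _)
    obtain rfl | rfl : a = 1 ∨ a = 2 := by omega
    · exact ⟨t + 1, u, by rw [Multiset.replicate_succ, Multiset.cons_add]⟩
    · exact ⟨t, u + 1, by rw [Multiset.replicate_succ, Multiset.add_cons]⟩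

end H44.Elu
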