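import Mathlib
import Cfsg.Agent.H44.Elu.Model
import Cfsg.Agent.H44.Elu.Unip
import Cfsg.Agent.H44.Elu.StdSp
import Cfsg.Agent.H44.JordanRealise

/-!
Unipotent witnesses.
-/

set_option autoImplicit false

open Polynomial Module

namespace H44.Elu

universe u

variable {F : Type u} [Field F] {σ : F →+* F}

/-- The swap of two copies of a space. -/
def swapS (F : Type u) [Field F] (V : Type*) [AddCommGroup V] [Module F V] : Module.End F (V × V) :=
  (LinearMap.snd F V V).prod (LinearMap.fst F V V)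

section swap

variable {V : Type*} [AddCommGroup V] [Module F V] {B : V →ₗ[F] V →ₛₗ[σ] F} {ε : F} {T : Module.End F V}

theorem swapS_apply (v : V × V) : swapS F V v = (v.2, v.1) := rfl

theorem swapS_pow_two : swapS F V ^ 2 = 1 := LinearMap.ext fun v => by
  rw [pow_two, Module.End.mul_apply, swapS_apply, swapS_apply]; rfl

theorem Model.swap (h : Model B ε T) : Model (sumB B B) ε (swapS F V) where
  herm := (h.sum h).herm
  nd := (h.sum h).nd
  iso := fun u v => add_comm _ _
  alt := (h.sum h).alt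

theorem swap_nil_sq (h2 : (2 : F) = 0) : nilS (swapS F V) ^ 2 = 0 := by
  refine LinearMap.ext fun v => ?_
  have hn : ∀ a : V, -a = a := fun a => by
    have : (2 : F) • a = 0 := by rw [h2, zero_smul]
    rw [two_smul] at this
    exact neg_eq_of_add_eq_zero_left this
  have hN : ∀ x : V × V, nilS (swapS F V) x = (x.2 - x.1, x.1 - x.2) := fun x => rfl
  rw [pow_two, Module.End.mul_apply, hN, hN]
  refine Prod.ext ?_ ?_ <;>
    simp only [LinearMap.zero_apply, Prod.fst_zero, Prod.snd_zero] <;>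
    · conv_lhs => arg 1; rw [← hn (_ - _), neg_sub]
      exact sub_self _

theorem swap_diag {B : V →ₗ[F] V →ₛₗ[RingHom.id F] F} (h : Model B (-1) T) (h2 : (2 : F) = 0) (k : ℕ) (v : V × V) :
    sumB B B ((nilS (swapS F V) ^ k) v) v = 0 := by
  have hsq : nilS (swapS F V) ^ 2 = 0 := swap_nil_sq h2
  match k with
  | 0 => exact (h.sum h).alt rfl rfl v
  | 1 =>
    rw [pow_one]
    show B (v.2 - v.1) v.1 + B (v.1 - v.2) v.2 = 0
    rw [map_sub, map_sub, LinearMap.sub_apply, LinearMap.sub_apply, h.alt rfl rfl, h.alt rfl rfl,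
      h.herm.swap v.1 v.2, RingHom.id_apply]
    ring
  | k + 2 => rw [pow_add, hsq, mul_zero, LinearMap.zero_apply, map_zero, LinearMap.zero_apply]

theorem swap_rank [FiniteDimensional F V] (h2 : (2 : F) = 0) (l : ℕ) :
    finrank F (LinearMap.range (nilS (swapS F V) ^ l)) = blockRank (Multiset.replicate (finrank F V) 2) l := by
  have hb : blockRank (Multiset.replicate (finrank F V) 2) l = finrank F V * (2 - l) := by
    simp [blockRank, Multiset.map_replicate]
  rw [hb]
  have hι : Function.Injective (LinearMap.prod (LinearMap.id : V →ₗ[F] V) (-LinearMap.id)) :=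
    fun a b hab => congrArg Prod.fst hab
  have hN : nilS (swapS F V) =
      (LinearMap.prod (LinearMap.id : V →ₗ[F] V) (-LinearMap.id)) ∘ₗ (LinearMap.snd F V V - LinearMap.fst F V V) :=
    LinearMap.ext fun v => Prod.ext rfl (neg_sub v.2 v.1).symm
  have hsurj : LinearMap.range (LinearMap.snd F V V - LinearMap.fst F V V) = ⊤ :=
    LinearMap.range_eq_top.2 fun w => ⟨(0, w), sub_zero w⟩
  match l with
  | 0 => rw [pow_zero, show (1 : Module.End F (V × V)) = LinearMap.id from rfl, LinearMap.range_id, finrank_top,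
      Module.finrank_prod]; ring
  | 1 =>
    rw [pow_one, hN, LinearMap.range_comp_of_range_eq_top _ hsurj, LinearMap.finrank_range_of_inj hι]
    ring
  | l + 2 =>
    have h0 : nilS (swapS F V) ^ 2 = 0 := swap_nil_sq h2
    rw [pow_add, h0, mul_zero, LinearMap.range_zero, finrank_bot, show 2 - (l + 2) = 0 by omega, mul_zero]

end swap

/-! ### Jordan blocks with a hermitian form -/

section block

variable (F) in
/-- The shift. -/
def shiftS (a : ℕ) : Module.End F (Fin a → F) :=
  (Matrix.toLin' (Matrix.of fun i k : Fin a => if (i : ℕ) = (k : ℕ) + 1 then (1 : F) else 0))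

theorem rank_shiftS (a j : ℕ) : finrank F (LinearMap.range (shiftS F a ^ j)) = a - j := by
  rw [← H44.rank_shift_pow (F := F) a j]
  exact congrArg (fun f => finrank F (LinearMap.range f)) (map_pow Matrix.toLinAlgEquiv' _ j).symm

theorem shiftS_apply {a : ℕ} (u : Fin (a + 1) → F) :
    shiftS F (a + 1) u = Fin.cons 0 (fun i : Fin a => u i.castSucc) := by
  funext i
  rw [shiftS, Matrix.toLin'_apply]
  simp only [Matrix.mulVec, dotProduct, Matrix.of_apply, ite_mul, one_mul, zero_mul]
  refine Fin.cases ?_ (fun i => ?_) i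
  · simp
  · rw [Fin.cons_succ, Finset.sum_eq_single i.castSucc]
    · simp
    · intro b _ hb
      rw [if_neg fun e => hb (Fin.ext (by simp at e ⊢; omega))]
    · simp

/-- The alternating antidiagonal form. -/
def antiB (σ : F →+* F) (δ : F) (a : ℕ) : (Fin a → F) →ₗ[F] (Fin a → F) →ₛₗ[σ] F where
  toFun u :=
    { toFun := fun v => ∑ i : Fin a, δ * (-1) ^ (i : ℕ) * u i * σ (v i.rev)
      map_add' := fun v w => by simp [mul_add, Finset.sum_add_distrib]
      map_smul' := fun c v => by
        simp only [Pi.smul_apply, smul_eq_mul, map_mul, Finset.mul_sum]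
        exact Finset.sum_congr rfl fun i _ => by ring }
  map_add' u w := LinearMap.ext fun v => by simp [mul_add, add_mul, Finset.sum_add_distrib]
  map_smul' c u := LinearMap.ext fun v => by
    simp only [LinearMap.coe_mk, AddHom.coe_mk, Pi.smul_apply, smul_eq_mul, RingHom.id_apply, LinearMap.smul_apply,
      Finset.mul_sum]
    exact Finset.sum_congr rfl fun i _ => by ring

theorem antiB_apply (δ : F) {a : ℕ} (u v : Fin a → F) :
    antiB σ δ a u v = ∑ i : Fin a, δ * (-1) ^ (i : ℕ) * u i * σ (v i.rev) := rfl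

theorem antiB_shift (δ : F) (k : ℕ) (u v : Fin (k + 1) → F) :
    antiB σ δ (k + 1) (shiftS F (k + 1) u) v + antiB σ δ (k + 1) u (shiftS F (k + 1) v) = 0 := by
  rw [antiB_apply, antiB_apply, Fin.sum_univ_succ, Fin.sum_univ_castSucc
    (fun i : Fin (k + 1) => δ * (-1) ^ (i : ℕ) * u i * σ (shiftS F (k + 1) v i.rev))]
  simp only [shiftS_apply, Fin.cons_zero, Fin.cons_succ, mul_zero, zero_mul, zero_add, Fin.rev_succ, Fin.rev_last,
    Fin.rev_castSucc, map_zero, add_zero]
  rw [← Finset.sum_add_distrib]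
  refine Finset.sum_eq_zero fun i _ => ?_
  simp [pow_succ]

/-- A nondegenerate hermitian Jordan block. -/
theorem exists_block (hσ : σ ≠ RingHom.id F) (hσ2 : ∀ a, σ (σ a) = a) (h2 : (2 : F) ≠ 0) (a : ℕ) :
    ∃ (B : (Fin a → F) →ₗ[F] (Fin a → F) →ₛₗ[σ] F) (T : Module.End F (Fin a → F)),
      Model B 1 T ∧ ∀ l, finrank F (LinearMap.range (nilS T ^ l)) = a - l := by
  match a with
  | 0 =>
    refine ⟨0, 1, ⟨⟨fun u v => by simp, hσ2⟩, fun u _ _ => Subsingleton.elim _ _, fun u v => rfl, fun h => absurd h hσ⟩,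
      fun l => ?_⟩
    rw [Nat.zero_sub]
    exact Nat.le_zero.1 ((Submodule.finrank_le _).trans (finrank_fin_fun F).le)
  | k + 1 =>
  obtain ⟨δ, hδ0, hδ⟩ : ∃ δ : F, δ ≠ 0 ∧ σ δ = δ * (-1) ^ k := by
    rcases Nat.even_or_odd k with hk | hk
    · exact ⟨1, one_ne_zero, by rw [map_one, hk.neg_one_pow, mul_one]⟩
    · obtain ⟨x, hx⟩ : ∃ x, σ x ≠ x := by
        by_contra hh
        push Not at hh
        exact hσ (RingHom.ext hh)
      exact ⟨x - σ x, sub_ne_zero.2 (Ne.symm hx), by rw [hk.neg_one_pow, map_sub, hσ2]; ring⟩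
  set N := shiftS F (k + 1) with hN
  have hnil : IsNilpotent N := ⟨k + 1, by
    rw [← LinearMap.range_eq_bot, ← Submodule.finrank_eq_zero, hN, rank_shiftS, Nat.sub_self]⟩
  obtain ⟨U, hU⟩ := hnil.isUnit_one_sub
  have hherm : Herm (antiB σ δ (k + 1)) (1 : F) := ⟨fun u v => by
    rw [one_mul, antiB_apply, antiB_apply, map_sum, ← Equiv.sum_comp Fin.revPerm]
    refine Finset.sum_congr rfl fun i _ => ?_
    rw [Fin.revPerm_apply, Fin.rev_rev, map_mul, map_mul, map_mul, hσ2, map_pow, map_neg, map_one, hδ, Fin.val_rev]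
    have hi : (-1 : F) ^ k * (-1) ^ (i : ℕ) = (-1) ^ (k + 1 - ((i : ℕ) + 1)) := by
      obtain ⟨j, hj⟩ : ∃ j, j = k + 1 - ((i : ℕ) + 1) := ⟨_, rfl⟩
      rw [← hj, show (-1 : F) ^ k = (-1) ^ j * (-1) ^ (i : ℕ) by rw [← pow_add]; congr 1; omega, mul_assoc, ← pow_add,
        Even.neg_one_pow ⟨i, rfl⟩, mul_one]
    linear_combination (-(δ * v i.rev * σ (u i))) * hi, hσ2⟩
  have hnd : NdOn (antiB σ δ (k + 1)) ⊤ := fun u _ hu => funext fun i => by
    have h := hu (Pi.single i.rev 1) trivial
    rw [antiB_apply, Finset.sum_eq_single i] at h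
    · simpa [hδ0] using h
    · intro j _ hj
      rw [Pi.single_eq_of_ne (fun e => hj (Fin.rev_injective e)), map_zero, mul_zero]
    · simp
  refine ⟨antiB σ δ (k + 1), (1 + N) * ((U⁻¹ : (Module.End F (Fin (k + 1) → F))ˣ) : Module.End F (Fin (k + 1) → F)), ⟨hherm, hnd, fun u v => ?_, fun h => absurd h hσ⟩, fun l => ?_⟩
  · have hUU : ∀ w : Fin (k + 1) → F, (U : Module.End F (Fin (k + 1) → F))
        (((U⁻¹ : (Module.End F (Fin (k + 1) → F))ˣ) : Module.End F (Fin (k + 1) → F)) w) = w := fun w => by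
      rw [← Module.End.mul_apply, Units.mul_inv]; rfl
    conv_rhs => rw [← hUU u, ← hUU v, hU]
    generalize ((U⁻¹ : (Module.End F (Fin (k + 1) → F))ˣ) : Module.End F (Fin (k + 1) → F)) = R
    simp only [Module.End.mul_apply, LinearMap.add_apply, LinearMap.sub_apply, Module.End.one_apply, map_add, map_sub]
    linear_combination 2 * antiB_shift (σ := σ) δ k (R u) (R v)
  · have hc : Commute N ((U⁻¹ : (Module.End F (Fin (k + 1) → F))ˣ) : Module.End F (Fin (k + 1) → F)) := by
      have h1 : Commute N (1 - N) := (Commute.one_right N).sub_right (Commute.refl N)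
      rw [← hU] at h1
      exact h1.units_inv_right
    have hTN : nilS ((1 + N) * ((U⁻¹ : (Module.End F (Fin (k + 1) → F))ˣ) : Module.End F (Fin (k + 1) → F))) =
        algebraMap F _ 2 * N * ((U⁻¹ : (Module.End F (Fin (k + 1) → F))ˣ) : Module.End F (Fin (k + 1) → F)) := by
      rw [nilS]
      conv_lhs => arg 2; rw [← U.mul_inv]
      rw [hU, ← sub_mul, map_ofNat]
      congr 1
      noncomm_ring
    have c1 : Commute (algebraMap F (Module.End F (Fin (k + 1) → F)) 2)
        ((U⁻¹ : (Module.End F (Fin (k + 1) → F))ˣ) : Module.End F (Fin (k + 1) → F)) := Algebra.commutes _ _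
    have c2 : Commute (algebraMap F (Module.End F (Fin (k + 1) → F)) 2) N := Algebra.commutes _ _
    rw [hTN, (c1.mul_left hc).mul_pow, c2.mul_pow, ← map_pow, mul_assoc, ← Algebra.smul_def]
    rw [LinearMap.range_smul _ _ (pow_ne_zero l h2), Module.End.mul_eq_comp,
      LinearMap.range_comp_of_range_eq_top, rank_shiftS]
    rw [LinearMap.range_eq_top]
    exact ((Module.End.isUnit_iff _).1 ((U⁻¹).isUnit.pow l)).surjective

/-- A hermitian space with an isometry of any Jordan type. -/
theorem exists_herm_type (hσ : σ ≠ RingHom.id F) (hσ2 : ∀ a, σ (σ a) = a) (h2 : (2 : F) ≠ 0) (μ : Multiset ℕ) :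
    ∃ (V : Type u) (_ : AddCommGroup V) (_ : Module F V) (_ : FiniteDimensional F V)
      (B : V →ₗ[F] V →ₛₗ[σ] F) (T : Module.End F V),
      Model B 1 T ∧ finrank F V = μ.sum ∧ ∀ l, finrank F (LinearMap.range (nilS T ^ l)) = blockRank μ l := by
  induction μ using Multiset.induction with
  | empty =>
    obtain ⟨B, T, hM, hr⟩ := exists_block hσ hσ2 h2 0
    exact ⟨Fin 0 → F, inferInstance, inferInstance, inferInstance, B, T, hM, by simp,
      fun l => by rw [hr]; simp [blockRank]⟩
  | cons a μ ih =>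
    obtain ⟨V, _, _, _, B, T, hM, hd, hr⟩ := ih
    obtain ⟨B₁, T₁, hM₁, hr₁⟩ := exists_block hσ hσ2 h2 a
    refine ⟨(Fin a → F) × V, inferInstance, inferInstance, inferInstance, _, _, hM₁.sum hM,
      by rw [Module.finrank_prod, finrank_fin_fun, hd, Multiset.sum_cons], fun l => ?_⟩
    have hn : nilS (T₁.prodMap T : Module.End F _) = (nilS T₁).prodMap (nilS T) :=
      LinearMap.ext fun v => rfl
    rw [hn, prodMap_pow, LinearMap.range_prodMap, LinearEquiv.finrank_eq (H44.prodSubEquiv _ _), Module.finrank_prod,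
      hr₁, hr]
    simp [blockRank]

end block

end H44.Elu
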