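import Mathlib
import Cfsg.Agent.H44.Elu.SUTwo
import Cfsg.Agent.H44.Elu.UnipWitness

/-!
Witnesses for the nondegenerate subspaces of the unitary groups.
-/

set_option autoImplicit false

open Polynomial Module

namespace H44.Elu

universe u

variable {F : Type u} [Field F] [Fintype F] {q n : ℕ}

local notation "Mat" => Matrix (Fin n) (Fin n) F

/-- The determinant when the square is a scalar without norm one root. -/
theorem det_neg_su (hF : Fintype.card F = q ^ 2) (h2 : (2 : F) ≠ 0) {V : Type u} [AddCommGroup V] [Module F V]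
    [FiniteDimensional F V] {B : V →ₗ[F] V →ₛₗ[H50.conjHom hF] F} {T : Module.End F V} (hB : Herm B 1)
    (hn : NdOn B (⊤ : Submodule F V)) (hI : Iso B T) {z a : F} (hT : T ^ 2 = z • 1) (ha : a ^ 2 = z)
    (ha1 : a ^ (q + 1) = -1) :
    ∃ N, finrank F V = 2 * N ∧ LinearMap.det T = (-z) ^ N := by
  have ha0 : a ≠ 0 := fun h => by
    rw [h, zero_pow (by omega)] at ha1
    exact neg_ne_zero.2 one_ne_zero ha1.symm
  set P := LinearMap.ker (T - a • 1) with hP
  set M := LinearMap.ker (T + a • 1) with hM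
  have hPv : ∀ v ∈ P, T v = a • v := fun v hv => sub_eq_zero.1 (LinearMap.mem_ker.1 hv)
  have hMv : ∀ v ∈ M, T v = -(a • v) := fun v hv => eq_neg_of_add_eq_zero_left (LinearMap.mem_ker.1 hv)
  have hTT : ∀ v, T (T v) = (a * a) • v := fun v => by
    have h := LinearMap.congr_fun hT v
    rw [pow_two, Module.End.mul_apply, ← ha, pow_two] at h
    exact h
  have hcompl : IsCompl P M := by
    refine ⟨disjoint_iff.2 ((Submodule.eq_bot_iff _).2 fun v hv => ?_), codisjoint_iff.2 (eq_top_iff.2 fun v _ => ?_)⟩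
    · have h := (hPv v hv.1).symm.trans (hMv v hv.2)
      have h' : (2 * a) • v = 0 := by rw [mul_smul, two_smul]; exact add_eq_zero_iff_eq_neg.2 h
      exact (smul_eq_zero.1 h').resolve_left (mul_ne_zero h2 ha0)
    · refine Submodule.mem_sup.2 ⟨(2 * a)⁻¹ • (T v + a • v), ?_, (2 * a)⁻¹ • (a • v - T v), ?_, ?_⟩
      · rw [hP, LinearMap.mem_ker, map_smul, LinearMap.sub_apply, LinearMap.smul_apply, Module.End.one_apply, map_add,
          map_smul, hTT, smul_add a, smul_smul]
        abel_nf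
        simp
      · rw [hM, LinearMap.mem_ker, map_smul, LinearMap.add_apply, LinearMap.smul_apply, Module.End.one_apply, map_sub,
          map_smul, hTT, smul_sub a, smul_smul]
        abel_nf
        simp
      · rw [← smul_add, show T v + a • v + (a • v - T v) = (2 * a) • v by rw [mul_smul, two_smul]; abel,
          smul_smul, inv_mul_cancel₀ (mul_ne_zero h2 ha0), one_smul]
  have hti : ∀ {e : F}, e ^ (q + 1) = -1 → ∀ u v, T u = e • u → T v = e • v → B u v = 0 := by
    intro e he u v hu hv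
    have h := hI u v
    rw [hu, hv] at h
    simp only [map_smul, LinearMap.smul_apply, LinearMap.map_smulₛₗ, smul_eq_mul, H50.conjHom_apply, ← mul_assoc] at h
    rw [← pow_succ, he] at h
    exact (mul_eq_zero.1 (show (2 : F) * B u v = 0 by linear_combination -h)).resolve_left h2
  have hna : (-a) ^ (q + 1) = -1 := by rw [(odd_q hF h2).add_one.neg_pow, ha1]
  have h1 := two_mul_le_of_TI hB hn (le_top : P ≤ ⊤) fun u hu v hv => hti ha1 u v (hPv u hu) (hPv v hv)
  have h3 := two_mul_le_of_TI hB hn (le_top : M ≤ ⊤) fun u hu v hv =>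
    hti hna u v (by rw [neg_smul]; exact hMv u hu) (by rw [neg_smul]; exact hMv v hv)
  rw [finrank_top] at h1 h3
  have h4 := Submodule.finrank_add_eq_of_isCompl hcompl
  refine ⟨finrank F P, by omega, ?_⟩
  let e := Submodule.prodEquivOfIsCompl P M hcompl
  have hT' : e.toLinearMap ∘ₗ ((a • LinearMap.id : Module.End F P).prodMap ((-a) • LinearMap.id : Module.End F M)) ∘ₗ
      e.symm.toLinearMap = T := by
    refine LinearMap.ext fun v => ?_
    obtain ⟨⟨x, y⟩, rfl⟩ := e.surjective v
    rw [LinearMap.comp_apply, LinearMap.comp_apply, LinearEquiv.coe_coe, LinearEquiv.coe_coe, e.symm_apply_apply]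
    show ((a • x : P) : V) + (((-a) • y : M) : V) = T ((x : V) + (y : V))
    rw [map_add, hPv _ x.2, hMv _ y.2, neg_smul]
    rfl
  conv_lhs => rw [← hT']
  rw [LinearMap.det_conj, LinearMap.det_prodMap, LinearMap.det_smul, LinearMap.det_smul, LinearMap.det_id, LinearMap.det_id,
    mul_one, mul_one, show finrank F M = finrank F P by omega, ← mul_pow, mul_neg, ← pow_two, ha]

/-- An element all of whose invariant nondegenerate subspaces have even dimension. -/
theorem exists_neg_witness (hF : Fintype.card F = q ^ 2) (h2 : (2 : F) ≠ 0) {N : ℕ} (hN : 0 < N) (hn : n = 2 * N)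
    {a : F} (ha1 : a ^ (q + 1) = -1) (ha2 : (-(a ^ 2)) ^ N = 1) :
    ∃ x : Matrix.SpecialLinearGroup (Fin n) F, x ∈ Cfsg.SU n F q ∧
      (∃ z : F, ((x ^ 2 : Matrix.SpecialLinearGroup (Fin n) F) : Mat) = z • (1 : Mat)) ∧
      (∀ z : F, (x : Mat) ≠ z • (1 : Mat)) ∧
      ∀ W : Submodule F (Fin n → F), W.map (Matrix.toLin' (x : Mat)) ≤ W →
        (∀ u ∈ W, u ≠ 0 → ∃ v ∈ W, Cfsg.hermForm n F q u v ≠ 0) → 2 ∣ finrank F W := by
  have ha0 : a ≠ 0 := fun h => by
    rw [h, zero_pow (by omega)] at ha1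
    exact neg_ne_zero.2 one_ne_zero ha1.symm
  have hM := model_hyp (F := F) (K := F) (A := N) (σ := H50.conjHom hF) (fun x => H50.pow_q_pow_q hF x)
    (H50.conjHom hF) (fun _ => rfl) (Finite.injective_iff_surjective.1 (H50.conjHom hF).injective) (ε := (1 : F))
    (by simp) (α := fun _ => a) (β := fun _ => -a) fun j => by
      rw [H50.conjHom_apply, (odd_q hF h2).neg_pow, mul_neg, ← pow_succ', ha1, neg_neg]
  set T : Module.End F ((Fin N → F) × (Fin N → F)) := (diagT F fun _ : Fin N => a).prodMap (diagT F fun _ : Fin N => -a)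
  have hT : T ^ 2 = a ^ 2 • 1 := by
    rw [prodMap_pow]
    refine LinearMap.ext fun v => Prod.ext (funext fun j => ?_) (funext fun j => ?_)
    · rw [LinearMap.prodMap_apply]
      show ((diagT F fun _ : Fin N => a) ^ 2) v.1 j = _
      rw [diagT_pow]; rfl
    · rw [LinearMap.prodMap_apply]
      show ((diagT F fun _ : Fin N => -a) ^ 2) v.2 j = _
      rw [diagT_pow, neg_sq]; rfl
  have hdet : LinearMap.det T = 1 := by
    rw [LinearMap.det_prodMap, det_diagT, det_diagT, Finset.prod_const, Finset.prod_const, Finset.card_univ,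
      Fintype.card_fin, ← mul_pow, mul_neg, ← pow_two, ha2]
  obtain ⟨x, hxS, hx1, hx2, hx3⟩ := exists_elt_of_model_su hF hM hdet (n := n)
    (by rw [finrank_fun_prod, Module.finrank_self, mul_one, hn]) hT fun w hw => by
      have h1 := congrFun (congrArg Prod.fst (LinearMap.congr_fun hw ((fun _ => 1), (fun _ => 1)))) ⟨0, hN⟩
      have h3 := congrFun (congrArg Prod.snd (LinearMap.congr_fun hw ((fun _ => 1), (fun _ => 1)))) ⟨0, hN⟩
      simp [T, diagT] at h1 h3
      exact mul_ne_zero h2 ha0 (by linear_combination h1 - h3)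
  refine ⟨x, hxS, hx1, hx2, fun W hW hWn => ?_⟩
  obtain ⟨W', hW', hWd, -, hnd⟩ := hx3 W hW
  rw [← hWd]
  exact (shape_neg_su hF h2 hM.herm hM.nd hM.iso hT rfl ha1).nd_dvd W' le_top hW' (hnd hWn)

variable {p : ℕ} [Fact p.Prime] [CharP F p]

theorem pow_char_eq_one {V : Type u} [AddCommGroup V] [Module F V] {T : Module.End F V} (h : nilS T ^ p = 0) :
    T ^ p = 1 := by
  have h1 : ((X : F[X]) - 1) ^ p = X ^ p - 1 := by rw [sub_pow_char, one_pow]
  have h2 := congrArg (aeval T) h1
  rw [map_pow, map_sub, map_sub, map_pow, aeval_X, map_one] at h2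
  exact sub_eq_zero.1 (h2.symm.trans h)

/-- The obstruction from a partition. -/
theorem exists_part_witness_su (hF : Fintype.card F = q ^ 2) (hp : 2 < p) {m : ℕ} (hmn : m ≤ n) {μ : Multiset ℕ}
    (hμ : ∀ a ∈ μ, 0 < a ∧ a ≤ p) (hsum : μ.sum = n) (hbad : ¬ ∃ ν : Multiset ℕ, ν ≤ μ ∧ ν.sum = m) :
    ∃ x : Matrix.SpecialLinearGroup (Fin n) F, x ∈ Cfsg.SU n F q ∧
      (∃ z : F, ((x ^ p : Matrix.SpecialLinearGroup (Fin n) F) : Mat) = z • (1 : Mat)) ∧
      (∀ z : F, (x : Mat) ≠ z • (1 : Mat)) ∧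
      ∀ W : Submodule F (Fin n → F), W.map (Matrix.toLin' (x : Mat)) ≤ W →
        (∀ u ∈ W, u ≠ 0 → ∃ v ∈ W, Cfsg.hermForm n F q u v ≠ 0) → finrank F W ≠ m := by
  have h2 : (2 : F) ≠ 0 := fun h => by
    have := Nat.le_of_dvd two_pos ((CharP.cast_eq_zero_iff F p 2).1 (by exact_mod_cast h))
    omega
  obtain ⟨V, _, _, _, B, T, hM, hd, hr⟩ := exists_herm_type (conj_ne_id hF)
    (fun a => H50.pow_q_pow_q hF a) h2 μ
  have h0 : nilS T ^ p = 0 := by
    rw [← LinearMap.range_eq_bot, ← Submodule.finrank_eq_zero, hr]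
    refine Multiset.sum_eq_zero fun b hb => ?_
    obtain ⟨a, ha, rfl⟩ := Multiset.mem_map.1 hb
    have := (hμ a ha).2
    omega
  have hTp := pow_char_eq_one h0
  have hdet : LinearMap.det T = 1 := frobenius_inj F p (by
    simp only [frobenius_def, one_pow]
    rw [← map_pow, hTp, map_one])
  obtain ⟨x, hxS, hx1, hx2, hx3⟩ := exists_elt_of_model_su hF hM hdet (hd.trans hsum) (r := p) (z := 1)
    (by rw [hTp, one_smul]) fun w hw => hbad (by
      by_cases hV : finrank F V = 0
      · exact ⟨0, Multiset.zero_le _, by simp; omega⟩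
      obtain ⟨v, hv⟩ := Module.finrank_pos_iff_exists_ne_zero.1 (Nat.pos_of_ne_zero hV)
      have hw1 : w = 1 := frobenius_inj F p (by
        have h1 := LinearMap.congr_fun hTp v
        rw [hw, _root_.smul_pow, one_pow, LinearMap.smul_apply, Module.End.one_apply] at h1
        simp only [frobenius_def, one_pow]
        by_contra hne
        exact hv ((smul_eq_zero.1 (show (w ^ p - 1) • v = 0 by rw [sub_smul, one_smul, h1, sub_self])).resolve_left
          (sub_ne_zero.2 hne)))
      have hN : nilS T = 0 := by rw [nilS, hw, hw1, one_smul, sub_self]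
      have hone : ∀ a ∈ μ, a = 1 := fun a ha => by
        have h1 := hr 1
        rw [pow_one, hN, LinearMap.range_zero, finrank_bot] at h1
        have h3 := Multiset.sum_eq_zero_iff.1 h1.symm (a - 1) (Multiset.mem_map.2 ⟨a, ha, rfl⟩)
        have := (hμ a ha).1
        omega
      have hrep := Multiset.eq_replicate_card.2 hone
      refine ⟨Multiset.replicate m 1, ?_, by simp⟩
      rw [hrep, Multiset.le_replicate_iff]
      refine ⟨m, ?_, rfl⟩
      rw [hrep, Multiset.sum_replicate, smul_eq_mul, mul_one] at hsum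
      omega)
  refine ⟨x, hxS, hx1, hx2, fun W hW hWn hWm => hbad ?_⟩
  obtain ⟨W', hW', hWd, -, hnd⟩ := hx3 W hW
  obtain ⟨μ₁, μ₂, -, a2, hle, hs⟩ := exists_sub_partition hM.herm hM.iso hM.nd (P1 := fun _ => True)
    (P2 := fun _ => False) (fun _ _ _ _ => trivial)
    (fun k U _ hdg hne => herm_h2 (conj_ne_id hF) k U hdg hne) h0 (fun h => lt_irrefl 0 (hμ 0 h).1) hr hW' (hnd hWn)
  have hz : μ₂ = 0 := Multiset.eq_zero_of_forall_notMem a2
  rw [hz, add_zero, add_zero] at hle hs
  exact ⟨μ₁, hle, by rw [hs, hWd, hWm]⟩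

/-- The swap witness in characteristic two. -/
theorem exists_swap_witness_su (hF : Fintype.card F = q ^ 2) (h2 : (2 : F) = 0) {N : ℕ} (hN : 0 < N) (hn : n = 2 * N) :
    ∃ x : Matrix.SpecialLinearGroup (Fin n) F, x ∈ Cfsg.SU n F q ∧
      (∃ z : F, ((x ^ 2 : Matrix.SpecialLinearGroup (Fin n) F) : Mat) = z • (1 : Mat)) ∧
      (∀ z : F, (x : Mat) ≠ z • (1 : Mat)) ∧
      ∀ W : Submodule F (Fin n → F), W.map (Matrix.toLin' (x : Mat)) ≤ W →
        (∀ u ∈ W, u ≠ 0 → ∃ v ∈ W, Cfsg.hermForm n F q u v ≠ 0) → 2 ∣ finrank F W := by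
  obtain ⟨V, _, _, _, B, hM, hV⟩ := exists_herm_fix hF N
  have hS := hM.swap
  have hdet : LinearMap.det (swapS F V) = 1 := by
    have h1 : LinearMap.det (swapS F V) ^ 2 = 1 := by rw [← map_pow, swapS_pow_two, map_one]
    have h3 : (LinearMap.det (swapS F V) - 1) * (LinearMap.det (swapS F V) - 1) = 0 := by
      linear_combination h1 + (1 - LinearMap.det (swapS F V)) * h2
    exact sub_eq_zero.1 ((mul_self_eq_zero).1 h3)
  obtain ⟨x, hxS, hx1, hx2, hx3⟩ := exists_elt_of_model_su hF hS hdet (n := n)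
    (by rw [Module.finrank_prod, hV, hn, two_mul]) (r := 2) (z := 1) (by rw [swapS_pow_two, one_smul]) fun w hw => by
      obtain ⟨v, hv⟩ := Module.finrank_pos_iff_exists_ne_zero.1 (hV.symm ▸ hN : 0 < finrank F V)
      have h := LinearMap.congr_fun hw (v, 0)
      rw [swapS_apply, LinearMap.smul_apply, Module.End.one_apply] at h
      exact hv ((congrArg Prod.snd h).trans (smul_zero w))
  refine ⟨x, hxS, hx1, hx2, fun W hW hWn => ?_⟩
  obtain ⟨W', hW', hWd, -, hnd⟩ := hx3 W hW
  obtain ⟨μ₁, μ₂, -, a2, hle, hs⟩ := exists_sub_partition hS.herm hS.iso hS.nd (P1 := fun _ => True)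
    (P2 := fun _ => False) (fun _ _ _ _ => trivial)
    (fun k U _ hdg hne => herm_h2 (conj_ne_id hF) k U hdg hne) (swap_nil_sq h2)
    (μ := Multiset.replicate (finrank F V) 2) (fun h => absurd (Multiset.eq_of_mem_replicate h) (by omega))
    (swap_rank h2) hW' (hnd hWn)
  have hz : μ₂ = 0 := Multiset.eq_zero_of_forall_notMem a2
  rw [hz, add_zero, add_zero] at hle hs
  rw [← hWd, ← hs, Multiset.eq_replicate_card.2 fun a ha => Multiset.eq_of_mem_replicate (Multiset.mem_of_le hle ha),
    Multiset.sum_replicate, smul_eq_mul]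
  exact dvd_mul_left 2 _

end H44.Elu
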