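import Mathlib
import Cfsg.Agent.H44.Elu.StdSp
import Cfsg.Agent.H44.Elu.CountSp
import Cfsg.Agent.H44.Elu.Arith

/-!
Elements of prime order of the symplectic groups: reduction to isometries, shapes and witnesses.
-/

set_option autoImplicit false

open Polynomial Module

namespace H44.Elu

universe u

variable {F : Type u} [Field F] {d : ℕ}

local notation "Mat" => Matrix (Fin d ⊕ Fin d) (Fin d ⊕ Fin d) F

theorem scalar_sq {x : ↥(Matrix.symplecticGroup (Fin d) F)} {r : ℕ} {z : F} (hd : 0 < d)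
    (hz : ((x ^ r : ↥(Matrix.symplecticGroup (Fin d) F)) : Mat) = z • (1 : Mat)) : z * z = 1 := by
  classical
  have h0 : (Pi.single (Sum.inl ⟨0, hd⟩) 1 : Fin d ⊕ Fin d → F) ≠ 0 := fun h => by
    simpa using congrFun h (Sum.inl ⟨0, hd⟩)
  obtain ⟨w, hw⟩ := H48.exists_sf_ne h0
  have h := H48.mem_symplectic_iff.1 (x ^ r).2 (Pi.single (Sum.inl ⟨0, hd⟩) 1) w
  rw [hz, Matrix.smul_mulVec, Matrix.smul_mulVec, Matrix.one_mulVec, Matrix.one_mulVec] at h
  simp only [map_smul, LinearMap.smul_apply, smul_eq_mul, ← mul_assoc] at h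
  exact (mul_left_eq_self₀.1 h).resolve_right hw

theorem toLin_pow {x : ↥(Matrix.symplecticGroup (Fin d) F)} {r : ℕ} {z : F}
    (hz : ((x ^ r : ↥(Matrix.symplecticGroup (Fin d) F)) : Mat) = z • (1 : Mat)) :
    (Matrix.toLin' (x : Mat) : Module.End F (Fin d ⊕ Fin d → F)) ^ r = z • 1 := by
  show (Matrix.toLinAlgEquiv' (x : Mat)) ^ r = _
  rw [SubmonoidClass.coe_pow] at hz
  rw [← map_pow, hz, map_smul, map_one]

theorem map_le_smul {T : Module.End F (Fin d ⊕ Fin d → F)} {c : F} (hc : c ≠ 0)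
    {W : Submodule F (Fin d ⊕ Fin d → F)} (h : W.map (c • T) ≤ W) : W.map T ≤ W := by
  rwa [Submodule.map_smul _ _ _ hc] at h

/-- An element with scalar `r`-th power, `r` odd, is a scalar times an isometry of order dividing `r`. -/
theorem exists_setting {r : ℕ} (hr : r.Prime) (hr2 : r ≠ 2) (hrF : (r : F) ≠ 0) (hd : 0 < d)
    {x : ↥(Matrix.symplecticGroup (Fin d) F)}
    (hx : ∃ z : F, ((x ^ r : ↥(Matrix.symplecticGroup (Fin d) F)) : Mat) = z • (1 : Mat)) :
    ∃ T, Setting (sympB d F) (-1) T r ∧ ∀ W : Submodule F (Fin d ⊕ Fin d → F), W.map T ≤ W →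
      W.map (Matrix.toLin' (x : Mat)) ≤ W := by
  obtain ⟨z, hz⟩ := hx
  have hzz := scalar_sq hd hz
  refine ⟨z • Matrix.toLin' (x : Mat), ⟨herm_sympB d, nd_sympB d, fun u v => ?_, ?_, hr, hrF⟩,
    fun W hW => map_le_smul (left_ne_zero_of_mul (hzz.symm ▸ one_ne_zero)) hW⟩
  · simp only [LinearMap.smul_apply, map_smul, iso_sp x u v, smul_eq_mul, ← mul_assoc, hzz, one_mul]
  · obtain ⟨k, hk⟩ := hr.odd_of_ne_two hr2
    rw [_root_.smul_pow, toLin_pow hz, smul_smul, hk, pow_succ, pow_mul, pow_two, hzz, one_pow, one_mul, hzz, one_smul]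

/-- A model gives an element fixing no more than the model does. -/
theorem exists_elt_of_model {V : Type u} [AddCommGroup V] [Module F V] [FiniteDimensional F V]
    {B : V →ₗ[F] V →ₛₗ[RingHom.id F] F} {T : Module.End F V} {r : ℕ} (hM : Model B (-1) T)
    (hs : Setting B (-1) T r) (hr2 : r ≠ 2) (hd : finrank F V = 2 * d) (hd0 : 0 < d) (hmov : movS T ≠ ⊥) :
    ∃ x : ↥(Matrix.symplecticGroup (Fin d) F),
      (∃ z : F, ((x ^ r : ↥(Matrix.symplecticGroup (Fin d) F)) : Mat) = z • (1 : Mat)) ∧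
      (∀ z : F, (x : Mat) ≠ z • (1 : Mat)) ∧
      ∀ W : Submodule F (Fin d ⊕ Fin d → F), W.map (Matrix.toLin' (x : Mat)) ≤ W →
        ∃ W' : Submodule F V, W'.map T ≤ W' ∧ finrank F W' = finrank F W ∧
          ((∀ u ∈ W, ∀ v ∈ W, Cfsg.sympForm d F u v = 0) → TI B W') ∧
          ((∀ u ∈ W, u ≠ 0 → ∃ v ∈ W, Cfsg.sympForm d F u v ≠ 0) → NdOn B W') := by
  obtain ⟨x, φ, hx, hφ⟩ := exists_sp_elt hM hd
  have hpow : ∀ k v, (Matrix.toLin' (x : Mat) ^ k) (φ v) = φ ((T ^ k) v) := by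
    intro k
    induction k with
    | zero => intro v; rfl
    | succ k ih => intro v; rw [pow_succ', Module.End.mul_apply, ih, hx, pow_succ', Module.End.mul_apply]
  refine ⟨x, ⟨1, ?_⟩, fun z hz => hmov ?_, fun W hW => ?_⟩
  · rw [SubmonoidClass.coe_pow, one_smul]
    apply Matrix.toLinAlgEquiv'.injective
    rw [map_pow, map_one]
    refine LinearMap.ext fun v => ?_
    obtain ⟨v, rfl⟩ := φ.surjective v
    exact (hpow r v).trans (by rw [hs.pow]; rfl)
  · have hT : ∀ v, T v = z • v := fun v => φ.injective <| by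
      rw [← hx, hz, map_smul, LinearMap.smul_apply, Matrix.toLin'_one, LinearMap.id_apply, map_smul]
    refine (Submodule.eq_bot_iff _).2 fun v hv => ?_
    by_contra hv0
    refine hv0 (hs.mov_eq_zero hv ?_)
    have hzr : z ^ r = 1 := by
      have h2 : ∀ k, (T ^ k) v = z ^ k • v := by
        intro k
        induction k with
        | zero => simp
        | succ k ih => rw [pow_succ', Module.End.mul_apply, ih, map_smul, hT, smul_smul, ← pow_succ]
      have := h2 r
      rw [hs.pow, Module.End.one_apply] at this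
      by_contra hne
      exact hv0 ((smul_eq_zero.1 (show (z ^ r - 1) • v = 0 by rw [sub_smul, one_smul, ← this, sub_self])).resolve_left
        (sub_ne_zero.2 hne))
    obtain ⟨w, hw⟩ : ∃ w, B v w ≠ 0 := by
      by_contra hh
      push Not at hh
      exact hv0 (hs.nd v trivial fun w _ => hh w)
    have hzz : z * z = 1 := by
      have h3 := hs.iso v w
      rw [hT, hT] at h3
      simp only [map_smul, LinearMap.smul_apply, smul_eq_mul, ← mul_assoc] at h3
      exact (mul_left_eq_self₀.1 h3).resolve_right hw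
    obtain ⟨k, hk⟩ := hs.prime.odd_of_ne_two hr2
    rw [hk, pow_succ, pow_mul, pow_two, hzz, one_pow, one_mul] at hzr
    rw [hT, hzr, one_smul]
  · refine ⟨W.comap φ.toLinearMap, map_le_iff.2 fun v hv => ?_, ?_, fun h u hu v hv => ?_, fun h u hu hall => ?_⟩
    · show φ (T v) ∈ W
      rw [← hx]; exact hW ⟨φ v, hv, rfl⟩
    · rw [Submodule.comap_equiv_eq_map_symm, LinearEquiv.finrank_map_eq]
    · rw [← hφ]; exact h _ hu _ hv
    · by_contra h0
      obtain ⟨w, hw, hne⟩ := h _ hu fun e => h0 (φ.map_eq_zero_iff.1 e)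
      obtain ⟨w, rfl⟩ := φ.surjective w
      exact hne ((hφ _ _).trans (hall w hw))

/-! ### Shapes -/

variable [Fintype F] {p : ℕ} [Fact p.Prime] [CharP F p] {r : ℕ} [Fact r.Prime] {q i : ℕ}

theorem cast_ne_of_ne (hrp : r ≠ p) : (r : F) ≠ 0 := fun h =>
  hrp ((Nat.prime_dvd_prime_iff_eq (Fact.out : p.Prime) (Fact.out : r.Prime)).1 ((CharP.cast_eq_zero_iff F p r).1 h)).symm

omit [Fintype F] in
theorem q_ne_zero_mod {n : ℕ} (hrp : r ≠ p) (hn : q = p ^ n) : (q : ZMod r) ≠ 0 := by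
  rw [hn, Ne, ZMod.natCast_eq_zero_iff]
  exact fun h => hrp ((Nat.prime_dvd_prime_iff_eq (Fact.out : r.Prime) (Fact.out : p.Prime)).1
    ((Fact.out : r.Prime).dvd_of_dvd_pow h))

theorem order_pos_sp (hq : Fintype.card F = q) (hrp : r ≠ p) (hi : i = orderOf (q : ZMod r)) : 0 < i := by
  obtain ⟨n, -, hn⟩ := FiniteField.card F p
  have hne := q_ne_zero_mod (p := p) (q := q) hrp (n := n) (by rw [← hq, hn])
  have : IsOfFinOrder (Units.mk0 _ hne) := isOfFinOrder_of_finite _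
  have := this.orderOf_pos
  rw [← orderOf_units, Units.val_mk0] at this
  rwa [hi]

/-- Half the order gives the inversion. -/
theorem pow_half_eq_neg_one (hq : Fintype.card F = q) (hrp : r ≠ p) (hi : i = orderOf (q : ZMod r)) (he : Even i) :
    (q : ZMod r) ^ (i / 2) = -1 := by
  obtain ⟨h, hh⟩ := he
  have hpos := order_pos_sp hq hrp hi
  have h1 : ((q : ZMod r) ^ h) * (q : ZMod r) ^ h = 1 := by rw [← pow_add, ← hh, hi, pow_orderOf_eq_one]
  rw [show i / 2 = h by omega]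
  refine (mul_self_eq_one_iff.mp h1).resolve_left fun h2 => ?_
  have := Nat.le_of_dvd (by omega) (hi ▸ orderOf_dvd_of_pow_eq_one h2)
  omega

/-- The shape of the moved space. -/
theorem shape_mov_sp (hq : Fintype.card F = q) (hrp : r ≠ p) (hr2 : r ≠ 2) (hi : i = orderOf (q : ZMod r))
    {T : Module.End F (Fin d ⊕ Fin d → F)} (hs : Setting (sympB d F) (-1) T r) :
    Shape (sympB d F) T (movS T) i (if Even i then i else 2 * i) (if Even i then r - 1 else 0) := by
  subst hq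
  obtain ⟨n, -, hn⟩ := FiniteField.card F p
  have hpos : 0 < orderOf ((Fintype.card F : ℕ) : ZMod r) := hi ▸ order_pos_sp rfl hrp hi
  by_cases he : Even i
  · rw [if_pos he, if_pos he, hi]
    refine shape_mov_self hs hr2 (Or.inr rfl) (p := p) (Q1 := Fintype.card F ^ (i / 2))
      ⟨n * (i / 2), by rw [hn, pow_mul]⟩ ?_ (fun a => (FiniteField.pow_card_pow _ a).symm) hpos
    rw [← ZMod.natCast_eq_zero_iff, Nat.cast_add, Nat.cast_pow, pow_half_eq_neg_one rfl hrp hi he, Nat.cast_one,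
      neg_add_cancel]
  · rw [if_neg he, if_neg he, hi]
    refine shape_mov_pair hs (p := p) (t := 1) ⟨0, rfl⟩ (fun a => (pow_one a).symm) (fun j hj => he ?_) hpos
    rw [Nat.cast_one] at hj
    have h2 : ((Fintype.card F : ℕ) : ZMod r) ^ (2 * j) = 1 := by rw [mul_comm, pow_mul, hj, neg_one_sq]
    have h3 : ¬ orderOf ((Fintype.card F : ℕ) : ZMod r) ∣ j := fun h => by
      rw [orderOf_dvd_iff_pow_eq_one.1 h] at hj
      refine hr2 ((Nat.prime_dvd_prime_iff_eq (Fact.out : r.Prime) Nat.prime_two).1 ?_)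
      rw [← ZMod.natCast_eq_zero_iff, Nat.cast_ofNat]
      linear_combination hj
    by_contra hodd
    refine h3 ((Nat.Coprime.dvd_mul_left ?_).1 (orderOf_dvd_of_pow_eq_one h2))
    rw [← hi]
    exact Nat.coprime_two_right.2 (Nat.not_even_iff_odd.1 hodd)

/-- `c` divides the exponents occurring in the order of the group. -/
theorem c_dvd {e c : ℕ} (hq : Fintype.card F = q) (hi : i = orderOf (q : ZMod r))
    (hc : c = if Even i then i else 2 * i) (h : r ∣ q ^ (2 * e) - 1) : c ∣ 2 * e := by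
  have h1 : i ∣ 2 * e := by
    rw [hi]
    refine orderOf_dvd_of_pow_eq_one ?_
    rw [← sub_eq_zero, ← Nat.cast_pow, ← Nat.cast_one,
      ← Nat.cast_sub (Nat.one_le_pow _ _ (hq ▸ Fintype.card_pos)), ZMod.natCast_eq_zero_iff]
    exact h
  rw [hc]
  split_ifs with he
  · exact h1
  · exact mul_dvd_mul_left 2 ((Nat.coprime_two_right.2 (Nat.not_even_iff_odd.1 he)).dvd_of_dvd_mul_left h1)

/-- A model moving `A` blocks. -/
theorem exists_dim_model (hq : Fintype.card F = q) (hrp : r ≠ p) (hr2 : r ≠ 2) (hi : i = orderOf (q : ZMod r))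
    {c : ℕ} (hc : c = if Even i then i else 2 * i) {A : ℕ} (hA : 0 < A) (hAd : A * c ≤ 2 * d) :
    ∃ (V : Type u) (_ : AddCommGroup V) (_ : Module F V)
      (_ : FiniteDimensional F V) (B : V →ₗ[F] V →ₛₗ[RingHom.id F] F) (T : Module.End F V),
      Model B (-1) T ∧ Setting B (-1) T r ∧ finrank F (fixS T) = 2 * d - A * c ∧ finrank F (movS T) = A * c ∧
      ∃ S, Shape B T (movS T) i c S := by
  subst hq
  have hrF := cast_ne_of_ne (F := F) hrp
  have hpos := order_pos_sp rfl hrp hi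
  obtain ⟨n, -, hn⟩ := FiniteField.card F p
  have hce : 2 ∣ c := by rw [hc]; split_ifs with he; exacts [he.two_dvd, dvd_mul_right 2 i]
  obtain ⟨h', hh'⟩ : 2 ∣ 2 * d - A * c := Nat.dvd_sub (dvd_mul_right 2 d) (hce.trans (dvd_mul_left c A))
  obtain ⟨V₁, _, _, _, B₁, hM₁, hV₁⟩ := exists_alt_fix (F := F) h'
  by_cases he : Even i
  · rw [if_pos he] at hc
    subst hc hi
    have hQr : r ∣ Fintype.card F ^ (orderOf ((Fintype.card F : ℕ) : ZMod r) / 2) + 1 := by
      rw [← ZMod.natCast_eq_zero_iff, Nat.cast_add, Nat.cast_pow, pow_half_eq_neg_one rfl hrp rfl he, Nat.cast_one,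
        neg_add_cancel]
    by_cases hodd : Odd A
    · obtain ⟨V, _, _, _, B, T, hM, hs, hfix, hmov, -⟩ := exists_self_witness hM₁ (Or.inr rfl) (Or.inr rfl)
        hr2 hrF (p := p) ⟨_, by rw [hn, ← pow_mul]⟩ hQr (fun a => (FiniteField.pow_card_pow _ a).symm)
        (by rw [← pow_add]; congr 1; obtain ⟨k, hk⟩ := he; omega) (A := A) (o := 1) le_rfl hA
        (by
          rw [one_mul]
          have := orderOf_dvd_of_pow_eq_one (ZMod.pow_card_sub_one_eq_one
            (q_ne_zero_mod (p := p) (q := Fintype.card F) hrp hn))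
          exact Nat.le_of_dvd (by have := (Fact.out : r.Prime).two_le; omega) this)
        (by obtain ⟨k, hk⟩ := hodd; exact ⟨k, by omega⟩)
      exact ⟨V, _, _, inferInstance, B, T, hM, hs, hfix.trans (hV₁.trans hh'.symm), hmov, _,
        shape_mov_self hs hr2 (Or.inr rfl) (p := p) ⟨_, by rw [hn, ← pow_mul]⟩ hQr
          (fun a => (FiniteField.pow_card_pow _ a).symm) hpos⟩
    · obtain ⟨V, _, _, _, B, T, hM, hs, hfix, hmov⟩ := exists_pair_witness (r := r) hM₁ (fun _ => rfl) (by simp) hrF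
        (p := p) (t := 1) ⟨0, rfl⟩ (fun a => (pow_one a).symm) (A / 2)
      refine ⟨V, _, _, inferInstance, B, T, hM, hs, hfix.trans (hV₁.trans hh'.symm), ?_, _,
        shape_mov_self hs hr2 (Or.inr rfl) (p := p) ⟨_, by rw [hn, ← pow_mul]⟩ hQr
          (fun a => (FiniteField.pow_card_pow _ a).symm) hpos⟩
      rw [hmov, ← mul_assoc, Nat.two_mul_div_two_of_even (Nat.not_odd_iff_even.1 hodd)]
  · rw [if_neg he] at hc
    subst hc hi
    obtain ⟨V, _, _, _, B, T, hM, hs, hfix, hmov⟩ := exists_pair_witness (r := r) hM₁ (fun _ => rfl) (by simp) hrF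
      (p := p) (t := 1) ⟨0, rfl⟩ (fun a => (pow_one a).symm) A
    refine ⟨V, _, _, inferInstance, B, T, hM, hs, hfix.trans (hV₁.trans hh'.symm), by rw [hmov, mul_left_comm], _,
      shape_mov_pair hs (p := p) (t := 1) ⟨0, rfl⟩ (fun a => (pow_one a).symm) (fun j hj => he ?_) hpos⟩
    rw [Nat.cast_one] at hj
    have h2 : ((Fintype.card F : ℕ) : ZMod r) ^ (2 * j) = 1 := by rw [mul_comm, pow_mul, hj, neg_one_sq]
    have h3 : ¬ orderOf ((Fintype.card F : ℕ) : ZMod r) ∣ j := fun h => by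
      rw [orderOf_dvd_iff_pow_eq_one.1 h] at hj
      refine hr2 ((Nat.prime_dvd_prime_iff_eq (Fact.out : r.Prime) Nat.prime_two).1 ?_)
      rw [← ZMod.natCast_eq_zero_iff, Nat.cast_ofNat]
      linear_combination hj
    by_contra hodd
    exact h3 ((Nat.coprime_two_right.2 (Nat.not_even_iff_odd.1 hodd)).dvd_of_dvd_mul_left
      (orderOf_dvd_of_pow_eq_one h2))

/-- An element moving `A` blocks. -/
theorem exists_dim_witness (hq : Fintype.card F = q) (hrp : r ≠ p) (hr2 : r ≠ 2) (hi : i = orderOf (q : ZMod r))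
    {c : ℕ} (hc : c = if Even i then i else 2 * i) (hd0 : 0 < d) {A : ℕ} (hA : 0 < A) (hAd : A * c ≤ 2 * d) :
    ∃ x : ↥(Matrix.symplecticGroup (Fin d) F),
      (∃ z : F, ((x ^ r : ↥(Matrix.symplecticGroup (Fin d) F)) : Mat) = z • (1 : Mat)) ∧
      (∀ z : F, (x : Mat) ≠ z • (1 : Mat)) ∧
      ∀ W : Submodule F (Fin d ⊕ Fin d → F), W.map (Matrix.toLin' (x : Mat)) ≤ W →
        ((∀ u ∈ W, ∀ v ∈ W, Cfsg.sympForm d F u v = 0) →
          ∃ u k, 2 * u ≤ 2 * d - A * c ∧ u + k * i = finrank F W) ∧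
        ((∀ u ∈ W, u ≠ 0 → ∃ v ∈ W, Cfsg.sympForm d F u v ≠ 0) →
          ∃ e k, e ≤ 2 * d - A * c ∧ e + k * c = finrank F W) := by
  obtain ⟨V, _, _, _, B, T, hM, hs, hfix, hmov, hsh⟩ := exists_dim_model (F := F) (d := d) hq hrp hr2 hi hc hA hAd
  have hpos := order_pos_sp hq hrp hi
  obtain ⟨S, hsh⟩ := hsh
  have hdim : finrank F V = 2 * d := by rw [← hs.finrank_add, hfix, hmov]; omega
  obtain ⟨x, hx1, hx2, hx3⟩ := exists_elt_of_model hM hs hr2 hdim hd0 fun h => by
    rw [h, finrank_bot] at hmov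
    have : 0 < c := by rw [hc]; split_ifs <;> omega
    have := Nat.mul_pos hA this
    omega
  refine ⟨x, hx1, hx2, fun W hW => ⟨fun h => ?_, fun h => ?_⟩⟩
  · obtain ⟨W', hW', hWd, hTI, -⟩ := hx3 W hW
    obtain ⟨u, k, hu, -, huk, -⟩ := hs.dims_TI hsh hW' (hTI h)
    exact ⟨u, k, hfix ▸ hu, huk.trans hWd⟩
  · obtain ⟨W', hW', hWd, -, hnd⟩ := hx3 W hW
    obtain ⟨e, k, he, -, hek⟩ := hs.dims_nd hsh hW' (hnd h)
    exact ⟨e, k, hfix ▸ he, hek.trans hWd⟩

end H44.Elu
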