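import Mathlib
import Cfsg.Agent.H44.Elu.SpCases

/-!
Elements of order two and elements with many odd multiplicities in the symplectic groups.
-/

set_option autoImplicit false

open Polynomial Module

namespace H44.Elu

universe u

variable {F : Type u} [Field F] {d : ℕ}

local notation "Mat" => Matrix (Fin d ⊕ Fin d) (Fin d ⊕ Fin d) F

theorem noNd_one {V : Type*} [AddCommGroup V] [Module F V] {σ : F →+* F} {B : V →ₗ[F] V →ₛₗ[σ] F}
    {T : Module.End F V} (halt : ∀ v, B v v = 0) (W : Submodule F V) : NoNd B T W 1 := fun N _ _ hN hn => by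
  obtain ⟨v, hv, hv0⟩ := finrank_eq_one_iff'.1 hN
  refine hv (Subtype.ext (hn v v.2 fun w hw => ?_))
  obtain ⟨a, ha⟩ := hv0 ⟨w, hw⟩
  rw [show w = a • (v : V) from (congrArg Subtype.val ha).symm, LinearMap.map_smulₛₗ, halt, smul_zero]

variable [Fintype F] {p : ℕ} [Fact p.Prime] [CharP F p] {q : ℕ}

omit [Fintype F] [Fact p.Prime] in
theorem two_ne (hp : p.Prime) (hp2 : p ≠ 2) : (2 : F) ≠ 0 := fun h =>
  hp2 ((Nat.prime_dvd_prime_iff_eq hp Nat.prime_two).1 ((CharP.cast_eq_zero_iff F p 2).1 (by exact_mod_cast h)))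

theorem neg_one_not_sq (hq : Fintype.card F = q) (h4 : q % 4 = 3) (b : F) : b ^ 2 ≠ (-1 : F) := fun hb =>
  FiniteField.isSquare_neg_one_iff.1 ⟨b, by rw [← hb, pow_two]⟩ (hq.symm ▸ h4)

theorem sp_sq_cases {x : ↥(Matrix.symplecticGroup (Fin d) F)} (hd : 0 < d)
    (hx : ∃ z : F, ((x ^ 2 : ↥(Matrix.symplecticGroup (Fin d) F)) : Mat) = z • (1 : Mat)) :
    (Matrix.toLin' (x : Mat) : Module.End F (Fin d ⊕ Fin d → F)) ^ 2 = 1 ∨
      (Matrix.toLin' (x : Mat) : Module.End F (Fin d ⊕ Fin d → F)) ^ 2 = (-1 : F) • 1 := by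
  obtain ⟨z, hz⟩ := hx
  rcases mul_self_eq_one_iff.1 (scalar_sq hd hz) with rfl | rfl
  · exact Or.inl (by rw [toLin_pow hz, one_smul])
  · exact Or.inr (toLin_pow hz)

/-- The shapes of an involution. -/
theorem shapes_invol (hp2 : p ≠ 2) {T : Module.End F (Fin d ⊕ Fin d → F)} (hI : Iso (sympB d F) T) (hT : T ^ 2 = 1) :
    Setting (sympB d F) (-1) T 2 ∧ Shape (sympB d F) T (fixS T) 1 2 0 ∧ Shape (sympB d F) T (movS T) 1 2 0 := by
  have hs : Setting (sympB d F) (-1) T 2 :=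
    ⟨herm_sympB d, nd_sympB d, hI, hT, Nat.prime_two, by exact_mod_cast two_ne (F := F) (Fact.out : p.Prime) hp2⟩
  haveI := Fact.mk Nat.prime_two
  refine ⟨hs, shape_fix_alt hs sympB_self, ?_⟩
  have hb : orderOf ((Fintype.card F : ℕ) : ZMod 2) = 1 := by
    rw [orderOf_eq_one_iff, ← Nat.cast_one, ZMod.natCast_eq_natCast_iff']
    have := FiniteField.odd_card_of_char_ne_two (F := F) (by rw [ringChar.eq F p]; exact hp2)
    omega
  have h := (part_mov hs).shape_pair hs.herm hs.iso hs.inj hs.ss (hb.symm ▸ noNd_one sympB_self _)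
  rwa [hb] at h

/-- The shape of an element squaring to minus one. -/
theorem shape_neg (hq : Fintype.card F = q) (hp2 : p ≠ 2) {T : Module.End F (Fin d ⊕ Fin d → F)}
    (hI : Iso (sympB d F) T) (hT : T ^ 2 = (-1 : F) • 1) :
    Shape (sympB d F) T ⊤ (if q % 4 = 1 then 1 else 2) 2 (if q % 4 = 1 then 0 else 2) := by
  have h2 := two_ne (F := F) (Fact.out : p.Prime) hp2
  have hg : aeval T (X ^ 2 - C (-1) : F[X]) = 0 := H46.Elusive.aeval_X_pow_sub hT
  have hss : T.IsSemisimple := Module.End.isSemisimple_of_squarefree_aeval_eq_zero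
    (H46.Elusive.squarefree_X_pow_sub (by exact_mod_cast h2) (neg_ne_zero.2 one_ne_zero)) hg
  have hg0 : (X ^ 2 - C (-1) : F[X]) ≠ 0 := X_pow_sub_C_ne_zero two_pos _
  have hinj := hI.injective (nd_sympB d)
  have hodd : q % 4 = 1 ∨ q % 4 = 3 := by
    have := FiniteField.odd_card_of_char_ne_two (F := F) (by rw [ringChar.eq F p]; exact hp2)
    rw [hq] at this; omega
  have hdeg : ∀ P : F[X], P ∣ X ^ 2 - C (-1) → P.natDegree ≤ 2 := fun P hd =>
    (natDegree_le_of_dvd hd hg0).trans natDegree_X_pow_sub_C.le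
  rcases hodd with h4 | h4
  · rw [if_pos h4, if_pos h4]
    obtain ⟨s, hs⟩ : IsSquare (-1 : F) := FiniteField.isSquare_neg_one_iff.2 (by omega)
    have hfac : (X ^ 2 - C (-1) : F[X]) = (X - C s) * (X - C (-s)) := by
      rw [hs, map_mul, map_neg]; ring
    refine Part.shape_pair (g := X ^ 2 - C (-1)) ⟨le_top, nd_sympB d, hg0, fun v _ => by rw [LinearMap.mem_ker, hg, LinearMap.zero_apply], fun P hP hd => ?_,
      fun _ _ _ => one_dvd _⟩ (herm_sympB d) hI hinj hss (noNd_one sympB_self _)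
    rw [hfac] at hd
    rcases hP.prime.dvd_or_dvd hd with h | h <;>
      exact (natDegree_le_of_dvd h (X_sub_C_ne_zero _)).trans (natDegree_X_sub_C _).le
  · rw [if_neg (by omega : q % 4 ≠ 1), if_neg (by omega : q % 4 ≠ 1)]
    haveI := Fact.mk Nat.prime_two
    obtain ⟨n, -, hn⟩ := FiniteField.card F p
    have hp := Part.shape_self (g := X ^ 2 - C (-1)) (b := 2) (W := ⊤)
      ⟨le_top, nd_sympB d, hg0, fun v _ => by rw [LinearMap.mem_ker, hg, LinearMap.zero_apply], fun P _ hd => hdeg P hd,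
        fun N _ hN => H46.Elusive.prime_dvd_dim (fun b => neg_one_not_sq hq h4 b) hT N hN⟩
      (herm_sympB d) hI hinj hss (p := p) (Q1 := q) ⟨inferInstance, Fact.out, ⟨n, by rw [← hq, hn]⟩, fun v _ => by
        obtain ⟨k, hk⟩ : ∃ k, q + 1 = 4 * k := ⟨(q + 1) / 4, by omega⟩
        rw [hk, pow_mul, show T ^ 4 = (T ^ 2) ^ 2 by rw [← pow_mul], hT, _root_.smul_pow, neg_one_sq, one_pow,
          one_smul, one_pow]
        rfl, fun a => by rw [← hq]; exact (FiniteField.pow_card a).symm⟩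
      (Or.inr ⟨rfl, fun v _ h => by
        have := LinearMap.congr_fun hT v
        rw [pow_two, Module.End.mul_apply, h, LinearMap.smul_apply, Module.End.one_apply, neg_one_smul] at this
        exact (smul_eq_zero.1 (show (2 : F) • v = 0 by rw [two_smul]; nth_rewrite 2 [this]; exact add_neg_cancel v)).resolve_left h2⟩)
      two_pos
    rwa [natDegree_X_pow_sub_C] at hp

variable {r : ℕ} [Fact r.Prime] {i : ℕ}

/-- An element with `o` classes of odd multiplicity. -/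
theorem exists_mult_witness (hq : Fintype.card F = q) (hrp : r ≠ p) (hr2 : r ≠ 2) (hi : i = orderOf (q : ZMod r))
    (he : Even i) (hd0 : 0 < d) {A o : ℕ} (ho : 1 ≤ o) (hoA : o ≤ A) (hos : o * i ≤ r - 1) (hev : Even (A - o))
    (hAd : A * i ≤ 2 * d) :
    ∃ x : ↥(Matrix.symplecticGroup (Fin d) F),
      (∃ z : F, ((x ^ r : ↥(Matrix.symplecticGroup (Fin d) F)) : Mat) = z • (1 : Mat)) ∧
      (∀ z : F, (x : Mat) ≠ z • (1 : Mat)) ∧
      ∀ W : Submodule F (Fin d ⊕ Fin d → F), W.map (Matrix.toLin' (x : Mat)) ≤ W →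
        (∀ u ∈ W, ∀ v ∈ W, Cfsg.sympForm d F u v = 0) → 2 * finrank F W + o * i ≤ 2 * d := by
  subst hq hi
  obtain ⟨n, -, hn⟩ := FiniteField.card F p
  have hpos := order_pos_sp (F := F) rfl hrp rfl
  have hQr : r ∣ Fintype.card F ^ (orderOf ((Fintype.card F : ℕ) : ZMod r) / 2) + 1 := by
    rw [← ZMod.natCast_eq_zero_iff, Nat.cast_add, Nat.cast_pow, pow_half_eq_neg_one rfl hrp rfl he, Nat.cast_one,
      neg_add_cancel]
  obtain ⟨h', hh'⟩ : 2 ∣ 2 * d - A * orderOf ((Fintype.card F : ℕ) : ZMod r) :=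
    Nat.dvd_sub (dvd_mul_right 2 d) (he.two_dvd.trans (dvd_mul_left _ A))
  obtain ⟨V₁, _, _, _, B₁, hM₁, hV₁⟩ := exists_alt_fix (F := F) h'
  obtain ⟨V, _, _, _, B, T, hM, hs, hfix, hmov, hbound⟩ := exists_self_witness hM₁ (Or.inr rfl) (Or.inr rfl)
    hr2 (cast_ne_of_ne (F := F) hrp) (p := p) ⟨_, by rw [hn, ← pow_mul]⟩ hQr
    (fun a => (FiniteField.pow_card_pow _ a).symm)
    (by rw [← pow_add]; congr 1; obtain ⟨k, hk⟩ := he; omega) ho hoA hos hev
  obtain ⟨x, hx1, hx2, hx3⟩ := exists_elt_of_model hM hs hr2 (d := d) (by rw [← hs.finrank_add, hfix, hV₁, hmov]; omega)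
    hd0 fun h => by
      rw [h, finrank_bot] at hmov
      have := Nat.mul_pos (show 0 < A by omega) hpos
      omega
  refine ⟨x, hx1, hx2, fun W hW hWT => ?_⟩
  obtain ⟨W', hW', hWd, hTI, -⟩ := hx3 W hW
  have hsh := shape_mov_self hs hr2 (Or.inr rfl) (p := p) ⟨_, by rw [hn, ← pow_mul]⟩ hQr
    (fun a => (FiniteField.pow_card_pow _ a).symm) hpos
  obtain ⟨u, k, hu, -, huk, U, hU, hUi, hUT, hUd⟩ := hs.dims_TI hsh hW' (hTI hWT)
  have := hbound U hU hUi hUT
  rw [hfix, hV₁] at hu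
  rw [hmov] at this
  omega

end H44.Elu
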