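import Mathlib
import Cfsg.Agent.H44.Elu.SpTwo
import Cfsg.Agent.H44.Elu.CountNd
import Cfsg.Agent.H46.ElusiveImprim
import Cfsg.Prelude.Def_GeometricClasses

/-!
Orthogonal decompositions into nondegenerate subspaces and elements of odd prime order.
-/

set_option autoImplicit false

open Polynomial Module

namespace H44.Elu

universe u

variable {F : Type u} [Field F] [Fintype F] {p : ℕ} [Fact p.Prime] [CharP F p] {q d r i c : ℕ} [Fact r.Prime]

/-- Nondegenerate invariant subspaces inside a nondegenerate invariant part of the moved space. -/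
theorem mov_ndsub (hq : Fintype.card F = q) (hrp : r ≠ p) (hr2 : r ≠ 2) (hi : i = orderOf (q : ZMod r))
    (hc : c = if Even i then i else 2 * i) {T : Module.End F (Fin d ⊕ Fin d → F)}
    (hs : Setting (sympB d F) (-1) T r) {N : Submodule F (Fin d ⊕ Fin d → F)} (hN : N ≤ movS T) (hNi : N.map T ≤ N)
    (hNn : NdOn (sympB d F) N) {k : ℕ} (hk : k * c ≤ finrank F N) :
    ∃ D ≤ N, D.map T ≤ D ∧ NdOn (sympB d F) D ∧ finrank F D = k * c := by
  subst hq
  obtain ⟨n, -, hn⟩ := FiniteField.card F p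
  have hpos : 0 < orderOf ((Fintype.card F : ℕ) : ZMod r) := hi ▸ order_pos_sp rfl hrp hi
  have hp := (part_mov hs).mono hN hNi hNn
  by_cases he : Even i
  · rw [hc, if_pos he, hi] at hk ⊢
    have hS : SelfPOn (RingHom.id F) T p (Fintype.card F ^ (i / 2)) (movS T) :=
      ⟨inferInstance, Fact.out, ⟨n * (i / 2), by rw [hn, pow_mul]⟩, fun v _ => by
        have hQr : r ∣ Fintype.card F ^ (i / 2) + 1 := by
          rw [← ZMod.natCast_eq_zero_iff, Nat.cast_add, Nat.cast_pow, pow_half_eq_neg_one rfl hrp hi he, Nat.cast_one,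
            neg_add_cancel]
        obtain ⟨l, hl⟩ := hQr
        rw [hl, pow_mul, hs.pow, one_pow]; rfl, fun a => (FiniteField.pow_card_pow _ a).symm⟩
    refine (hp.shape_self hs.herm hs.iso hs.inj hs.ss (hS.mono hN) (Or.inr ⟨rfl, fun v hv h2 => ?_⟩) hpos).ndsub k hk
    refine hs.mov_eq_zero (hN hv) ?_
    have h3 : ∀ l, (T ^ (2 * l)) v = v := by
      intro l
      induction l with
      | zero => rfl
      | succ l ih => rw [Nat.mul_succ, pow_add, Module.End.mul_apply, pow_two, Module.End.mul_apply, h2, ih]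
    obtain ⟨l, hl⟩ := hs.prime.odd_of_ne_two hr2
    have := LinearMap.congr_fun hs.pow v
    rw [hl, pow_succ', Module.End.mul_apply, h3] at this
    exact this
  · rw [hc, if_neg he, hi] at hk ⊢
    refine (hp.shape_pair hs.herm hs.iso hs.inj hs.ss fun M hM => ?_).ndsub k hk
    refine noNd_mov hs (p := p) (t := 1) ⟨0, rfl⟩ (fun a => (pow_one a).symm) (fun j hj => he ?_) hpos M (hM.trans hN)
    rw [Nat.cast_one] at hj
    have h2 : ((Fintype.card F : ℕ) : ZMod r) ^ (2 * j) = 1 := by rw [mul_comm, pow_mul, hj, neg_one_sq]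
    have h3 : ¬ orderOf ((Fintype.card F : ℕ) : ZMod r) ∣ j := fun h => by
      rw [orderOf_dvd_iff_pow_eq_one.1 h] at hj
      refine hr2 ((Nat.prime_dvd_prime_iff_eq (Fact.out : r.Prime) Nat.prime_two).1 ?_)
      rw [← ZMod.natCast_eq_zero_iff, Nat.cast_ofNat]
      linear_combination hj
    by_contra hodd
    refine h3 ((Nat.Coprime.dvd_mul_left ?_).1 (orderOf_dvd_of_pow_eq_one h2))
    rw [← hi]
    exact Nat.coprime_two_right.2 (Nat.not_even_iff_odd.1 hodd)

omit [Fintype F] [Fact r.Prime] in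
theorem fix_ndsub {T : Module.End F (Fin d ⊕ Fin d → F)} (hs : Setting (sympB d F) (-1) T r)
    {N : Submodule F (Fin d ⊕ Fin d → F)} (hN : N ≤ fixS T) (hNn : NdOn (sympB d F) N) {e : ℕ} (he : Even e)
    (hk : e ≤ finrank F N) : ∃ D ≤ N, D.map T ≤ D ∧ NdOn (sympB d F) D ∧ finrank F D = e := by
  have hNi : N.map T ≤ N := map_le_iff.2 fun v hv => by rw [mem_fixS.1 (hN hv)]; exact hv
  obtain ⟨e', rfl⟩ := he.two_dvd
  obtain ⟨D, hD, hDi, hDn, hDd⟩ := (((part_fix hs).mono hN hNi hNn).shape_pair hs.herm hs.iso hs.inj hs.ss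
    (noNd_one sympB_self N)).ndsub e' (by omega)
  exact ⟨D, hD, hDi, hDn, by omega⟩

omit [Fintype F] in
/-- Repeated orthogonal splitting. -/
theorem exists_orth_split {T : Module.End F (Fin d ⊕ Fin d → F)} (hs : Setting (sympB d F) (-1) T r) {a l Q : ℕ}
    (hl : Even l) (hc : Even c) (ha : a = l + Q * c)
    (hmov : ∀ N ≤ movS T, N.map T ≤ N → NdOn (sympB d F) N → ∀ k, k * c ≤ finrank F N →
      ∃ D ≤ N, D.map T ≤ D ∧ NdOn (sympB d F) D ∧ finrank F D = k * c) :
    ∀ (t U : ℕ) (Wf Wm : Submodule F (Fin d ⊕ Fin d → F)), Wf ≤ fixS T → NdOn (sympB d F) Wf → Wm ≤ movS T →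
      Wm.map T ≤ Wm → NdOn (sympB d F) Wm → finrank F Wf = t * l + U * c → finrank F Wm + U * c = t * Q * c →
      U ≤ t * Q →
      ∃ D : Fin t → Submodule F (Fin d ⊕ Fin d → F), (∀ j, (D j).map T ≤ D j ∧ NdOn (sympB d F) (D j) ∧
          finrank F (D j) = a) ∧
        (∀ j j', j ≠ j' → ∀ u ∈ D j, ∀ v ∈ D j', sympB d F u v = 0) ∧ iSup D = Wf ⊔ Wm := by
  have hB := herm_sympB (F := F) d
  intro t
  induction t with
  | zero =>
    intro U Wf Wm _ _ _ _ _ h1 h2 h3
    obtain rfl : U = 0 := by omega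
    have e1 : Wf = ⊥ := Submodule.finrank_eq_zero.1 (by simpa using h1)
    have e2 : Wm = ⊥ := Submodule.finrank_eq_zero.1 (by simpa using h2)
    exact ⟨fun j => j.elim0, fun j => j.elim0, fun j => j.elim0, by rw [iSup_of_empty, e1, e2, sup_idem]⟩
  | succ t ih =>
    intro U Wf Wm hf hfn hm hmi hmn h1 h2 h3
    obtain ⟨u, hu⟩ : ∃ u, u = min U Q := ⟨_, rfl⟩
    obtain ⟨k, hk⟩ : ∃ k, k + u = Q := ⟨Q - u, by omega⟩
    obtain ⟨U', hU'⟩ : ∃ U', U = u + U' := ⟨U - u, by omega⟩
    have h3' : U' ≤ t * Q := by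
      rw [Nat.succ_mul] at h3
      rcases le_total U Q with h | h
      · have : U' = 0 := by omega
        omega
      · omega
    obtain ⟨s, hs'⟩ := Nat.exists_eq_add_of_le h3'
    have hWm : finrank F Wm = s * c + k * c := by
      have e1 : (t + 1) * Q * c = (U' + s) * c + (k + u) * c := by rw [← hs', hk, ← add_mul, ← Nat.succ_mul]
      rw [e1, hU'] at h2
      simp only [add_mul] at h2
      omega
    have hWf : finrank F Wf = t * l + U' * c + (l + u * c) := by
      rw [h1, hU']; ring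
    obtain ⟨Df, hDf, hDfi, hDfn, hDfd⟩ := fix_ndsub hs hf hfn (e := l + u * c) (hl.add (hc.mul_left u)) (by omega)
    obtain ⟨Dm, hDm, hDmi, hDmn, hDmd⟩ := hmov Wm hm hmi hmn k (by omega)
    have hfi : Wf.map T ≤ Wf := map_le_iff.2 fun v hv => by rw [mem_fixS.1 (hf hv)]; exact hv
    have hd1 := finrank_orth_inf hB hfn hDf
    have hd2 := finrank_orth_inf hB hmn hDm
    obtain ⟨D, hD, hDo, hDs⟩ := ih U' (Wf ⊓ orth (sympB d F) Df) (Wm ⊓ orth (sympB d F) Dm)
      (inf_le_left.trans hf) (ndOn_orth_inf hB hfn hDfn hDf) (inf_le_left.trans hm)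
      (inv_inf hmi (inv_orth hs.iso hs.inj hDmi)) (ndOn_orth_inf hB hmn hDmn hDm) (by omega)
      (by rw [hs', add_mul]; omega) h3'
    have hfm : ∀ (X Y : Submodule F (Fin d ⊕ Fin d → F)), X ≤ fixS T → Y ≤ movS T → Y ≤ orth (sympB d F) X :=
      fun X Y hX hY v hv w hw => hs.movS_le_orth (hY hv) w (hX hw)
    have ho : Dm ≤ orth (sympB d F) Df := hfm _ _ (hDf.trans hf) (hDm.trans hm)
    have hDj : ∀ j, D j ≤ orth (sympB d F) (Df ⊔ Dm) := fun j => by
      refine le_trans ((le_iSup D j).trans hDs.le) (sup_le ?_ ?_)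
      · intro v hv w hw
        obtain ⟨x, hx, y, hy, rfl⟩ := Submodule.mem_sup.1 hw
        have h0 : sympB d F v y = 0 := hB.refl (hfm _ _ (hf) (hm) (hDm hy) v hv.1)
        rw [map_add, hv.2 x hx, h0, add_zero]
      · intro v hv w hw
        obtain ⟨x, hx, y, hy, rfl⟩ := Submodule.mem_sup.1 hw
        rw [map_add, hfm _ _ (hDf.trans hf) hm hv.1 x hx, hv.2 y hy, add_zero]
    refine ⟨Fin.cons (Df ⊔ Dm) D, fun j => ?_, fun j j' hne => ?_, ?_⟩
    · refine Fin.cases ?_ (fun i => ?_) j
      · rw [Fin.cons_zero]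
        refine ⟨inv_sup hDfi hDmi, hDfn.sup hB hDmn ho, ?_⟩
        rw [finrank_sup_orth hDfn ho, hDfd, hDmd, ha, ← hk]; ring
      · rw [Fin.cons_succ]; exact hD i
    · revert hne
      refine Fin.cases ?_ (fun i => ?_) j <;> refine Fin.cases ?_ (fun i' => ?_) j'
      · exact fun h => absurd rfl h
      · intro _ x hx y hy
        rw [Fin.cons_zero] at hx
        rw [Fin.cons_succ] at hy
        exact hB.refl (hDj i' hy x hx)
      · intro _ x hx y hy
        rw [Fin.cons_succ] at hx
        rw [Fin.cons_zero] at hy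
        exact hDj i hx y hy
      · intro h x hx y hy
        rw [Fin.cons_succ] at hx hy
        exact hDo i i' (fun e => h (by rw [e])) x hx y hy
    · have e : ∀ G : Fin (t + 1) → Submodule F (Fin d ⊕ Fin d → F), iSup G = G 0 ⊔ ⨆ i : Fin t, G i.succ :=
        fun G => le_antisymm (iSup_le fun j => Fin.cases le_sup_left
          (fun i => le_sup_of_le_right (le_iSup (fun i : Fin t => G i.succ) i)) j)
          (sup_le (le_iSup G 0) (iSup_le fun i => le_iSup G i.succ))
      rw [e]
      simp only [Fin.cons_zero, Fin.cons_succ]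
      rw [show (⨆ i, D i) = iSup D from rfl, hDs, sup_sup_sup_comm, sup_orth_inf hB hfn hDfn hDf,
        sup_orth_inf hB hmn hDmn hDm]

omit [Fintype F] in
/-- Orthogonal nondegenerate summands are independent. -/
theorem indep_of_orth {t : ℕ} {D : Fin t → Submodule F (Fin d ⊕ Fin d → F)}
    (hn : ∀ j, NdOn (sympB d F) (D j)) (ho : ∀ j j', j ≠ j' → ∀ u ∈ D j, ∀ v ∈ D j', sympB d F u v = 0) :
    iSupIndep D := fun j => by
  refine Submodule.disjoint_def.2 fun u hu hu' => hn j u hu fun v hv => ?_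
  have hle : (⨆ (k) (_ : k ≠ j), D k) ≤ orth (sympB d F) (D j) := iSup₂_le fun k hk x hx w hw => ho k j hk x hx w hw
  exact hle hu' v hv

omit [Fact r.Prime] [Fact p.Prime] [CharP F p] in
/-- The number of ordered orthogonal decompositions divides the order of the group. -/
theorem card_orth_decomp_dvd {b t : ℕ} (hb : 0 < b) (ht : 2 ≤ t) (hdbt : d = b * t) :
    Nat.card {D : Fin t → Submodule F (Fin d ⊕ Fin d → F) // (Cfsg.Geo.IsMDecomposition (2 * b) D ∧
        (∀ j, ∀ u ∈ D j, u ≠ 0 → ∃ v ∈ D j, Cfsg.sympForm d F u v ≠ 0) ∧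
        (∀ j j', j ≠ j' → ∀ u ∈ D j, ∀ v ∈ D j', Cfsg.sympForm d F u v = 0))} ∣
      Nat.card (Matrix.symplecticGroup (Fin d) F) ∧
    Nat.factorial t ∣ Nat.card {D : Fin t → Submodule F (Fin d ⊕ Fin d → F) // (Cfsg.Geo.IsMDecomposition (2 * b) D ∧
        (∀ j, ∀ u ∈ D j, u ≠ 0 → ∃ v ∈ D j, Cfsg.sympForm d F u v ≠ 0) ∧
        (∀ j j', j ≠ j' → ∀ u ∈ D j, ∀ v ∈ D j', Cfsg.sympForm d F u v = 0))} := by
  classical
  let Q : (Fin t → Submodule F (Fin d ⊕ Fin d → F)) → Prop := fun D => (Cfsg.Geo.IsMDecomposition (2 * b) D ∧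
        (∀ j, ∀ u ∈ D j, u ≠ 0 → ∃ v ∈ D j, Cfsg.sympForm d F u v ≠ 0) ∧
        (∀ j j', j ≠ j' → ∀ u ∈ D j, ∀ v ∈ D j', Cfsg.sympForm d F u v = 0))
  let X := {D : Fin t → Submodule F (Fin d ⊕ Fin d → F) // Q D}
  have toNd : ∀ {D}, Q D → ∀ j, ∀ u ∈ D j, (∀ v ∈ D j, H48.sf u v = 0) → u = 0 := fun {D} h j u hu hv => by
    by_contra h0
    obtain ⟨v, hv', hne⟩ := h.2.1 j u hu h0
    exact hne (hv v hv')
  constructor
  · rcases isEmpty_or_nonempty X with he | ⟨⟨D₁, hD₁⟩⟩
    · show Nat.card X ∣ _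
      rw [Nat.card_of_isEmpty]
      -- the standard decomposition
      exfalso
      let e : Fin d ≃ Fin t × Fin b := (finCongr (by rw [hdbt, mul_comm])).trans finProdFinEquiv.symm
      let f : Fin t → Fin b ⊕ Fin b → (Fin d ⊕ Fin d → F) := fun j x =>
        Pi.single (Sum.map (fun u => e.symm (j, u)) (fun u => e.symm (j, u)) x) 1
      have hG : ∀ j j' x y, H48.sf (f j x) (f j' y) = if j = j' then Matrix.J (Fin b) F x y else 0 := by
        intro j j' x y
        show H48.sf (Pi.single _ 1) (Pi.single _ 1) = _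
        rw [H48.sf_def, Matrix.mulVec_single_one, single_dotProduct, one_mul]
        rcases x with x | x <;> rcases y with y | y <;> by_cases h : j = j' <;>
          simp [Matrix.J, Matrix.one_apply, h]
      have hh : ∀ j, H48.IsHyp H48.sf (f j) := fun j x y => (hG j j x y).trans (if_pos rfl)
      have horth : ∀ j j', j ≠ j' → ∀ u ∈ Submodule.span F (Set.range (f j)),
          ∀ v ∈ Submodule.span F (Set.range (f j')), H48.sf u v = 0 := by
        intro j j' hne u hu v hv
        obtain ⟨cu, rfl⟩ := (Submodule.mem_span_range_iff_exists_fun F).1 hu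
        obtain ⟨cv, rfl⟩ := (Submodule.mem_span_range_iff_exists_fun F).1 hv
        simp [map_sum, hG, hne]
      have hn : ∀ j, NdOn (sympB d F) (Submodule.span F (Set.range (f j))) := by
        intro j u hu h
        obtain ⟨cu, rfl⟩ := (Submodule.mem_span_range_iff_exists_fun F).1 hu
        have h1 : (H48.projMat (f j)).mulVec ((H48.colMat (f j)).mulVec cu) = 0 := H48.projMat_mulVec_eq_zero.2 fun x =>
          H48.sf_eq_zero_comm (by rw [H48.colMat_mulVec]; exact h _ (Submodule.subset_span ⟨x, rfl⟩))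
        rw [Matrix.mulVec_mulVec, H48.projMat_mul_colMat (hh j), Matrix.one_mulVec] at h1
        rw [h1]; simp
      refine he.false ⟨fun j => Submodule.span F (Set.range (f j)),
        ⟨ht, by omega, fun j => ?_, indep_of_orth hn horth, ?_⟩, fun j u hu h0 => ?_, horth⟩
      · rw [finrank_span_eq_card (hh j).linearIndependent, Fintype.card_sum, Fintype.card_fin, two_mul]
      · rw [eq_top_iff, ← (Pi.basisFun F (Fin d ⊕ Fin d)).span_eq, Submodule.span_le]
        rintro _ ⟨x, rfl⟩
        rw [Pi.basisFun_apply]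
        rcases x with x | x
        · exact Submodule.mem_iSup_of_mem (e x).1 (Submodule.subset_span ⟨Sum.inl (e x).2, by simp [f]⟩)
        · exact Submodule.mem_iSup_of_mem (e x).1 (Submodule.subset_span ⟨Sum.inr (e x).2, by simp [f]⟩)
      · by_contra hh'
        push Not at hh'
        exact h0 (hn j u hu hh')
    -- transitivity
    let img : Matrix.symplecticGroup (Fin d) F → Fin t → Submodule F (Fin d ⊕ Fin d → F) :=
      fun g j => (D₁ j).map (g.1).mulVecLin
    have hinj : ∀ g : Matrix.symplecticGroup (Fin d) F, Function.Injective (g.1).mulVecLin := fun g =>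
      MulAction.injective g
    have hmul : ∀ g h j, img (g * h) j = (img h j).map (g.1).mulVecLin := fun g h j => by
      rw [← Submodule.map_comp, ← Matrix.mulVecLin_mul]; rfl
    have hsurjg : ∀ g : Matrix.symplecticGroup (Fin d) F, Function.Surjective (g.1).mulVecLin := fun g v =>
      ⟨g⁻¹ • v, smul_inv_smul g v⟩
    have hQ : ∀ g, Q (img g) := fun g => by
      have hnd : ∀ j, ∀ u ∈ img g j, u ≠ 0 → ∃ v ∈ img g j, Cfsg.sympForm d F u v ≠ 0 := fun j => by
        rintro _ ⟨x, hx, rfl⟩ h0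
        obtain ⟨v, hv, hne⟩ := hD₁.2.1 j x hx fun h => h0 (by rw [h, map_zero])
        exact ⟨_, ⟨v, hv, rfl⟩, by
          show H48.sf (g • x) (g • v) ≠ 0
          rw [H48.sf_smul_smul]; exact hne⟩
      have horth : ∀ j j', j ≠ j' → ∀ u ∈ img g j, ∀ v ∈ img g j', Cfsg.sympForm d F u v = 0 := fun j j' hne => by
        rintro _ ⟨x, hx, rfl⟩ _ ⟨y, hy, rfl⟩
        show H48.sf (g • x) (g • y) = 0
        rw [H48.sf_smul_smul]; exact hD₁.2.2 j j' hne x hx y hy
      refine ⟨⟨ht, by omega, fun j => (Submodule.equivMapOfInjective _ (hinj g) (D₁ j)).finrank_eq.symm.trans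
        (hD₁.1.finrank_eq j), indep_of_orth (fun j u hu hv => ?_) horth, ?_⟩, hnd, horth⟩
      · by_contra h0
        obtain ⟨v, hv', hne⟩ := hnd j u hu h0
        exact hne (hv v hv')
      · rw [← Submodule.map_iSup, hD₁.1.iSup_eq_top, Submodule.map_top, LinearMap.range_eq_top]
        exact hsurjg g
    let f : Matrix.symplecticGroup (Fin d) F → X := fun g => ⟨img g, hQ g⟩
    have hs : Function.Surjective f := by
      rintro ⟨D, hD⟩
      have hfam : ∀ (E : Fin t → Submodule F (Fin d ⊕ Fin d → F)), Q E → ∃ P : Fin t × (Fin b ⊕ Fin b) → (Fin d ⊕ Fin d → F),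
          LinearIndependent F P ∧ (∀ j, Submodule.span F (Set.range fun x => P (j, x)) = E j) ∧
          ∀ x y, H48.sf (P x) (P y) = if x.1 = y.1 then Matrix.J (Fin b) F x.2 y.2 else 0 := by
        intro E hE
        have hfj : ∀ j, ∃ pj : Fin b ⊕ Fin b → (Fin d ⊕ Fin d → F),
            H48.IsHyp H48.sf pj ∧ Submodule.span F (Set.range pj) = E j := fun j => by
          obtain ⟨s, pj, hp, hspan, hsd⟩ := H48.exists_hyp_basis (E j) (toNd hE j)
          obtain rfl : s = b := by have := hE.1.finrank_eq j; omega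
          exact ⟨pj, hp, hspan⟩
        choose P hP hPspan using hfj
        have hG : ∀ x y : Fin t × (Fin b ⊕ Fin b),
            H48.sf (P x.1 x.2) (P y.1 y.2) = if x.1 = y.1 then Matrix.J (Fin b) F x.2 y.2 else 0 := by
          rintro ⟨j, x⟩ ⟨j', y⟩
          dsimp only
          split_ifs with h
          · subst h; exact hP j x y
          · exact hE.2.2 j j' h _ (hPspan j ▸ Submodule.subset_span ⟨x, rfl⟩) _
              (hPspan j' ▸ Submodule.subset_span ⟨y, rfl⟩)
        refine ⟨fun x => P x.1 x.2, linearIndependent_of_top_le_span_of_card_eq_finrank ?_ ?_, hPspan, hG⟩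
        · rw [← hE.1.iSup_eq_top]
          refine iSup_le fun j => ?_
          rw [← hPspan j]
          exact Submodule.span_mono fun v ⟨x, hx⟩ => ⟨(j, x), hx⟩
        · rw [Fintype.card_prod, Fintype.card_sum, Fintype.card_fin, Fintype.card_fin, finrank_sympV, hdbt]
          ring
      obtain ⟨P₁, hP₁, hs₁, hG₁⟩ := hfam D₁ hD₁
      obtain ⟨P, hP, hs', hG⟩ := hfam D hD
      obtain ⟨g, -, hg⟩ := H48.witt P₁ P hP₁ hP fun x y => (hG₁ x y).trans (hG x y).symm
      refine ⟨g, Subtype.ext (funext fun j => ?_)⟩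
      show (D₁ j).map (g.1).mulVecLin = D j
      rw [← hs₁ j, ← hs' j, Submodule.map_span, ← Set.range_comp]
      congr 1
      exact congrArg Set.range (funext fun x => hg (j, x))
    have himg1 : ∀ j, img 1 j = D₁ j := fun j => by
      show (D₁ j).map (1 : Matrix (Fin d ⊕ Fin d) (Fin d ⊕ Fin d) F).mulVecLin = D₁ j
      rw [Matrix.mulVecLin_one, Submodule.map_id]
    let S : Subgroup (Matrix.symplecticGroup (Fin d) F) :=
      { carrier := {g | ∀ j, img g j = D₁ j}
        one_mem' := himg1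
        mul_mem' := fun {g h} hg hh j => by rw [hmul, hh j]; exact hg j
        inv_mem' := fun {g} hg j => by
          conv_lhs => rw [show img g⁻¹ j = (D₁ j).map (g⁻¹ : Matrix.symplecticGroup (Fin d) F).1.mulVecLin from rfl,
            ← hg j, ← hmul, inv_mul_cancel]
          exact himg1 j }
    refine Dvd.intro _ (card_fibres f hs S fun g h => ?_).symm
    rw [Subtype.ext_iff]
    show img g = img h ↔ ∀ j, img (g⁻¹ * h) j = D₁ j
    refine ⟨fun e j => ?_, fun e => funext fun j => ?_⟩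
    · rw [hmul, ← e, ← hmul, inv_mul_cancel]; exact himg1 j
    · conv_rhs => rw [show h = g * (g⁻¹ * h) by rw [mul_inv_cancel_left], hmul, e j]
  · show Nat.factorial t ∣ Nat.card X
    have hinjD : ∀ D : X, Function.Injective D.1 := by
      intro D i j hij
      by_contra hne
      have := D.2.1.indep.pairwiseDisjoint hne
      rw [Function.onFun, hij, disjoint_self] at this
      have h2 := D.2.1.finrank_eq j
      rw [this, finrank_bot] at h2
      omega
    let f : X → Set (Submodule F (Fin d ⊕ Fin d → F)) := fun D => Set.range D.1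
    rw [← Nat.card_congr (Equiv.sigmaFiberEquiv fun D : X => (⟨f D, ⟨D, rfl⟩⟩ : Set.range f)), Nat.card_sigma]
    refine Finset.dvd_sum fun y _ => ?_
    obtain ⟨_, ⟨D₀, rfl⟩⟩ := y
    let perm : X → Equiv.Perm (Fin t) → X := fun D π => ⟨fun j => D.1 (π j),
      ⟨D.2.1.two_le, D.2.1.pos, fun j => D.2.1.finrank_eq _, D.2.1.indep.comp π.injective, by
        rw [Equiv.iSup_comp (g := D.1) π]; exact D.2.1.iSup_eq_top⟩,
      fun j => D.2.2.1 _, fun j j' h => D.2.2.2 _ _ fun e => h (π.injective e)⟩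
    have hf : ∀ π, f (perm D₀ π) = f D₀ := fun π => by
      show Set.range (D₀.1 ∘ π) = _
      rw [Set.range_comp, π.surjective.range_eq, Set.image_univ]
    let g : Equiv.Perm (Fin t) → {D : X // (⟨f D, ⟨D, rfl⟩⟩ : Set.range f) = ⟨f D₀, ⟨D₀, rfl⟩⟩} :=
      fun π => ⟨perm D₀ π, Subtype.ext (hf π)⟩
    have hg : Function.Bijective g := by
      constructor
      · intro π π' h
        refine Equiv.ext fun j => hinjD D₀ ?_
        exact congrFun (congrArg Subtype.val (congrArg Subtype.val h)) j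
      · rintro ⟨D, hD⟩
        have hD' : Set.range D.1 = Set.range D₀.1 := congrArg Subtype.val hD
        refine ⟨(Equiv.ofInjective _ (hinjD D)).trans ((Equiv.setCongr hD').trans (Equiv.ofInjective _ (hinjD D₀)).symm), ?_⟩
        refine Subtype.ext (Subtype.ext (funext fun j => ?_))
        exact congrArg Subtype.val ((Equiv.ofInjective _ (hinjD D₀)).apply_symm_apply
          (Equiv.setCongr hD' (Equiv.ofInjective _ (hinjD D) j)))
    rw [← Nat.card_congr (Equiv.ofBijective g hg), Nat.card_perm, Nat.card_fin]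

end H44.Elu
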